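import Cfsg.Agent.EqLemmas
import Cfsg.Agent.Lib.PGroup.Basic
import Cfsg.Agent.Lib.FusionChain.Stabilizer

/-!
# Automorphisms of odd order of 2-groups

Fixed points in invariant cosets, Burnside's lemma on the Frattini quotient, and some consequences.
-/

set_option autoImplicit false
set_option linter.style.haveILetI false

namespace Cfsg.Agent.BicyclicFusion

open Subgroup

variable {X : Type*} [Group X]

/-- The fixed points of an automorphism. -/
def fixed (θ : MulAut X) : Subgroup X := θ.toMonoidHom.eqLocus (MonoidHom.id X)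

theorem mem_fixed {θ : MulAut X} {x : X} : x ∈ fixed θ ↔ θ x = x := Iff.rfl

theorem inv_mul_aut_pow_mem {θ : MulAut X} {N : Subgroup X} (hN : ∀ n ∈ N, θ n ∈ N) {x : X}
    (hx : x⁻¹ * θ x ∈ N) : ∀ i : ℕ, x⁻¹ * (θ ^ i) x ∈ N
  | 0 => by simp
  | i + 1 => by
    have h := mul_mem hx (hN _ (inv_mul_aut_pow_mem hN hx i))
    rw [map_mul, map_inv] at h
    simpa [pow_succ', MulAut.mul_apply, mul_assoc] using h

variable [Finite X]

/-- An automorphism of odd prime order of a 2-group fixes a point in every invariant coset. -/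
theorem exists_fixed_mul (hX : IsPGroup 2 X) {p : ℕ} [Fact p.Prime] (hp : p ≠ 2) {θ : MulAut X}
    (hθ : θ ^ p = 1) {N : Subgroup X} (hN : ∀ n ∈ N, θ n ∈ N) {x : X} (hx : x⁻¹ * θ x ∈ N) :
    ∃ n ∈ N, θ (x * n) = x * n := by
  haveI : Fact (Nat.Prime 2) := ⟨Nat.prime_two⟩
  let S : Set X := {y | x⁻¹ * y ∈ N}
  have hstep : ∀ y ∈ S, θ y ∈ S := fun y hy => by
    have h := mul_mem hx (hN _ hy)
    rw [map_mul, map_inv] at h
    simpa [S, mul_assoc] using h
  have hpow : ∀ (g : zpowers θ) (y : X), y ∈ S → (g : MulAut X) y ∈ S := by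
    intro g y hy
    have : ∃ i : ℕ, θ ^ i = (g : MulAut X) := by
      haveI : Finite (MulAut X) := Finite.of_injective (fun α : MulAut X => (α : X → X))
        DFunLike.coe_injective
      exact mem_powers_iff_mem_zpowers.2 g.2
    obtain ⟨i, hi⟩ := this
    rw [← hi]
    clear hi
    induction i with
    | zero => simpa using hy
    | succ i ih => rw [pow_succ', MulAut.mul_apply]; exact hstep _ ih
  let act : MulAction (zpowers θ) S :=
    { smul := fun g y => ⟨(g : MulAut X) y, hpow g y y.2⟩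
      one_smul := fun y => Subtype.ext rfl
      mul_smul := fun g h y => Subtype.ext rfl }
  have hP : IsPGroup p (zpowers θ) := by
    intro g
    refine ⟨1, Subtype.ext ?_⟩
    obtain ⟨i, hi⟩ := mem_zpowers_iff.1 g.2
    rw [pow_one, Subgroup.coe_pow, ← hi, ← zpow_natCast, ← zpow_mul, mul_comm, zpow_mul,
      zpow_natCast, hθ, one_zpow, Subgroup.coe_one]
  have hcard : Nat.card S = Nat.card N :=
    Nat.card_congr ⟨fun y => ⟨x⁻¹ * y, y.2⟩, fun n => ⟨x * n, by simp [S]⟩,
      fun y => by simp, fun n => by simp⟩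
  have hmod := hP.card_modEq_card_fixedPoints (α := S)
  have hne : (MulAction.fixedPoints (zpowers θ) S).Nonempty := by
    by_contra h
    rw [Set.not_nonempty_iff_eq_empty] at h
    rw [h, hcard] at hmod
    obtain ⟨n, hn⟩ := IsPGroup.iff_card.1 (hX.to_subgroup N)
    simp only [Nat.card_eq_fintype_card, Fintype.card_of_isEmpty] at hmod
    rw [Nat.modEq_zero_iff_dvd, hn] at hmod
    exact hp ((Nat.prime_dvd_prime_iff_eq Fact.out Nat.prime_two).1
      ((Fact.out : p.Prime).dvd_of_dvd_pow hmod))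
  obtain ⟨⟨y, hy⟩, hfix⟩ := hne
  refine ⟨x⁻¹ * y, hy, ?_⟩
  rw [mul_inv_cancel_left]
  exact congrArg Subtype.val (hfix ⟨θ, mem_zpowers θ⟩)

/-- Burnside: an automorphism of odd order trivial on the Frattini quotient is trivial. -/
theorem eq_one_of_frattini (hX : IsPGroup 2 X) {α : MulAut X} (hodd : (orderOf α).Coprime 2)
    (h : ∀ x, x⁻¹ * α x ∈ frattini X) : α = 1 := by
  by_contra hne
  haveI : Finite (MulAut X) := Finite.of_injective (fun α : MulAut X => (α : X → X))
    DFunLike.coe_injective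
  have hord : orderOf α ≠ 1 := fun h1 => hne (orderOf_eq_one_iff.1 h1)
  obtain ⟨p, hp, hdvd⟩ := Nat.exists_prime_and_dvd hord
  haveI : Fact p.Prime := ⟨hp⟩
  have hp2 : p ≠ 2 := fun h2 => by
    subst h2
    exact Nat.not_coprime_of_dvd_of_dvd one_lt_two hdvd dvd_rfl hodd
  obtain ⟨m, hm⟩ := hdvd
  set β := α ^ m with hβ
  have hβp : β ^ p = 1 := by rw [hβ, ← pow_mul, mul_comm, ← hm, pow_orderOf_eq_one]
  have hβ1 : β ≠ 1 := fun h1 => by
    have := orderOf_dvd_of_pow_eq_one h1
    rw [hm] at this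
    have hm0 : 0 < m := Nat.pos_of_ne_zero fun h0 => (orderOf_pos α).ne' (by rw [hm, h0, mul_zero])
    have := Nat.le_of_dvd hm0 this
    nlinarith [hp.two_le]
  have hinv : ∀ n ∈ frattini X, α n ∈ frattini X := fun n hn => by
    simpa using mul_mem hn (h n)
  have hinvβ : ∀ n ∈ frattini X, β n ∈ frattini X := fun n hn => by
    simpa using mul_mem hn (inv_mul_aut_pow_mem hinv (h n) m)
  refine hβ1 ?_
  have htop : fixed β = ⊤ := by
    refine frattini_nongenerating (eq_top_iff.2 fun x _ => ?_)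
    obtain ⟨n, hn, hfix⟩ := exists_fixed_mul hX hp2 hβp hinvβ
      (inv_mul_aut_pow_mem hinv (h x) m)
    have : x = x * n * n⁻¹ := by group
    rw [this]
    exact mul_mem (mem_sup_left hfix) (mem_sup_right (inv_mem hn))
  ext x
  exact mem_fixed.1 (htop ▸ mem_top x)

/-- An invariant subgroup of index at most two is centralised on the quotient. -/
theorem mem_of_index_le_two {α : MulAut X} {N : Subgroup X} (hinv : ∀ n ∈ N, α n ∈ N)
    (hi : N.index ≤ 2) (x : X) : x⁻¹ * α x ∈ N := by
  by_cases h1 : N.index = 1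
  · rw [index_eq_one.1 h1]; trivial
  have h2 : N.index = 2 := by
    have := N.index_ne_zero_of_finite
    omega
  by_cases hx : x ∈ N
  · exact mul_mem (inv_mem hx) (hinv x hx)
  · refine (mul_mem_iff_of_index_two h2).2 ?_
    rw [inv_mem_iff]
    refine iff_of_false hx fun hax => hx ?_
    have hsurj : Function.Surjective (fun n : N => (⟨α n, hinv n n.2⟩ : N)) :=
      Finite.surjective_of_injective fun a b e => Subtype.ext (α.injective (congrArg Subtype.val e))
    obtain ⟨n, hn⟩ := hsurj ⟨α x, hax⟩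
    exact α.injective (congrArg Subtype.val hn) ▸ n.2

/-- An automorphism of odd order of a cyclic 2-group is trivial. -/
theorem eq_one_of_isCyclic (hX : IsPGroup 2 X) [hc : IsCyclic X] {α : MulAut X}
    (hodd : (orderOf α).Coprime 2) : α = 1 := by
  haveI : Fact (Nat.Prime 2) := ⟨Nat.prime_two⟩
  refine eq_one_of_frattini hX hodd (mem_of_index_le_two (fun n hn => ?_) ?_)
  · exact (characteristic_iff_map_eq.1 (inferInstance : (frattini X).Characteristic) α) ▸
      mem_map_of_mem α.toMonoidHom hn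
  · have hcq : IsCyclic (X ⧸ frattini X) :=
      isCyclic_of_surjective (QuotientGroup.mk' _) (QuotientGroup.mk'_surjective _)
    obtain ⟨g, hg⟩ := IsCyclic.exists_ofOrder_eq_natCard (α := X ⧸ frattini X)
    rw [index_eq_card, ← hg]
    refine Nat.le_of_dvd two_pos (orderOf_dvd_of_pow_eq_one ?_)
    obtain ⟨x, rfl⟩ := QuotientGroup.mk'_surjective _ g
    rw [← map_pow]
    exact (QuotientGroup.eq_one_iff _).2 (PGroup.pow_mem_frattini hX x)

/-- A 2-group with an elementary quotient of order at most eight on which an automorphism of order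
three fixes only the identity: the quotient has order one or four. -/
theorem index_of_fpf {θ : MulAut X} (hθ : θ ^ 3 = 1) {N : Subgroup X} [N.Normal]
    (hN : ∀ n ∈ N, θ n ∈ N) (h2 : IsPGroup 2 X) (h8 : N.index ≤ 8)
    (hfpf : ∀ x, x⁻¹ * θ x ∈ N → x ∈ N) : N.index = 1 ∨ N.index = 4 := by
  haveI : Fact (Nat.Prime 3) := ⟨Nat.prime_three⟩
  haveI : Fact (Nat.Prime 2) := ⟨Nat.prime_two⟩
  have hle : N ≤ N.comap θ.toMonoidHom := hN
  let f : X ⧸ N →* X ⧸ N := QuotientGroup.map N N θ.toMonoidHom hle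
  have hf3 : ∀ z, f (f (f z)) = z := fun z => by
    obtain ⟨x, rfl⟩ := QuotientGroup.mk_surjective z
    simp only [f, QuotientGroup.map_mk]
    congr 1
    exact DFunLike.congr_fun hθ x
  let e : MulAut (X ⧸ N) :=
    { toFun := f
      invFun := fun z => f (f z)
      left_inv := hf3
      right_inv := hf3
      map_mul' := map_mul f }
  have he : e ^ 3 = 1 := by ext z; exact hf3 z
  have hP : IsPGroup 3 (zpowers e) := by
    intro g
    refine ⟨1, Subtype.ext ?_⟩
    obtain ⟨i, hi⟩ := mem_zpowers_iff.1 g.2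
    rw [pow_one, Subgroup.coe_pow, ← hi, ← zpow_natCast, ← zpow_mul, mul_comm, zpow_mul,
      zpow_natCast, he, one_zpow, Subgroup.coe_one]
  have hmod := hP.card_modEq_card_fixedPoints (α := X ⧸ N)
  have hfix : MulAction.fixedPoints (zpowers e) (X ⧸ N) = {1} := by
    refine Set.eq_singleton_iff_unique_mem.2 ⟨fun g => map_one (g : MulAut (X ⧸ N)), fun z hz => ?_⟩
    have h := hz ⟨e, mem_zpowers e⟩
    obtain ⟨x, rfl⟩ := QuotientGroup.mk_surjective z
    exact (QuotientGroup.eq_one_iff x).2 (hfpf x (QuotientGroup.eq.1 (Eq.symm h)))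
  rw [hfix, ← index_eq_card] at hmod
  simp only [Nat.card_eq_fintype_card] at hmod
  obtain ⟨n, hn⟩ := IsPGroup.iff_card.1 (h2.to_quotient N)
  rw [← index_eq_card] at hn
  rw [hn] at hmod h8 ⊢
  have hn3 : n ≤ 3 := (Nat.pow_le_pow_iff_right one_lt_two).1 (h8.trans_eq (by norm_num))
  interval_cases n <;> simp_all [Nat.ModEq]

end Cfsg.Agent.BicyclicFusion
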