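import Cfsg.Agent.Lib.BicyclicFusion.SLModel

/-!
# With cyclic derived group there is a saturated system that is not the inner one
-/

set_option autoImplicit false
set_option linter.style.haveILetI false

namespace Cfsg.Agent.BicyclicFusion

open Realize

/-- The reverse direction of the criterion. -/
theorem exists_noninner_of_isCyclic {Ω : Type*} [Group Ω] {S : Subgroup Ω} [Finite S]
    (hS : IsPGroup 2 S) (hb : ∃ x y : ↥S, ∀ g : ↥S, ∃ i j : ℤ, g = x ^ i * y ^ j)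
    (hm : ¬ Cfsg.IsMetacyclic ↥S) (hcyc : IsCyclic ↥(commutator ↥S)) :
    ∃ F : Cfsg.FusionSystem S, F.IsSaturated 2 ∧
      ¬ ∀ P : Subgroup Ω, F.Hom P = (Cfsg.innerFusionSystem S).Hom P := by
  obtain ⟨x, y, hxy⟩ := hb
  obtain ⟨B⟩ := exists_basis hS hxy hm
  obtain ⟨n, r, e, ρ, l, hn, hρ, ⟨d⟩, h⟩ := exists_sData hS B hcyc
  rcases h with ⟨hn2, rfl⟩ | ⟨rfl, hgeom⟩
  · obtain ⟨L, _, _, ⟨m⟩⟩ := exists_model_SL (r := r) (l := l) hn2 hρ d.pow_modEq d.geom_modEq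
    exact exists_noninner hS d m
  · have hpow : ρ ^ (2 ^ r) ≡ 1 [ZMOD 2 ^ (n + 1)] := by
      rw [Int.modEq_comm, Int.modEq_iff_dvd, ← geom_mul]
      obtain ⟨u, hu⟩ := Int.modEq_iff_dvd.1 hgeom.symm
      obtain ⟨v, hv⟩ := d.fix_dvd
      exact ⟨u * (ρ - 1) + v, by rw [pow_succ] at hu ⊢; linear_combination (ρ - 1) * hu + 2 * hv⟩
    obtain ⟨L, _, _, ⟨m⟩⟩ := exists_model_PSL (r := r) (l := l) hn hρ hpow hgeom
    exact exists_noninner hS d m

end Cfsg.Agent.BicyclicFusion
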