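import Cfsg.Agent.Lib.BicyclicFusion.CaseQuat
import Cfsg.Agent.Lib.Fusion.Essential

/-!
# With noncyclic derived group every saturated fusion system is the inner one
-/

set_option autoImplicit false
set_option linter.style.haveILetI false

namespace Cfsg.Agent.BicyclicFusion

open Subgroup Cfsg.Agent.Fusion
open scoped commutatorElement

variable {Ω : Type*} [Group Ω] {S : Subgroup Ω}

/-- The data at an essential subgroup below `S`. -/
theorem exists_ess [Finite S] (hS : IsPGroup 2 S) {F : Cfsg.FusionSystem S} (hF : F.IsSaturated 2)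
    {R : Subgroup Ω} (he : F.IsEssential 2 R) (hlt : R < S) :
    Nonempty (Ess (R.subgroupOf S)) := by
  haveI : Fact (Nat.Prime 2) := ⟨Nat.prime_two⟩
  obtain ⟨hc, hn, -⟩ := id he
  have hrad := radical_of_essential hS he
  rcases dichotomy hS hF hlt hn with ⟨hne, -⟩ | ⟨-, hI, hSE⟩
  · exact absurd he hne
  haveI := finite_mulAut (S := S) hlt.le
  set A0 := F.autGroup R with hA0
  set E : Subgroup S := R.subgroupOf S with hE
  let eqv : ↥E ≃* ↥R := Subgroup.subgroupOfEquivOfLe hlt.le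
  let Φ : MulAut ↥E ≃* MulAut ↥R := MulAut.congr eqv
  have hΦapply : ∀ (α : MulAut ↥E) (x : R), Φ α x = eqv (α (eqv.symm x)) := fun α x => rfl
  have hΦinj : ∀ (α : MulAut ↥E) (r : R), Φ α = MulAut.conj r → α = MulAut.conj (eqv.symm r) := by
    intro α r h
    refine MulEquiv.ext fun x => eqv.injective ?_
    have := DFunLike.congr_fun h (eqv x)
    rw [hΦapply, eqv.symm_apply_apply] at this
    rw [this, MulAut.conj_apply, MulAut.conj_apply, map_mul, map_mul, map_inv, eqv.apply_symm_apply]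
  have hcj : ∀ (g : S) (hg : g ∈ normalizer (E : Set S)),
      Φ (cj hg) ∈ Cfsg.autInducedBy S R := by
    intro g hg
    refine mem_autInducedBy_iff.2 ⟨(g : Ω), g.2, fun x => ?_⟩
    show (((cj hg (eqv.symm x) : ↥E) : S) : Ω) = _
    rw [cj_apply]
    rfl
  have hup : upGroup F R ≤ A0 := upGroup_le_autGroup hlt.le
  have hTup : Cfsg.autInducedBy S R ≤ upGroup F R := autS_le_upGroup hS hlt
  have hInnUp : Cfsg.Inn R ≤ upGroup F R := (inn_le_autInducedBy hlt.le).trans hTup
  set π := QuotientGroup.mk' ((Cfsg.Inn R).subgroupOf A0)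
  set H := (upGroup F R).subgroupOf A0
  have hker : ∀ a : A0, π a = 1 ↔ (a : MulAut R) ∈ Cfsg.Inn R := fun a => by
    rw [← MonoidHom.mem_ker, QuotientGroup.ker_mk', Subgroup.mem_subgroupOf]
  have hmapH : (H.map π).comap π = H :=
    Subgroup.comap_map_eq_self fun a ha => hInnUp ((hker a).1 ha)
  refine ⟨
    { A := A0.comap Φ.toMonoidHom
      M := (upGroup F R).comap Φ.toMonoidHom
      ne_top := fun h => hlt.not_ge (Subgroup.subgroupOf_eq_top.1 h)
      cent := ?_
      cj_mem := fun g hg => hup (hTup (hcj g hg))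
      cj_mem_M := fun g hg => hTup (hcj g hg)
      radical := ?_
      M_le := comap_mono hup
      M_ne := ?_
      strong := ?_ }⟩
  · intro g hg
    refine mem_subgroupOf.2 (hc.2 R (isConj_refl F hlt.le) ⟨g.2, mem_centralizer_iff.2 fun x hx => ?_⟩)
    exact congrArg Subtype.val (mem_centralizer_iff.1 hg ⟨x, hlt.le hx⟩ (mem_subgroupOf.2 hx))
  · intro K hKA hK hnorm k hk
    set K0 : Subgroup A0 := (K.map Φ.toMonoidHom).subgroupOf A0 with hK0
    have hmem : ∀ a : A0, a ∈ K0 ↔ ∃ k ∈ K, Φ k = (a : MulAut R) := fun a => Iff.rfl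
    have hK0n : K0.Normal := by
      refine ⟨fun a ha g => ?_⟩
      obtain ⟨k', hk', e⟩ := (hmem a).1 ha
      have hg : Φ.symm (g : MulAut R) ∈ A0.comap Φ.toMonoidHom := by
        show Φ (Φ.symm (g : MulAut R)) ∈ A0
        rw [Φ.apply_symm_apply]; exact g.2
      refine (hmem _).2 ⟨_, hnorm _ hg k' hk', ?_⟩
      rw [map_mul, map_mul, map_inv, Φ.apply_symm_apply, e]
      rfl
    have hK0p : IsPGroup 2 K0 :=
      (hK.map Φ.toMonoidHom).comap_of_injective A0.subtype A0.subtype_injective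
    have hmem' : (⟨Φ k, hKA hk⟩ : A0) ∈ K0 := (hmem _).2 ⟨k, hk, rfl⟩
    have hcore : (⟨Φ k, hKA hk⟩ : A0) ∈ Cfsg.pCore 2 A0 :=
      FusionChain.le_pCore_of_normal K0 hK0n hK0p hmem'
    have hinn : Φ k ∈ Cfsg.Inn R := hrad.2 ▸ ⟨_, hcore, rfl⟩
    obtain ⟨r, hr⟩ := hinn
    exact ⟨eqv.symm r, hΦinj k r hr.symm⟩
  · intro h
    refine hSE.2.1 (eq_top_iff.2 fun q _ => ?_)
    obtain ⟨a, rfl⟩ := QuotientGroup.mk'_surjective _ q
    refine mem_map_of_mem π ?_
    have ha : Φ.symm (a : MulAut R) ∈ A0.comap Φ.toMonoidHom := by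
      show Φ (Φ.symm (a : MulAut R)) ∈ A0
      rw [Φ.apply_symm_apply]; exact a.2
    rw [← h] at ha
    show (a : MulAut R) ∈ upGroup F R
    have := (show Φ (Φ.symm (a : MulAut R)) ∈ upGroup F R from ha)
    rwa [Φ.apply_symm_apply] at this
  · intro g hg hgM x hx hgx hx2
    by_contra hne
    set gA : A0 := ⟨Φ g, hg⟩ with hgA
    set xA : A0 := ⟨Φ x, hup hx⟩ with hxA
    have hπx : π xA ≠ 1 := fun h => by
      obtain ⟨r, hr⟩ := (hker xA).1 h
      exact hne ⟨eqv.symm r, hΦinj x r hr.symm⟩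
    have hxA2 : xA ^ 2 = 1 := Subtype.ext (by
      show Φ x ^ 2 = 1
      rw [← map_pow, pow_two, hx2, map_one])
    have hord : orderOf (π xA) = 2 := orderOf_eq_prime (by rw [← map_pow, hxA2, map_one]) hπx
    refine hgM ?_
    have hxH : π xA ∈ H.map π := mem_map_of_mem π hx
    have hconj : (π gA)⁻¹ * π xA * (π gA)⁻¹⁻¹ ∈ H.map π := by
      rw [inv_inv, ← map_inv, ← map_mul, ← map_mul]
      refine mem_map_of_mem π ?_
      show (Φ g)⁻¹ * Φ x * Φ g ∈ upGroup F R
      rw [← map_inv, ← map_mul, ← map_mul]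
      exact hgx
    have := StrongPEmb.mem_of_conj_mem hSE hord hxH hconj
    have h2 : gA ∈ (H.map π).comap π := by
      rw [mem_comap]
      exact (Subgroup.inv_mem_iff _).1 this
    rw [hmapH] at h2
    exact h2

/-- A saturated fusion system is inner if `S'` is not cyclic. -/
theorem eq_inner_of_not_cyclic [Finite S] (hy : Hyp S) {F : Cfsg.FusionSystem S}
    (hF : F.IsSaturated 2) : F = Cfsg.innerFusionSystem S := by
  haveI : Fact (Nat.Prime 2) := ⟨Nat.prime_two⟩
  have hS := hy.pg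
  obtain ⟨B⟩ := hy.basis
  have hA : IsPGroup 2 (F.autGroup S) := (B.isPGroup_mulAut hS).to_subgroup _
  refine ext_of_le (le_of_isMap fun P f hf => ?_) (innerFusionSystem_le F)
  refine alperin_essential hS hF (fun P f => IsMap (Cfsg.innerFusionSystem S) P f)
    (fun _ _ _ _ h e => h.congr e) (fun _ _ _ _ hle h => h.mono hle)
    (fun _ _ _ _ _ _ hm h1 h2 => h1.comp h2 hm) (fun R hR α hα => ?_) hf
  rcases eq_or_lt_of_le (show R ≤ S from hR.elim (fun h => h.le) fun he => he.1.1) with rfl | hlt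
  · have hsyl := (isFullyAutomized_iff.1
      (fullyAutomized_of_fullyNormalized hS hF (isFullyNormalized_self F))).2
    have hαS : α ∈ Cfsg.autInducedBy R R := hsyl.2.2 _ hsyl.le le_rfl hA ▸ hα
    obtain ⟨g, hg, e⟩ := mem_autInducedBy_iff.1 hαS
    exact isMap_inner_iff.2 ⟨le_rfl, g, hg, fun x hx => (autFn_apply α hx).trans (e ⟨x, hx⟩)⟩
  · obtain ⟨D⟩ := exists_ess hS hF (hR.resolve_left hlt.ne) hlt
    exact (hy.no_ess D).elim

/-- The forward direction. -/
theorem isCyclic_of_noninner [Finite S] (hS : IsPGroup 2 S)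
    (hb : ∃ x y : ↥S, ∀ g : ↥S, ∃ i j : ℤ, g = x ^ i * y ^ j) (hm : ¬ Cfsg.IsMetacyclic ↥S)
    {F : Cfsg.FusionSystem S} (hF : F.IsSaturated 2)
    (hne : ¬ ∀ P : Subgroup Ω, F.Hom P = (Cfsg.innerFusionSystem S).Hom P) :
    IsCyclic ↥(_root_.commutator ↥S) := by
  by_contra hnc
  obtain ⟨x, y, hxy⟩ := hb
  refine hne fun P => ?_
  rw [eq_inner_of_not_cyclic ⟨hS, exists_basis hS hxy hm, commutator_comm hxy, hnc⟩ hF]

end Cfsg.Agent.BicyclicFusion
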