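import Cfsg.Agent.EqLemmas
import Mathlib.GroupTheory.Perm.Basic

/-!
# A group of automorphisms of an elementary group of order eight without strongly embedded subgroup

`E` is elementary with generators `b`, `t`, `y`; `θ` has order three, `τ` is the transvection
`b ↦ t b` and `g` maps `b` to `y b` and `⟨t, y⟩` to itself. A group `A` containing these has all four
transvections with axis `⟨t, y⟩`, and no proper subgroup `M ∋ τ` is strongly embedded in it.
-/

set_option autoImplicit false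
set_option linter.style.haveILetI false
set_option linter.unusedSectionVars false
set_option linter.unusedSimpArgs false

namespace Cfsg.Agent.BicyclicFusion.Transvection

variable {E : Type*} [Group E]

/-- The data. -/
structure Data (E : Type*) [Group E] where
  b : E
  t : E
  y : E
  exp : ∀ x : E, x * x = 1
  all : ∀ x : E, x = 1 ∨ x = t ∨ x = y ∨ x = t * y ∨ x = b ∨ x = b * t ∨ x = b * y ∨ x = b * (t * y)
  t_ne : t ≠ 1
  y_ne : y ≠ 1
  ty_ne : t ≠ y
  b_ne : b ≠ 1 ∧ b ≠ t ∧ b ≠ y ∧ b ≠ t * y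

namespace Data

variable (D : Data E)
include D

theorem comm (x z : E) : x * z = z * x := by
  have h := D.exp (x * z)
  calc x * z = x * (x * z * (x * z)) * z := by rw [h, mul_one]
    _ = x * x * (z * x) * (z * z) := by group
    _ = z * x := by rw [D.exp, D.exp, one_mul, mul_one]

theorem cancel (x z : E) : x * (x * z) = z := by rw [← mul_assoc, D.exp, one_mul]

theorem left_comm (x z w : E) : x * (z * w) = z * (x * w) := by
  rw [← mul_assoc, D.comm x z, mul_assoc]

/-- `α` is the transvection with axis `⟨t, y⟩` and centre `p`. -/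
def Tv (α : MulAut E) (p : E) : Prop := α D.t = D.t ∧ α D.y = D.y ∧ α D.b = D.b * p

/-- Membership in the plane `⟨t, y⟩`. -/
def InW (x : E) : Prop := x = 1 ∨ x = D.t ∨ x = D.y ∨ x = D.t * D.y

theorem ext_gen {α β : MulAut E} (hb : α D.b = β D.b) (ht : α D.t = β D.t) (hy : α D.y = β D.y) :
    α = β := MulEquiv.ext fun x => by
  rcases D.all x with h | h | h | h | h | h | h | h <;> rw [h] <;>
    simp only [map_one, map_mul, hb, ht, hy]

theorem tv_fix {α : MulAut E} {p : E} (h : D.Tv α p) {x : E} (hx : D.InW x) : α x = x := by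
  rcases hx with rfl | rfl | rfl | rfl
  exacts [map_one α, h.1, h.2.1, by rw [map_mul, h.1, h.2.1]]

theorem inW_mul {p q : E} (hp : D.InW p) (hq : D.InW q) : D.InW (p * q) := by
  rcases hp with rfl | rfl | rfl | rfl <;> rcases hq with rfl | rfl | rfl | rfl <;>
    simp [InW, mul_assoc, D.comm, D.left_comm, D.cancel, D.exp]

theorem inW_or (x : E) : D.InW x ∨ D.InW (D.b * x) := by
  rcases D.all x with h | h | h | h | h | h | h | h <;> subst h <;>
    simp [InW, D.cancel, D.exp]

theorem tv_apply {α : MulAut E} {p : E} (h : D.Tv α p) (x : E) : α x = x ∨ α x = x * p := by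
  rcases D.inW_or x with hx | hx
  · exact Or.inl (D.tv_fix h hx)
  · refine Or.inr ?_
    have e : α (D.b * x) = D.b * x := D.tv_fix h hx
    rw [map_mul, h.2.2, mul_assoc] at e
    rw [← D.cancel p (α x), mul_left_cancel e]
    exact D.comm _ _

theorem tv_mul {α β : MulAut E} {p q : E} (hα : D.Tv α p) (hq : D.InW q) (hβ : D.Tv β q) :
    D.Tv (α * β) (p * q) := by
  refine ⟨?_, ?_, ?_⟩ <;> simp only [MulAut.mul_apply]
  · rw [hβ.1, hα.1]
  · rw [hβ.2.1, hα.2.1]
  · rw [hβ.2.2, map_mul, hα.2.2, D.tv_fix hα hq, mul_assoc]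

theorem tv_unique {α β : MulAut E} {p : E} (hα : D.Tv α p) (hβ : D.Tv β p) : α = β :=
  D.ext_gen (hα.2.2.trans hβ.2.2.symm) (hα.1.trans hβ.1.symm) (hα.2.1.trans hβ.2.1.symm)

theorem tv_sq {α : MulAut E} {p : E} (hp : D.InW p) (h : D.Tv α p) : α * α = 1 :=
  D.ext_gen
    (by rw [MulAut.mul_apply, h.2.2, map_mul, h.2.2, D.tv_fix h hp, mul_assoc, D.exp, mul_one]; rfl)
    (by rw [MulAut.mul_apply, h.1, h.1]; rfl) (by rw [MulAut.mul_apply, h.2.1, h.2.1]; rfl)

theorem tv_ne_one {α : MulAut E} {p : E} (hp : p ≠ 1) (h : D.Tv α p) : α ≠ 1 := fun e => hp (by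
  have := h.2.2
  rw [e, MulAut.one_apply] at this
  exact mul_left_cancel (this.symm.trans (mul_one _).symm))

variable {θ τ g : MulAut E}

/-- A second transvection with the same axis. -/
theorem exists_tv {A : Subgroup (MulAut E)} (hθA : θ ∈ A) (hτA : τ ∈ A) (hgA : g ∈ A)
    (hθb : θ D.b = D.t) (hθt : θ D.t = D.b * D.t) (hθy : θ D.y = D.y)
    (hτ : D.Tv τ D.t) (hgb : g D.b = D.y * D.b)
    (hgt : D.InW (g D.t)) (hgy : D.InW (g D.y))
    (hg2 : g (g D.t) = D.t ∧ g (g D.y) = D.y) :
    ∃ σ ∈ A, D.Tv σ D.y ∨ D.Tv σ (D.t * D.y) := by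
  obtain ⟨hτt, hτy, hτb⟩ := hτ
  have hne : g D.t ≠ 1 ∧ g D.y ≠ 1 ∧ g D.t ≠ g D.y :=
    ⟨fun h => D.t_ne (g.injective (h.trans (map_one g).symm)),
      fun h => D.y_ne (g.injective (h.trans (map_one g).symm)), fun h => D.ty_ne (g.injective h)⟩
  obtain ⟨h1, h2, h3⟩ := hne
  rcases hgt with e | e | e | e
  · exact absurd e h1
  · rcases hgy with e' | e' | e' | e'
    · exact absurd e' h2
    · exact absurd (e.trans e'.symm) h3
    · exact ⟨g, hgA, Or.inl ⟨e, e', by rw [hgb, D.comm]⟩⟩
    · refine ⟨θ * g * θ * g * θ * g * θ * θ * g * θ, by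
        repeat' apply mul_mem
        all_goals assumption, Or.inr ⟨?_, ?_, ?_⟩⟩ <;>
        simp only [MulAut.mul_apply, map_mul, hθb, hθt, hθy, hgb, e, e'] <;>
        simp [mul_assoc, D.comm, D.left_comm, D.cancel, D.exp]
  · rcases hgy with e' | e' | e' | e'
    · exact absurd e' h2
    · exact ⟨g * g, mul_mem hgA hgA, Or.inr ⟨by rw [MulAut.mul_apply, e, e'],
        by rw [MulAut.mul_apply, e', e],
        by rw [MulAut.mul_apply, hgb, map_mul, e', hgb, D.comm D.y D.b, ← mul_assoc,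
          D.comm D.t D.b, mul_assoc]⟩⟩
    · exact absurd (e.trans e'.symm) h3
    · exfalso
      have := hg2.1
      rw [e, e'] at this
      exact D.y_ne (mul_left_cancel (this.trans (mul_one _).symm))
  · rcases hgy with e' | e' | e' | e'
    · exact absurd e' h2
    · exfalso
      have := hg2.2
      rw [e', e] at this
      exact D.t_ne (mul_right_cancel (this.trans (one_mul _).symm))
    · refine ⟨g * τ * g, mul_mem (mul_mem hgA hτA) hgA, Or.inr ⟨?_, ?_, ?_⟩⟩ <;>
        simp only [MulAut.mul_apply, map_mul, hτt, hτy, hτb, hgb, e, e'] <;>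
        simp [mul_assoc, D.comm, D.left_comm, D.cancel, D.exp]
    · exact absurd (e.trans e'.symm) h3

/-- No strongly embedded subgroup containing `τ`. -/
theorem no_strong {A M : Subgroup (MulAut E)} (hMA : M ≤ A) (hne : M ≠ A) (hτM : τ ∈ M)
    (hstrong : ∀ k ∈ A, k ∉ M → ∀ x ∈ M, k⁻¹ * x * k ∈ M → x * x = 1 → x = 1)
    (hτ : D.Tv τ D.t) {σ : MulAut E} (hσA : σ ∈ A) (hσ : D.Tv σ D.y ∨ D.Tv σ (D.t * D.y)) :
    False := by
  have hcommM : ∀ u ∈ M, u * u = 1 → u ≠ 1 → ∀ k ∈ A, k * u = u * k → k ∈ M := by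
    intro u hu hu2 hu1 k hk hku
    by_contra hkM
    exact hu1 (hstrong k hk hkM u hu (by rw [mul_assoc, ← hku, inv_mul_cancel_left]; exact hu) hu2)
  have hWt : D.InW D.t := Or.inr (Or.inl rfl)
  have hWy : D.InW D.y := Or.inr (Or.inr (Or.inl rfl))
  have hWty : D.InW (D.t * D.y) := Or.inr (Or.inr (Or.inr rfl))
  have hτ2 : τ * τ = 1 := D.tv_sq hWt hτ
  have hτ1 : τ ≠ 1 := D.tv_ne_one D.t_ne hτ
  -- all transvections with this axis are in `M`
  have hU : ∀ p, D.InW p → ∃ u ∈ M, D.Tv u p := by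
    have hσp : ∃ p, D.InW p ∧ D.Tv σ p := hσ.elim (fun h => ⟨_, hWy, h⟩) (fun h => ⟨_, hWty, h⟩)
    obtain ⟨p, hp, hσp⟩ := hσp
    have hσM : σ ∈ M := hcommM τ hτM hτ2 hτ1 σ hσA (D.tv_unique (D.tv_mul hσp hWt hτ)
      (D.comm D.t p ▸ D.tv_mul hτ hp hσp))
    intro q hq
    rcases hq with rfl | rfl | rfl | rfl
    · exact ⟨1, one_mem _, rfl, rfl, by simp⟩
    · exact ⟨τ, hτM, hτ⟩
    · rcases hσ with h | h
      · exact ⟨σ, hσM, h⟩
      · exact ⟨τ * σ, mul_mem hτM hσM, D.cancel D.t D.y ▸ D.tv_mul hτ hWty h⟩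
    · rcases hσ with h | h
      · exact ⟨τ * σ, mul_mem hτM hσM, D.tv_mul hτ hWy h⟩
      · exact ⟨σ, hσM, h⟩
  refine hne (le_antisymm hMA fun k hk => ?_)
  by_contra hkM
  -- the conjugate of `τ` lies in `M`
  suffices hconj : k * τ * k⁻¹ ∈ M by
    refine hτ1 ?_
    have h := hstrong k hk hkM (k * τ * k⁻¹) hconj
      (by rw [show k⁻¹ * (k * τ * k⁻¹) * k = τ by group]; exact hτM)
      (by rw [show k * τ * k⁻¹ * (k * τ * k⁻¹) = k * (τ * τ) * k⁻¹ by group, hτ2]; group)
    simpa using h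
  have hkA : ∀ u ∈ M, k * u * k⁻¹ ∈ A := fun u hu => mul_mem (mul_mem hk (hMA hu)) (inv_mem hk)
  by_cases hW : D.InW (k D.t) ∧ D.InW (k D.y)
  · -- `k` preserves the axis
    have hall : ∀ q, D.InW q → D.InW (k q) := by
      rintro q (rfl | rfl | rfl | rfl)
      · exact Or.inl (map_one k)
      · exact hW.1
      · exact hW.2
      · rw [map_mul]
        exact D.inW_mul hW.1 hW.2
    have hinv : ∀ q, D.InW q → D.InW (k⁻¹ q) := by
      intro q hq
      rcases D.inW_or (k⁻¹ q) with h | h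
      · exact h
      · exfalso
        have hb' : D.InW (k D.b * q) := by
          have := hall _ h
          rwa [map_mul, MulAut.apply_inv_self] at this
        have hkb : D.InW (k D.b) := by
          have := D.inW_mul hb' hq
          rwa [mul_assoc, D.exp, mul_one] at this
        have hEW : ∀ x, D.InW (k x) := fun x => by
          rcases D.inW_or x with hx | hx
          · exact hall x hx
          · have := D.inW_mul hkb (hall _ hx)
            rwa [map_mul, D.cancel] at this
        have := hEW (k⁻¹ D.b)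
        rw [MulAut.apply_inv_self] at this
        rcases this with e | e | e | e
        exacts [D.b_ne.1 e, D.b_ne.2.1 e, D.b_ne.2.2.1 e, D.b_ne.2.2.2 e]
    have hfix : ∀ q, D.InW q → (k * τ * k⁻¹) q = q := fun q hq => by
      rw [MulAut.mul_apply, MulAut.mul_apply, D.tv_fix hτ (hinv q hq), MulAut.apply_inv_self]
    obtain ⟨u, huM, hu⟩ := hU (k D.t) (hall _ hWt)
    have : u = k * τ * k⁻¹ := by
      refine D.ext_gen ?_ (by rw [hfix _ hWt, hu.1]) (by rw [hfix _ hWy, hu.2.1])
      rw [hu.2.2, MulAut.mul_apply, MulAut.mul_apply]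
      rcases D.tv_apply hτ (k⁻¹ D.b) with e | e
      · exfalso
        -- `τ` fixes only the axis
        rcases D.inW_or (k⁻¹ D.b) with h | h
        · have := hall _ h
          rw [MulAut.apply_inv_self] at this
          rcases this with e | e | e | e
          exacts [D.b_ne.1 e, D.b_ne.2.1 e, D.b_ne.2.2.1 e, D.b_ne.2.2.2 e]
        · have h' := D.tv_fix hτ h
          rw [map_mul, hτ.2.2, e, mul_assoc] at h'
          have h'' := mul_left_cancel h'
          exact D.t_ne (mul_right_cancel (h''.trans (one_mul _).symm))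
      · rw [e, map_mul, MulAut.apply_inv_self]
    exact this ▸ huM
  · -- the two axes meet in a point `p`
    obtain ⟨q, hq, hq1, hkq⟩ : ∃ q, D.InW q ∧ q ≠ 1 ∧ D.InW (k q) := by
      by_cases ht : D.InW (k D.t)
      · exact ⟨D.t, hWt, D.t_ne, ht⟩
      by_cases hy : D.InW (k D.y)
      · exact ⟨D.y, hWy, D.y_ne, hy⟩
      refine ⟨D.t * D.y, hWty, fun e => D.ty_ne (by
        rw [← D.cancel D.t D.y, e, mul_one]), ?_⟩
      have h1 := (D.inW_or (k D.t)).resolve_left ht
      have h2 := (D.inW_or (k D.y)).resolve_left hy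
      have h12 := D.inW_mul h1 h2
      rwa [D.comm D.b (k D.t), mul_assoc, D.cancel, ← map_mul] at h12
    obtain ⟨u, huM, hu⟩ := hU (k q) hkq
    obtain ⟨v, hvM, hv⟩ := hU q hq
    set v' := k * v * k⁻¹ with hv'
    have hv'app : ∀ x, v' x = x ∨ v' x = x * k q := fun x => by
      rw [hv', MulAut.mul_apply, MulAut.mul_apply]
      rcases D.tv_apply hv (k⁻¹ x) with e | e
      · exact Or.inl (by rw [e, MulAut.apply_inv_self])
      · exact Or.inr (by rw [e, map_mul, MulAut.apply_inv_self])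
    have hfix1 : u (k q) = k q := D.tv_fix hu hkq
    have hfix2 : v' (k q) = k q := by
      rw [hv', MulAut.mul_apply, MulAut.mul_apply, MulAut.inv_apply_self, D.tv_fix hv hq]
    have hcom : v' * u = u * v' := MulEquiv.ext fun x => by
      show v' (u x) = u (v' x)
      rcases D.tv_apply hu x with e | e <;> rcases hv'app x with e' | e' <;>
        rw [e, e'] <;> simp only [map_mul, hfix1, hfix2, e, e']
    have hu1 : u ≠ 1 := D.tv_ne_one (fun e => hq1 (k.injective (e.trans (map_one k).symm))) hu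
    have hv'M : v' ∈ M := hcommM u huM (D.tv_sq hkq hu) hu1 v' (hkA v hvM) hcom
    refine hcommM v' hv'M ?_ ?_ _ (hkA τ hτM) ?_
    · rw [hv', show k * v * k⁻¹ * (k * v * k⁻¹) = k * (v * v) * k⁻¹ by group, D.tv_sq hq hv]
      group
    · intro e
      refine D.tv_ne_one hq1 hv ?_
      rw [hv', mul_inv_eq_one] at e
      exact mul_left_cancel (e.trans (mul_one k).symm)
    · have : τ * v = v * τ := D.tv_unique (D.comm D.t q ▸ D.tv_mul hτ hq hv) (D.tv_mul hv hWt hτ)
      rw [hv', show k * τ * k⁻¹ * (k * v * k⁻¹) = k * (τ * v) * k⁻¹ by group, this]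
      group

end Data

end Cfsg.Agent.BicyclicFusion.Transvection
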