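import Cfsg.Agent.Lib.BicyclicFusion.CaseThree
import Cfsg.Agent.Lib.BicyclicFusion.Transvection

/-!
# Essential subgroups: `T` a four group outside the Frattini subgroup
-/

set_option autoImplicit false
set_option linter.style.haveILetI false
set_option linter.unusedSectionVars false

namespace Cfsg.Agent.BicyclicFusion

open Subgroup
open scoped commutatorElement

/-- Inside a larger subgroup of a finite 2-group some element outside normalises. -/
theorem exists_normalizing_mem {G : Type*} [Group G] [Finite G] (hG : IsPGroup 2 G)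
    {E K : Subgroup G} (hEK : E ≤ K) (hne : E ≠ K) :
    ∃ h ∈ K, h ∉ E ∧ h ∈ normalizer (E : Set G) := by
  haveI : Fact (Nat.Prime 2) := ⟨Nat.prime_two⟩
  have hne' : E.subgroupOf K ≠ ⊤ := fun h => hne (le_antisymm hEK (subgroupOf_eq_top.1 h))
  obtain ⟨⟨g, hgK⟩, hg, hgE⟩ := PGroup.exists_mem_normalizer_not_mem (hG.to_subgroup _) hne'
  refine ⟨g, hgK, fun h => hgE (mem_subgroupOf.2 h), mem_normalizer_of_conj fun x hx => ?_⟩
  exact mem_subgroupOf.1 ((mem_normalizer_iff.1 hg ⟨x, hEK hx⟩).1 (mem_subgroupOf.2 hx))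

namespace Cx

variable {G : Type*} [Group G] [Finite G] (X : Cx G)

theorem not_four (D : Three X) (hk : Homo X.T 1) : False := by
  haveI : Fact (Nat.Prime 2) := ⟨Nat.prime_two⟩
  haveI := X.finite_aut
  set b : X.E := (D.b : X.E) with hbdef
  set t : X.E := (D.t : X.E) with htdef
  have hsqT : ∀ s : X.T, s * s = 1 := fun s => by
    have := hk.pow_eq_one s; rwa [pow_one, pow_two] at this
  have hsqE : ∀ s ∈ X.T, s * s = 1 := fun s hs => congrArg Subtype.val (hsqT ⟨s, hs⟩)
  have hΦT : ∀ s : X.T, s ∈ frattini X.T → s = 1 := fun s hs => by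
    simpa using (hk.mem_frattini s).2 hs
  have hTcases : ∀ s ∈ X.T, s = 1 ∨ s = b ∨ s = t ∨ s = b * t := by
    intro s hs
    rcases D.classes ⟨s, hs⟩ with h | h | h | h
    · exact Or.inl (congrArg Subtype.val (hΦT _ h))
    · exact Or.inr (Or.inl (congrArg Subtype.val (inv_mul_eq_one.1 (hΦT _ h))).symm)
    · exact Or.inr (Or.inr (Or.inl (congrArg Subtype.val (inv_mul_eq_one.1 (hΦT _ h))).symm))
    · exact Or.inr (Or.inr (Or.inr (congrArg Subtype.val (inv_mul_eq_one.1 (hΦT _ h))).symm))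
  have hb1 : b ≠ 1 := fun h => D.b_frat (by
    rw [show D.b = 1 from Subtype.ext h]; exact one_mem _)
  have ht1 : t ≠ 1 := fun h => D.t_frat (by
    rw [show D.t = 1 from Subtype.ext h]; exact one_mem _)
  have htG : (t : G) ∈ X.hy.W := X.hy.mem_W_of_sq D.t_in (by
    rw [← Subgroup.coe_mul, hsqE t D.t.2, Subgroup.coe_one])
  have hbout : (b : G) ∉ frattini G := D.b_out
  have hbtout : ((b * t : X.E) : G) ∉ frattini G := fun h => hbout (by
    rw [Subgroup.coe_mul] at h
    exact (mul_mem_cancel_right D.t_in).1 h)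
  have hCT1 : ∀ s ∈ X.T, s ∈ X.C → s = 1 := fun s hs hc => X.fixed_eq_one hk hs hc
  have hωt : X.ω t = t := Subtype.ext (by
    rw [X.coe_ω, D.w_cent _ htG, mul_inv_cancel_right])
  -- an involution of `C` in `W`
  obtain ⟨u, hu, hu1, hut⟩ : ∃ u ∈ X.hy.W, u ≠ 1 ∧ u ≠ (t : G) := by
    obtain ⟨u, hu, v, hv, hu1, hv1, huv⟩ := X.hy.exists_pair
    by_cases h : u = (t : G)
    · exact ⟨v, hv, hv1, fun e => huv (h.trans e.symm)⟩
    · exact ⟨u, hu, hu1, h⟩
  obtain ⟨y, hy, s, hs, hys⟩ := X.decomp ⟨u, D.W_le hu⟩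
  have hsW : s = 1 ∨ s = t := by
    rcases hTcases s hs with h | h | h | h
    · exact Or.inl h
    swap
    · exact Or.inr h
    all_goals
      exfalso
      have hωs : X.ω s = t * s := by
        rw [h]
        first
          | exact D.ω_b
          | rw [map_mul, D.ω_b, hωt, mul_assoc]
      have hωu : X.ω (y * s) = y * s := Subtype.ext (by
        rw [← hys, X.coe_ω]
        show X.w * u * X.w⁻¹ = u
        rw [D.w_cent u hu, mul_inv_cancel_right])
      rw [map_mul, hωs] at hωu
      have h1 : X.ω y * t = y := by rwa [← mul_assoc, mul_left_inj] at hωu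
      refine ht1 (hCT1 t D.t.2 ?_)
      have : t = (X.ω y)⁻¹ * y := eq_inv_mul_of_mul_eq h1
      rw [this]
      exact mul_mem (inv_mem (X.ω_C hy)) hy
  have hyW : (y : G) ∈ X.hy.W := by
    have hsW' : (s : G) ∈ X.hy.W := by
      rcases hsW with rfl | rfl
      · exact one_mem _
      · exact htG
    have e : (y : G) = u * (s : G)⁻¹ := by
      have := congrArg Subtype.val hys
      simp only [Subgroup.coe_mul] at this
      rw [show u = (y : G) * (s : G) from this, mul_inv_cancel_right]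
    rw [e]
    exact mul_mem hu (inv_mem hsW')
  have hy1 : y ≠ 1 := fun h => by
    rw [h, one_mul] at hys
    rcases hsW with rfl | rfl
    · exact hu1 (congrArg Subtype.val hys)
    · exact hut (congrArg Subtype.val hys)
  have hty : t ≠ y := fun h => ht1 (hCT1 t D.t.2 (h ▸ hy))
  have hWcases := X.hy.W_cases htG hyW (fun h => ht1 (Subtype.ext h)) (fun h => hy1 (Subtype.ext h))
    (fun h => hty (Subtype.ext h))
  have hyy : y * y = 1 := Subtype.ext (X.hy.mem_W.1 hyW).2
  -- `C` is cyclic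
  have hCc : IsCyclic X.C := by
    have hCp : IsPGroup 2 X.C := X.pgE.to_subgroup _
    set N : Subgroup X.E := (frattini X.C).map X.C.subtype with hN
    have hNC : N ≤ X.C := map_subtype_le _
    have hNn : N.Normal := by
      refine ⟨fun n hn g => ?_⟩
      obtain ⟨⟨n, hnC⟩, hnΦ, rfl⟩ := hn
      obtain ⟨c, hc, r, hr, rfl⟩ := X.decomp g
      refine ⟨_, (inferInstance : (frattini X.C).Normal).conj_mem _ hnΦ ⟨c, hc⟩, ?_⟩
      show c * n * c⁻¹ = c * r * n * (c * r)⁻¹
      rw [mul_assoc c r n, ← D.C_cent n hnC r hr]; group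
    haveI := hNn
    have hle : frattini X.E ≤ N := by
      refine PGroup.frattini_le_of_quotient_elementary (p := 2) ?_ fun g => ?_
      · rw [_root_.commutator_def, commutator_le]
        intro g _ g' _
        obtain ⟨c, hc, r, hr, rfl⟩ := X.decomp g
        obtain ⟨c', hc', r', hr', rfl⟩ := X.decomp g'
        have h1 := D.C_cent c hc r' hr'
        have h2 := D.C_cent c' hc' r hr
        have h3 : r * r' = r' * r := congrArg Subtype.val (hk.comm ⟨r, hr⟩ ⟨r', hr'⟩)
        refine ⟨⁅(⟨c, hc⟩ : X.C), ⟨c', hc'⟩⁆, PGroup.commutatorElement_mem_frattini hCp _ _, ?_⟩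
        show c * c' * c⁻¹ * c'⁻¹ = c * r * (c' * r') * (c * r)⁻¹ * (c' * r')⁻¹
        have h4 : r * (c' * r') = c' * r' * r := by rw [← mul_assoc, ← h2, mul_assoc, h3, ← mul_assoc]
        calc c * c' * c⁻¹ * c'⁻¹ = c * c' * (c⁻¹ * r') * r'⁻¹ * c'⁻¹ := by group
          _ = c * c' * (r' * c⁻¹) * r'⁻¹ * c'⁻¹ := by rw [D.C_cent _ (inv_mem hc) r' hr']
          _ = c * (c' * r' * r) * (c * r)⁻¹ * (c' * r')⁻¹ := by group
          _ = c * r * (c' * r') * (c * r)⁻¹ * (c' * r')⁻¹ := by rw [← h4]; group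
      · obtain ⟨c, hc, r, hr, rfl⟩ := X.decomp g
        refine ⟨⟨c, hc⟩ ^ 2, PGroup.pow_mem_frattini hCp _, ?_⟩
        show c ^ 2 = (c * r) ^ 2
        rw [(show Commute c r from D.C_cent c hc r hr).mul_pow, pow_two r, hsqE r hr, mul_one]
    have hcard : Nat.card X.E = Nat.card X.C * Nat.card X.T := by
      rw [← Nat.card_prod]
      refine (Nat.card_eq_of_bijective (fun p : X.C × X.T => (p.1 : X.E) * p.2) ⟨?_, ?_⟩).symm
      · rintro ⟨c, r⟩ ⟨c', r'⟩ e
        have e' : (c : X.E) * r = c' * r' := e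
        have h1 : (c' : X.E)⁻¹ * c = r' * (r : X.E)⁻¹ := by
          calc (c' : X.E)⁻¹ * c = (c' : X.E)⁻¹ * (c * r) * (r : X.E)⁻¹ := by group
            _ = r' * (r : X.E)⁻¹ := by rw [e']; group
        have h2 := hCT1 _ (mul_mem r'.2 (inv_mem r.2)) (h1 ▸ mul_mem (inv_mem c'.2) c.2)
        rw [h2, inv_mul_eq_one] at h1
        exact Prod.ext (Subtype.ext h1.symm) (Subtype.ext (mul_inv_eq_one.1 h2).symm)
      · intro g
        obtain ⟨c, hc, r, hr, rfl⟩ := X.decomp g
        exact ⟨(⟨c, hc⟩, ⟨r, hr⟩), rfl⟩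
    have hT4 : Nat.card X.T = 4 := by
      rw [← (frattini X.T).card_mul_index, X.fpf.index_frattini,
        show frattini X.T = ⊥ from (eq_bot_iff_forall _).2 hΦT, card_bot, one_mul]
    have hne : X.E.subtype.range ≠ ⊤ := by rw [range_subtype]; exact X.D.ne_top
    have h8 := (X.hy.of_injective X.E.subtype X.E.subtype_injective hne).1
    have hk2 : (frattini X.C).index ≤ 2 := by
      have h1 := Subgroup.card_le_of_le hle
      rw [hN, card_map_of_injective X.C.subtype_injective] at h1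
      have h2 := (frattini X.E).card_mul_index
      rw [hcard, hT4, ← (frattini X.C).card_mul_index] at h2
      have h3 := Nat.card_pos (α := frattini X.C)
      have h4 := Nat.card_pos (α := frattini X.E)
      by_contra hlt
      nlinarith
    by_cases htop : frattini X.C = ⊤
    · haveI := PGroup.isCyclic_of_sup_frattini (G := X.C) (x := 1) (by rw [htop, sup_top_eq])
      infer_instance
    obtain ⟨g, -, hg⟩ := SetLike.exists_of_lt (lt_top_iff_ne_top.2 htop)
    refine PGroup.isCyclic_of_sup_frattini (x := g) (eq_top_iff.2 fun c _ => ?_)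
    by_cases hc : c ∈ frattini X.C
    · exact mem_sup_right hc
    have h2 : (frattini X.C).index = 2 := by
      have := (frattini X.C).index_ne_zero_of_finite
      have h1 : (frattini X.C).index ≠ 1 := fun e => htop (index_eq_one.1 e)
      omega
    have : c = g * (g⁻¹ * c) := by group
    rw [this]
    exact mul_mem (mem_sup_left (mem_zpowers g))
      (mem_sup_right ((mul_mem_iff_of_index_two h2).2 (by rw [inv_mem_iff]; exact iff_of_false hg hc)))
  obtain ⟨⟨g0, hg0⟩, hgen0⟩ := hCc.exists_generator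
  have hC0 : ∀ c ∈ X.C, ∃ i : ℤ, g0 ^ i = c := fun c hc => by
    obtain ⟨i, hi⟩ := mem_zpowers_iff.1 (hgen0 ⟨c, hc⟩)
    exact ⟨i, congrArg Subtype.val hi⟩
  -- `E` is abelian
  have hEcomm : ∀ p q : X.E, p * q = q * p := by
    intro p q
    obtain ⟨c, hc, r, hr, rfl⟩ := X.decomp p
    obtain ⟨c', hc', r', hr', rfl⟩ := X.decomp q
    obtain ⟨i, rfl⟩ := hC0 c hc
    obtain ⟨j, rfl⟩ := hC0 c' hc'
    have h1 : Commute (g0 ^ i) (g0 ^ j) := ((Commute.refl g0).zpow_left i).zpow_right j
    have h2 : Commute (g0 ^ i) r' := D.C_cent _ hc r' hr'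
    have h3 : Commute r (g0 ^ j) := (D.C_cent _ hc' r hr).symm
    have h4 : Commute r r' := congrArg Subtype.val (hk.comm ⟨r, hr⟩ ⟨r', hr'⟩)
    exact ((h1.mul_right h2).mul_left (h3.mul_right h4)).eq
  obtain ⟨m, hm⟩ := IsPGroup.iff_orderOf.1 X.pgE g0
  -- a normalising element fixing `b` and `t` modulo `Φ(E)` lies in `E` if `C` has order at least four
  have mem_of_fix : 2 ≤ m → ∀ g (hg : g ∈ normalizer (X.E : Set G)),
      b⁻¹ * cj hg b ∈ frattini X.E → t⁻¹ * cj hg t ∈ frattini X.E → g ∈ X.E := by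
    intro hm2 g hg hgb hgt
    obtain ⟨l, rfl⟩ : ∃ l, m = l + 2 := ⟨m - 2, by omega⟩
    set N := 2 ^ (l + 1) with hN
    have hg0N : g0 ^ (N : ℤ) ≠ 1 := fun h => by
      rw [zpow_natCast, ← orderOf_dvd_iff_pow_eq_one, hm, hN,
        Nat.pow_dvd_pow_iff_le_right (by norm_num)] at h
      omega
    have hpow : ∀ x : X.E, ∃ i : ℤ, x ^ N = g0 ^ ((N : ℤ) * i) ∧
        (∃ r ∈ X.T, x = g0 ^ i * r) := by
      intro x
      obtain ⟨c, hc, r, hr, rfl⟩ := X.decomp x
      obtain ⟨i, rfl⟩ := hC0 c hc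
      refine ⟨i, ?_, r, hr, rfl⟩
      rw [(show Commute (g0 ^ i) r from hEcomm _ _).mul_pow, hN, pow_succ' 2 l, pow_mul r,
        show r ^ 2 = 1 by rw [pow_two]; exact hsqE r hr, one_pow, mul_one, ← zpow_natCast,
        ← zpow_mul, mul_comm]
    have hinv2 : ∀ i : ℤ, g0 ^ ((N : ℤ) * i) = 1 ∧ Even i ∨ g0 ^ ((N : ℤ) * i) = g0 ^ (N : ℤ) := by
      intro i
      have h2N : g0 ^ ((N : ℤ) * 2) = 1 := by
        rw [show (N : ℤ) * 2 = ((2 ^ (l + 2) : ℕ) : ℤ) by rw [hN]; push_cast; ring, zpow_natCast,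
          ← hm, pow_orderOf_eq_one]
      rcases Int.even_or_odd' i with ⟨j, rfl | rfl⟩
      · exact Or.inl ⟨by rw [← mul_assoc, zpow_mul, h2N, one_zpow], even_two_mul j⟩
      · exact Or.inr (by rw [mul_add, mul_one, ← mul_assoc, zpow_add, zpow_mul, h2N, one_zpow, one_mul])
    let L : Subgroup X.E :=
      { carrier := {x | x ^ N = 1}
        one_mem' := one_pow N
        mul_mem' := by
          intro p q (hp : p ^ N = 1) (hq : q ^ N = 1)
          show (p * q) ^ N = 1
          rw [(show Commute p q from hEcomm p q).mul_pow, hp, hq, mul_one]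
        inv_mem' := by
          intro p (hp : p ^ N = 1)
          show p⁻¹ ^ N = 1
          rw [inv_pow, hp, inv_one] }
    refine X.D.mem_of_chain X.pgE (L := L) ?_ hg (fun x => ?_) fun x hx => ?_
    · intro α _ x (hx : x ^ N = 1)
      show α x ^ N = 1
      rw [← map_pow, hx, map_one]
    · show (x⁻¹ * cj hg x) ^ N = 1
      rw [(show Commute x⁻¹ (cj hg x) from hEcomm _ _).mul_pow, inv_pow, ← map_pow, inv_mul_eq_one]
      obtain ⟨i, hi, -⟩ := hpow x
      rw [hi]
      rcases hinv2 i with ⟨e, -⟩ | e <;> rw [e]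
      · rw [map_one]
      · obtain ⟨j, hj, -⟩ := hpow (cj hg g0)
        rw [← map_pow, ← zpow_natCast g0 N] at hj
        rw [hj]
        rcases hinv2 j with ⟨e', -⟩ | e'
        · exfalso
          rw [e'] at hj
          exact hg0N ((cj hg).injective (hj.trans (map_one _).symm))
        · exact e'.symm
    · obtain ⟨i, hi, r, hr, rfl⟩ := hpow x
      have hx' : (g0 ^ i * r) ^ N = 1 := hx
      rcases hinv2 i with ⟨-, hev⟩ | e
      swap
      · exact absurd (e.symm.trans (hi.symm.trans hx')) hg0N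
      have hf : g0 ^ i ∈ frattini X.E := by
        obtain ⟨j, rfl⟩ := hev
        rw [← two_mul, zpow_mul, zpow_ofNat]
        exact zpow_mem (PGroup.pow_mem_frattini X.pgE g0) j
      have hr' : r⁻¹ * cj hg r ∈ frattini X.E := by
        rcases hTcases r hr with e | e | e | e <;> subst e
        · simp
        · exact hgb
        · exact hgt
        · have : (b * t)⁻¹ * cj hg (b * t) = b⁻¹ * cj hg b * (t⁻¹ * cj hg t) := by
            rw [map_mul, mul_inv_rev, hEcomm t⁻¹ b⁻¹]
            rw [mul_assoc, mul_assoc, ← mul_assoc t⁻¹, hEcomm t⁻¹, mul_assoc]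
          rw [this]; exact mul_mem hgb hgt
      have : (g0 ^ i * r)⁻¹ * cj hg (g0 ^ i * r) =
          (g0 ^ i)⁻¹ * cj hg (g0 ^ i) * (r⁻¹ * cj hg r) := by
        rw [map_mul, mul_inv_rev, hEcomm r⁻¹ (g0 ^ i)⁻¹]
        rw [mul_assoc, mul_assoc, ← mul_assoc r⁻¹, hEcomm r⁻¹, mul_assoc]
      rw [this]
      exact mul_mem (mul_mem (inv_mem hf) (map_frattini_mem _ hf)) hr'
  have hm1 : 1 ≤ m := by
    by_contra h
    obtain ⟨i, hi⟩ := hC0 y hy
    have : g0 = 1 := orderOf_eq_one_iff.1 (by rw [hm, show m = 0 by omega, pow_zero])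
    exact hy1 (by rw [← hi, this, one_zpow])
  -- in the smallest case `E = ⟨b, t, y⟩`
  have hall : m = 1 → ∀ x : X.E, x = 1 ∨ x = t ∨ x = y ∨ x = t * y ∨ x = b ∨ x = b * t ∨ x = b * y ∨
      x = b * (t * y) := by
    intro hm1' x
    obtain ⟨c, hc, r, hr, rfl⟩ := X.decomp x
    have hC2 : ∀ c ∈ X.C, c = 1 ∨ c = g0 := by
      intro c hc
      obtain ⟨i, rfl⟩ := hC0 c hc
      have hg2 : g0 ^ (2 : ℤ) = 1 := by
        rw [zpow_ofNat, ← orderOf_dvd_iff_pow_eq_one, hm, hm1', pow_one]
      rcases Int.even_or_odd' i with ⟨j, rfl | rfl⟩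
      · exact Or.inl (by rw [zpow_mul, hg2, one_zpow])
      · exact Or.inr (by rw [zpow_add_one, zpow_mul, hg2, one_zpow, one_mul])
    have hyg : y = g0 := (hC2 y hy).resolve_left hy1
    rcases hC2 c hc with rfl | rfl
    · rw [one_mul]
      rcases hTcases r hr with rfl | rfl | rfl | rfl <;> simp
    · rw [← hyg]
      rcases hTcases r hr with rfl | rfl | rfl | rfl
      · simp
      · exact Or.inr (Or.inr (Or.inr (Or.inr (Or.inr (Or.inr (Or.inl (hEcomm _ _)))))))
      · exact Or.inr (Or.inr (Or.inr (Or.inl (hEcomm _ _))))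
      · refine Or.inr (Or.inr (Or.inr (Or.inr (Or.inr (Or.inr (Or.inr ?_))))))
        rw [hEcomm y (b * t), mul_assoc]
  -- `E` is the centraliser of `b`
  set K : Subgroup G := centralizer {(b : G)} with hK
  have hEK : X.E ≤ K := fun e he => mem_centralizer_singleton_iff.2
    (congrArg Subtype.val (hEcomm ⟨e, he⟩ b))
  have hKE : X.E = K := by
    by_contra hne
    obtain ⟨h, hhK, hhE, hhN⟩ := exists_normalizing_mem X.hy.pg hEK hne
    have hhb : h * (b : G) = (b : G) * h := mem_centralizer_singleton_iff.1 hhK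
    have hhW : ∀ v ∈ X.hy.W, h * v = v * h := by
      intro v hv
      by_cases hhΦ : h ∈ frattini G
      · exact X.hy.comm_frattini hhΦ hv
      by_cases hbh : (b : G)⁻¹ * h ∈ frattini G
      · have : h = (b : G) * ((b : G)⁻¹ * h) := by group
        rw [this, mul_assoc, X.hy.comm_frattini hbh hv, ← mul_assoc, D.cent_W _ b.2 v hv, mul_assoc]
      exfalso
      have hgen := X.hy.gen_pair hbout hhΦ hbh
      have hle := commutator_le_of_gen hgen (N := ⊥) (by
        rw [mem_bot, commutatorElement_eq_one_iff_mul_comm]; exact hhb)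
      rw [le_bot_iff] at hle
      exact X.hy.ncyc (by rw [hle]; infer_instance)
    have hfixb : cj hhN b = b := Subtype.ext (by rw [cj_apply, hhb, mul_inv_cancel_right])
    have hfixW : ∀ v : X.E, (v : G) ∈ X.hy.W → cj hhN v = v := fun v hv =>
      Subtype.ext (by rw [cj_apply, hhW _ hv, mul_inv_cancel_right])
    rcases Nat.lt_or_ge m 2 with hlt | hge
    · refine hhE (X.D.mem_of_eq_conj hhN (e := 1) (MulEquiv.ext fun x => ?_))
      rw [map_one, MulAut.one_apply]
      rcases hall (by omega) x with e | e | e | e | e | e | e | e <;> rw [e] <;>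
        simp only [map_one, map_mul, hfixb, hfixW t htG, hfixW y hyW]
    · refine hhE (mem_of_fix hge h hhN ?_ ?_)
      · rw [hfixb, inv_mul_cancel]; exact one_mem _
      · rw [hfixW t htG, inv_mul_cancel]; exact one_mem _
  -- a commutator `[g, b] = y`
  have hbb : (b : G) * (b : G) = 1 := by rw [← Subgroup.coe_mul, hsqE b D.b.2, Subgroup.coe_one]
  obtain ⟨g, hg⟩ := X.hy.exists_commutator_eq D.gen
    (show X.ι D.b * X.ι D.b ∈ center G by
      show (b : G) * (b : G) ∈ center G
      rw [hbb]; exact one_mem _) (X.hy.mem_W.1 hyW).1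
  have hgb : g * (b : G) * g⁻¹ = (y : G) * b := by
    rw [← hg, commutatorElement_def]
    show _ = g * (b : G) * g⁻¹ * (b : G)⁻¹ * (b : G)
    rw [inv_mul_cancel_right]
  have hgN : g ∈ normalizer (X.E : Set G) := by
    refine mem_normalizer_of_conj fun x hx => ?_
    rw [hKE]
    refine mem_centralizer_singleton_iff.2 ?_
    have h1 : (g * x * g⁻¹) * ((y : G) * b) = ((y : G) * b) * (g * x * g⁻¹) := by
      rw [← hgb]
      have hxb : x * (b : G) = (b : G) * x := congrArg Subtype.val (hEcomm ⟨x, hx⟩ b)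
      calc g * x * g⁻¹ * (g * (b : G) * g⁻¹) = g * (x * b) * g⁻¹ := by group
        _ = g * (b : G) * g⁻¹ * (g * x * g⁻¹) := by rw [hxb]; group
    have h2 : (g * x * g⁻¹) * (y : G) = (y : G) * (g * x * g⁻¹) := by
      have hy' := D.cent_W x hx _ (X.hy.W_normal.conj_mem _ hyW g⁻¹)
      calc g * x * g⁻¹ * (y : G) = g * (x * (g⁻¹ * (y : G) * g⁻¹⁻¹)) * g⁻¹ := by group
        _ = g * (g⁻¹ * (y : G) * g⁻¹⁻¹ * x) * g⁻¹ := by rw [hy']
        _ = _ := by group
    calc g * x * g⁻¹ * (b : G) = g * x * g⁻¹ * ((y : G)⁻¹ * ((y : G) * b)) := by group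
      _ = (y : G)⁻¹ * (g * x * g⁻¹ * ((y : G) * b)) := by
          rw [← mul_assoc, (show Commute (g * x * g⁻¹) (y : G) from h2).inv_right.eq, mul_assoc]
      _ = (b : G) * (g * x * g⁻¹) := by rw [h1]; group
  have hgbE : cj hgN b = y * b := Subtype.ext (by rw [cj_apply, hgb]; rfl)
  have hgW : ∀ v : X.E, (v : G) ∈ X.hy.W → ((cj hgN v : X.E) : G) ∈ X.hy.W := fun v hv => by
    rw [cj_apply]; exact X.hy.W_normal.conj_mem _ hv g
  have hWE : ∀ v : X.E, (v : G) ∈ X.hy.W → v = 1 ∨ v = t ∨ v = y ∨ v = t * y := by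
    intro v hv
    rcases hWcases _ hv with h | h | h | h
    exacts [Or.inl (Subtype.ext h), Or.inr (Or.inl (Subtype.ext h)),
      Or.inr (Or.inr (Or.inl (Subtype.ext h))), Or.inr (Or.inr (Or.inr (Subtype.ext h)))]
  rcases Nat.lt_or_ge m 2 with hlt | hge
  swap
  · -- `y` is a square in `E`
    have hyΦ : y ∈ frattini X.E := by
      obtain ⟨i, hi⟩ := hC0 y hy
      have hdvd : ((orderOf g0 : ℕ) : ℤ) ∣ i * 2 := by
        rw [orderOf_dvd_iff_zpow_eq_one, zpow_mul, hi, zpow_ofNat, pow_two, hyy]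
      rw [hm, show m = m - 2 + 2 by omega] at hdvd
      push_cast at hdvd
      rw [pow_add] at hdvd
      obtain ⟨q, hq⟩ := hdvd
      have : i = 2 * (2 ^ (m - 2) * q) := by linarith
      rw [← hi, this, zpow_mul, zpow_ofNat]
      exact zpow_mem (PGroup.pow_mem_frattini X.pgE g0) _
    have hgy : cj hgN y = y := by
      rcases hWE _ (hgW y hyW) with e | e | e | e
      · exact absurd ((cj hgN).injective (e.trans (map_one _).symm)) hy1
      · exfalso
        -- `t` is not in `Φ(E)`, which lies in `C`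
        have h1 : t ∈ frattini X.E := e ▸ map_frattini_mem _ hyΦ
        have hle : frattini X.E ≤ X.C := by
          haveI : X.C.Normal := ⟨fun n hn p => by rwa [hEcomm p n, mul_inv_cancel_right]⟩
          refine PGroup.frattini_le_of_quotient_elementary (p := 2) ?_ fun p => ?_
          · rw [_root_.commutator_def, commutator_le]
            intro p _ q _
            rw [commutatorElement_eq_one_iff_mul_comm.2 (hEcomm p q)]
            exact one_mem _
          · obtain ⟨c, hc, r, hr, rfl⟩ := X.decomp p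
            rw [(show Commute c r from hEcomm _ _).mul_pow, pow_two r, hsqE r hr, mul_one]
            exact pow_mem hc 2
        exact ht1 (hCT1 t D.t.2 (hle h1))
      · exact e
      · exfalso
        have h1 : t * y ∈ frattini X.E := e ▸ map_frattini_mem _ hyΦ
        have hle : frattini X.E ≤ X.C := by
          haveI : X.C.Normal := ⟨fun n hn p => by rwa [hEcomm p n, mul_inv_cancel_right]⟩
          refine PGroup.frattini_le_of_quotient_elementary (p := 2) ?_ fun p => ?_
          · rw [_root_.commutator_def, commutator_le]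
            intro p _ q _
            rw [commutatorElement_eq_one_iff_mul_comm.2 (hEcomm p q)]
            exact one_mem _
          · obtain ⟨c, hc, r, hr, rfl⟩ := X.decomp p
            rw [(show Commute c r from hEcomm _ _).mul_pow, pow_two r, hsqE r hr, mul_one]
            exact pow_mem hc 2
        exact ht1 (hCT1 t D.t.2 (hle ((mul_mem_cancel_right hyΦ).1 h1)))
    have hgE : g ∈ X.E := mem_of_fix hge g hgN (by
        rw [hgbE, hEcomm y b, inv_mul_cancel_left]; exact hyΦ) (by
        rcases hWE _ (hgW t htG) with e | e | e | e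
        · exact absurd ((cj hgN).injective (e.trans (map_one _).symm)) ht1
        · rw [e, inv_mul_cancel]; exact one_mem _
        · exact absurd ((cj hgN).injective (e.trans hgy.symm)) hty
        · rw [e, inv_mul_cancel_left]; exact hyΦ)
    refine hy1 (Subtype.ext ?_)
    rw [Subgroup.coe_one, ← hg]
    exact commutatorElement_eq_one_iff_mul_comm.2
      (congrArg Subtype.val (hEcomm ⟨g, hgE⟩ b))
  -- the group of order eight
  have hm' : m = 1 := by omega
  have hexp : ∀ x : X.E, x * x = 1 := by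
    intro x
    rcases hall hm' x with e | e | e | e | e | e | e | e <;> subst e
    · exact mul_one 1
    all_goals
      simp only [← pow_two, (show Commute _ _ from hEcomm _ _).mul_pow, mul_pow]
      simp [pow_two, hsqE t D.t.2, hsqE b D.b.2, hyy]
  have hbne : b ≠ t ∧ b ≠ y ∧ b ≠ t * y := by
    refine ⟨fun h => hbout (h ▸ D.t_in), fun h => hbout ?_, fun h => hbout ?_⟩
    · rw [h]; exact X.hy.W_le_frattini hyW
    · rw [h, Subgroup.coe_mul]; exact mul_mem D.t_in (X.hy.W_le_frattini hyW)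
  let Dt : Transvection.Data X.E :=
    ⟨b, t, y, hexp, hall hm', ht1, hy1, hty, hb1, hbne.1, hbne.2.1, hbne.2.2⟩
  -- `θ` or its inverse maps `t` to `b t`
  have hθy : X.θ y = y := hy
  obtain ⟨θ', hθA, hθb, hθt, hθ'y⟩ : ∃ θ' ∈ X.D.A, θ' b = t ∧ θ' t = b * t ∧ θ' y = y := by
    have hθT : X.θ t ∈ X.T := X.θ_T D.t.2
    have hθne : X.θ t ≠ t := fun h => ht1 (hCT1 t D.t.2 h)
    have hθθ : X.θ (X.θ t) ≠ t ∧ X.θ (X.θ t) ≠ X.θ t :=
      ⟨fun h => hθne (by have := congrArg X.θ h; rw [X.θ3] at this; exact this.symm),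
        fun h => hθne (X.θ.injective h)⟩
    rcases hTcases _ hθT with e | e | e | e
    · exact absurd (X.θ.injective (e.trans (map_one _).symm)) ht1
    · -- take the inverse
      refine ⟨X.θ * X.θ, mul_mem X.θ_mem X.θ_mem, ?_, ?_, by rw [MulAut.mul_apply, hθy, hθy]⟩
      · rw [MulAut.mul_apply, ← e, X.θ3]
      · rw [MulAut.mul_apply]
        rcases hTcases _ (X.θ_T hθT) with e' | e' | e' | e'
        · exact absurd (X.θ.injective (X.θ.injective (e'.trans (by simp)))) ht1
        · exact absurd (e'.trans e.symm) hθθ.2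
        · exact absurd e' hθθ.1
        · exact e'
    · exact absurd e hθne
    · refine ⟨X.θ, X.θ_mem, ?_, e, hθy⟩
      rcases hTcases _ (X.θ_T hθT) with e' | e' | e' | e'
      · exact absurd (X.θ.injective (X.θ.injective (e'.trans (by simp)))) ht1
      · rw [← e', X.θ3]
      · exact absurd e' hθθ.1
      · exact absurd (e'.trans e.symm) hθθ.2
  have hτ : Dt.Tv X.ω t := ⟨hωt, Subtype.ext (by
    show X.w * (y : G) * X.w⁻¹ = y
    rw [D.w_cent _ hyW, mul_inv_cancel_right]), D.ω_b.trans (hEcomm _ _)⟩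
  have hg2 : ∀ v : X.E, (v : G) ∈ X.hy.W → cj hgN (cj hgN v) = v := fun v hv => Subtype.ext (by
    rw [cj_apply, cj_apply]
    have := X.hy.comm_frattini (PGroup.pow_mem_frattini X.hy.pg g) hv
    calc g * (g * (v : G) * g⁻¹) * g⁻¹ = g ^ 2 * (v : G) * (g ^ 2)⁻¹ := by rw [pow_two]; group
      _ = v := by rw [this, mul_inv_cancel_right])
  obtain ⟨σ, hσA, hσ⟩ := Dt.exists_tv (A := X.D.A) (g := cj hgN) hθA (X.D.cj_mem _ X.hw)
    (X.D.cj_mem _ hgN) hθb hθt hθ'y (τ := X.ω) hτ hgbE (hWE _ (hgW t htG)) (hWE _ (hgW y hyW))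
    ⟨hg2 t htG, hg2 y hyW⟩
  refine Dt.no_strong X.D.M_le X.D.M_ne (X.D.cj_mem_M _ X.hw) ?_ hτ hσA hσ
  intro k hk hkM x hx hxk hx2
  obtain ⟨e, rfl⟩ := X.D.strong k hk hkM x hx hxk hx2
  exact MulEquiv.ext fun z => by
    rw [MulAut.conj_apply, hEcomm e z, mul_inv_cancel_right, MulAut.one_apply]

end Cx

end Cfsg.Agent.BicyclicFusion
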