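import Cfsg.Agent.Lib.BicyclicFusion.Setup

/-!
# Essential subgroups: the cases with `W ≤ T` or `w E` missing the Frattini subgroup
-/

set_option autoImplicit false
set_option linter.style.haveILetI false
set_option linter.unusedSectionVars false

namespace Cfsg.Agent.BicyclicFusion

open Subgroup
open scoped commutatorElement

namespace Quat

variable {T : Type*} [Group T] {z : T} (h : Quat T z)
include h

theorem mem_frattini_cases {t : T} (ht : t ∈ frattini T) : t = 1 ∨ t = z := by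
  rw [h.frattini_eq] at ht
  obtain ⟨i, rfl⟩ := mem_zpowers_iff.1 ht
  rcases Int.even_or_odd' i with ⟨j, rfl | rfl⟩
  · exact Or.inl (by rw [zpow_mul, zpow_ofNat, pow_two, h.sq, one_zpow])
  · exact Or.inr (by rw [zpow_add_one, zpow_mul, zpow_ofNat, pow_two, h.sq, one_zpow, one_mul])

theorem sq_eq_one {t : T} (ht : t * t = 1) : t = 1 ∨ t = z :=
  h.mem_frattini_cases (by_contra fun hn => h.ne_one ((h.sq_eq t hn).symm.trans ht))

end Quat

namespace Cx

variable {G : Type*} [Group G] [Finite G] (X : Cx G)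

/-- `T` lies in the Frattini subgroup of `G`. -/
def TInΦ : Prop := ∀ t : X.T, X.ι t ∈ frattini G

theorem ι_frattini {t : X.T} (ht : t ∈ frattini X.T) : X.ι t ∈ frattini G :=
  map_frattini_le (X.pgE.to_subgroup _) X.hy.pg X.ι (mem_map_of_mem _ ht)

theorem W_le_E (h : ∀ e ∈ X.E, ∀ u ∈ X.hy.W, e * u = u * e) : X.hy.W ≤ X.E :=
  fun u hu => X.D.cent (mem_centralizer_iff.2 fun e he => h e he u hu)

/-- The quaternion case needs `T` outside the Frattini subgroup. -/
theorem quat_not_inΦ {z : X.T} (hq : Quat X.T z) : ¬ X.TInΦ := by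
  intro hΦ
  haveI : Fact (Nat.Prime 2) := ⟨Nat.prime_two⟩
  obtain ⟨u, hu, v, hv, hu1, hv1, huv⟩ := X.hy.exists_pair
  obtain ⟨y, hy, hy1, hyz⟩ : ∃ y ∈ X.hy.W, y ≠ 1 ∧ y ≠ X.ι z := by
    by_cases h : u = X.ι z
    · exact ⟨v, hv, hv1, fun e => huv (h.trans e.symm)⟩
    · exact ⟨u, hu, hu1, h⟩
  let f : X.T →* ↥(frattini G) := X.ι.codRestrict _ hΦ
  let g : zpowers y →* ↥(frattini G) :=
    inclusion (zpowers_le.2 (X.hy.W_le_frattini hy))
  have hyW : ∀ m : zpowers y, (m : G) ∈ X.hy.W := fun m => zpowers_le.2 hy m.2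
  have hcomm : ∀ t m, Commute (f t) (g m) := fun t m =>
    Subtype.ext (X.hy.comm_frattini (hΦ t) (hyW m))
  have hm2 : ∀ m : zpowers y, m = 1 ∨ (m : G) = y := by
    intro m
    obtain ⟨i, hi⟩ := mem_zpowers_iff.1 m.2
    have hyy : y * y = 1 := (X.hy.mem_W.1 hy).2
    rcases Int.even_or_odd' i with ⟨j, rfl | rfl⟩
    · exact Or.inl (Subtype.ext (by
        rw [← hi, zpow_mul, zpow_ofNat, pow_two, hyy, one_zpow]; rfl))
    · exact Or.inr (by rw [← hi, zpow_add_one, zpow_mul, zpow_ofNat, pow_two, hyy, one_zpow, one_mul])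
  let φ := MonoidHom.noncommCoprod f g hcomm
  have hinj : Function.Injective φ := by
    rw [← MonoidHom.ker_eq_bot_iff, eq_bot_iff]
    rintro ⟨t, m⟩ h
    have h' : X.ι t * (m : G) = 1 := congrArg Subtype.val h
    rcases hm2 m with rfl | hm
    · have : t = 1 := X.ι_injective (by simpa using h')
      simp [this]
    · exfalso
      rw [hm] at h'
      have ht : X.ι t = y := (eq_inv_of_mul_eq_one_left h').trans
        (inv_eq_of_mul_eq_one_right (X.hy.mem_W.1 hy).2)
      have htt : t * t = 1 := X.ι_injective (by rw [map_mul, ht, (X.hy.mem_W.1 hy).2, map_one])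
      rcases hq.sq_eq_one htt with rfl | rfl
      · exact hy1 (ht.symm.trans (map_one _))
      · exact hyz ht.symm
  obtain ⟨B⟩ := X.hy.basis
  have hmeta := RankTwo.isMetacyclic_of_injective φ hinj B.meta_frattini
  let π : X.T × zpowers y →* (X.T ⧸ frattini X.T) × zpowers y :=
    (QuotientGroup.mk' (frattini X.T)).prodMap (MonoidHom.id _)
  have h4 := RankTwo.card_le_sq_of_exponent (p := 2)
    (RankTwo.isMetacyclic_of_surjective π
      (Prod.map_surjective.2 ⟨QuotientGroup.mk'_surjective _, Function.surjective_id⟩) hmeta) (by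
      rintro ⟨v, m⟩
      refine Prod.ext ?_ ?_
      · obtain ⟨t, rfl⟩ := QuotientGroup.mk'_surjective _ v
        exact (QuotientGroup.eq_one_iff _).2 (PGroup.pow_mem_frattini (X.pgE.to_subgroup _) t)
      · refine Subtype.ext ?_
        show (m : G) ^ 2 = 1
        rw [pow_two]; exact (X.hy.mem_W.1 (hyW m)).2)
  rw [Nat.card_prod, ← index_eq_card, X.fpf.index_frattini, Nat.card_zpowers,
    orderOf_eq_prime (by rw [pow_two, (X.hy.mem_W.1 hy).2]) hy1] at h4
  norm_num at h4

/-- In the homocyclic case `T` contains `W` if `k ≥ 2` or `T` is in the Frattini subgroup. -/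
theorem W_le_T {k : ℕ} (hk : Homo X.T k) (h : 2 ≤ k ∨ X.TInΦ) :
    ∀ u ∈ X.hy.W, ∃ t : X.T, X.ι t = u := by
  haveI : Fact (Nat.Prime 2) := ⟨Nat.prime_two⟩
  obtain ⟨x, hx⟩ := X.fpf.exists_notMem
  set m := 2 ^ (k - 1) with hm
  have hW : ∀ t : X.T, X.ι (t ^ m) ∈ X.hy.W := by
    intro t
    refine X.hy.mem_W_of_sq ?_ ?_
    · rcases h with h | h
      · refine X.ι_frattini ?_
        rw [hm, show k - 1 = k - 2 + 1 by omega, pow_succ', pow_mul]
        exact pow_mem (PGroup.pow_mem_frattini (X.pgE.to_subgroup _) _) _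
      · exact h _
    · rw [← map_mul, ← pow_add, hm, ← two_mul, ← pow_succ', Nat.sub_add_cancel hk.pos, hk.pow_eq_one,
        map_one]
  have h1 : X.ι (x ^ m) ≠ 1 := fun e => hx ((hk.mem_frattini x).1 (X.ι_injective (e.trans (map_one _).symm)))
  have h2 : X.ι (X.θT x ^ m) ≠ 1 := fun e => X.fpf.apply_notMem hx
    ((hk.mem_frattini _).1 (X.ι_injective (e.trans (map_one _).symm)))
  have h12 : X.ι (x ^ m) ≠ X.ι (X.θT x ^ m) := fun e => hx (X.fpf.fpf x ((hk.mem_frattini _).1 (by
    rw [(show Commute x⁻¹ (X.θT x) from hk.comm _ _).mul_pow, inv_pow, X.ι_injective e,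
      inv_mul_cancel])))
  intro u hu
  rcases X.hy.W_cases (hW x) (hW (X.θT x)) h1 h2 h12 u hu with rfl | rfl | rfl | rfl
  exacts [⟨1, map_one _⟩, ⟨_, rfl⟩, ⟨_, rfl⟩, ⟨_, map_mul _ _ _⟩]

/-- Fixed points in the Frattini subgroup are trivial if `T ⊇ W` is abelian. -/
theorem C_eq_one {k : ℕ} (hk : Homo X.T k) (hW : ∀ u ∈ X.hy.W, ∃ t : X.T, X.ι t = u) {c : X.E}
    (hc : c ∈ X.C) (hcΦ : (c : G) ∈ frattini G) : c = 1 := by
  haveI : Fact (Nat.Prime 2) := ⟨Nat.prime_two⟩
  by_contra hne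
  obtain ⟨n, hn⟩ := IsPGroup.iff_orderOf.1 X.pgE c
  rcases n with _ | n
  · exact hne (orderOf_eq_one_iff.1 hn)
  set c' := c ^ 2 ^ n with hc'
  have h2 : c' * c' = 1 := by rw [← pow_add, ← two_mul, ← pow_succ', ← hn, pow_orderOf_eq_one]
  have hne' : c' ≠ 1 := fun e => by
    have := orderOf_dvd_of_pow_eq_one e
    rw [hn, Nat.pow_dvd_pow_iff_le_right (by norm_num)] at this
    omega
  have hW' : (c' : G) ∈ X.hy.W := X.hy.mem_W_of_sq
    (by rw [hc', Subgroup.coe_pow]; exact pow_mem hcΦ _)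
    (by rw [← Subgroup.coe_mul, h2, Subgroup.coe_one])
  obtain ⟨t, ht⟩ := hW _ hW'
  have hte : ((t : X.E)) = c' := Subtype.ext ht
  exact hne' (hte ▸ X.fixed_eq_one hk t.2 (hte.symm ▸ pow_mem hc _))

/-- `E` is not in the Frattini subgroup. -/
theorem case_in_frattini (hEΦ : X.E ≤ frattini G) : False := by
  haveI : Fact (Nat.Prime 2) := ⟨Nat.prime_two⟩
  have hTΦ : X.TInΦ := fun t => hEΦ (t : X.E).2
  rcases X.fpf.cases with ⟨k, hk⟩ | ⟨z, hz⟩
  swap
  · exact X.quat_not_inΦ hz hTΦ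
  have hW := X.W_le_T hk (Or.inr hTΦ)
  -- `E = T`
  have hET : ∀ e : X.E, e ∈ X.T := by
    intro e
    obtain ⟨c, hc, t, ht, rfl⟩ := X.decomp e
    rw [X.C_eq_one hk hW hc (hEΦ c.2), one_mul]
    exact ht
  have hkey : ∀ g (hg : g ∈ normalizer (X.E : Set G)), (∀ u ∈ X.hy.W, g * u = u * g) → g ∈ X.E := by
    intro g hg hcent
    refine X.D.mem_of_frattini X.pgE hg fun e => ?_
    set d : X.T := (⟨e, hET e⟩ : X.T)⁻¹ * ⟨cj hg e, hET _⟩ with hd
    have hdΦ : d ∈ frattini X.T := by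
      refine (hk.mem_frattini d).1 (X.ι_injective ?_)
      set t : X.T := ⟨e, hET e⟩ with ht
      have hu : X.ι (t ^ 2 ^ (k - 1)) ∈ X.hy.W := X.hy.mem_W_of_sq (hTΦ _) (by
        rw [← map_mul, ← pow_add, ← two_mul, ← pow_succ', Nat.sub_add_cancel hk.pos, hk.pow_eq_one,
          map_one])
      rw [hd, (show Commute t⁻¹ (⟨cj hg e, hET _⟩ : X.T) from hk.comm _ _).mul_pow, inv_pow, map_mul,
        map_inv, map_pow X.ι (⟨cj hg e, hET _⟩ : X.T), map_one]
      show (X.ι (t ^ _))⁻¹ * (g * (e : G) * g⁻¹) ^ _ = 1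
      rw [conj_pow, inv_mul_eq_one, map_pow]
      have hc := hcent _ hu
      rw [map_pow] at hc
      show X.ι t ^ _ = g * X.ι t ^ _ * g⁻¹
      rw [hc, mul_inv_cancel_right]
    have := map_frattini_le (X.pgE.to_subgroup X.T) X.pgE X.T.subtype (mem_map_of_mem _ hdΦ)
    exact this
  have hE : X.E = frattini G := by
    by_contra hne
    have hne' : X.E.subgroupOf (frattini G) ≠ ⊤ := fun h =>
      hne (le_antisymm hEΦ (subgroupOf_eq_top.1 h))
    obtain ⟨⟨g, hgΦ⟩, hg, hgE⟩ :=
      PGroup.exists_mem_normalizer_not_mem (X.hy.pg.to_subgroup _) hne'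
    have hgN : g ∈ normalizer (X.E : Set G) := by
      refine mem_normalizer_iff.2 fun x => ⟨fun hx => ?_, fun hx => ?_⟩
      · exact mem_subgroupOf.1 ((mem_normalizer_iff.1 hg ⟨x, hEΦ hx⟩).1 (mem_subgroupOf.2 hx))
      · have hxΦ : x ∈ frattini G := by
          have := mul_mem (mul_mem (inv_mem hgΦ) (hEΦ hx)) hgΦ
          simpa [mul_assoc] using this
        exact mem_subgroupOf.1 ((mem_normalizer_iff.1 hg ⟨x, hxΦ⟩).2 (mem_subgroupOf.2 hx))
    exact hgE (mem_subgroupOf.2 (hkey g hgN fun u hu => X.hy.comm_frattini hgΦ hu))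
  obtain ⟨B⟩ := X.hy.basis
  have hnorm : ∀ g : G, g ∈ normalizer (X.E : Set G) := fun g => by
    rw [hE, normalizer_eq_top]; trivial
  have ha : ∃ u ∈ X.hy.W, B.a * u ≠ u * B.a := by
    by_contra h
    push Not at h
    exact B.a_notMem (hE ▸ hkey _ (hnorm _) h)
  have hb : ∃ u ∈ X.hy.W, B.b * u ≠ u * B.b := by
    by_contra h
    push Not at h
    exact B.b_notMem (hE ▸ hkey _ (hnorm _) h)
  refine B.ab_notMem (hE ▸ hkey _ (hnorm _) fun u hu => ?_)
  obtain ⟨z0, hz0, hz0c, hz01⟩ := X.hy.exists_central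
  have hcen : ∀ g : G, g * z0 = z0 * g := fun g => mem_center_iff.1 hz0c g
  -- an element moving some element of `W` moves every other noncentral one by `z0`
  have hmove : ∀ g : G, (∃ v ∈ X.hy.W, g * v ≠ v * g) → u ≠ 1 → u ≠ z0 → g * u = z0 * u * g := by
    rintro g ⟨v, hv, hgv⟩ hu1 huz
    have hcases := X.hy.W_cases hz0 hu hz01 hu1 huz.symm
    have hgu : g * u ≠ u * g := fun e => hgv (by
      rcases hcases v hv with rfl | rfl | rfl | rfl
      exacts [by simp, hcen g, e, by rw [← mul_assoc, hcen g, mul_assoc, e, mul_assoc]])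
    rcases hcases _ (X.hy.W_normal.conj_mem u hu g) with h | h | h | h
    · exact absurd (show u = 1 by simpa using h) hu1
    · exfalso
      rw [mul_inv_eq_iff_eq_mul, ← hcen g] at h
      exact huz (mul_left_cancel h)
    · exact absurd (mul_inv_eq_iff_eq_mul.1 h) hgu
    · exact mul_inv_eq_iff_eq_mul.1 h
  by_cases hu1 : u = 1
  · simp [hu1]
  by_cases huz : u = z0
  · rw [huz]; exact hcen _
  rw [mul_assoc, hmove _ hb hu1 huz, ← mul_assoc, ← mul_assoc, hcen B.a, mul_assoc z0 B.a u,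
    hmove _ ha hu1 huz, ← mul_assoc, ← mul_assoc, (X.hy.mem_W.1 hz0).2, one_mul, mul_assoc]

/-- `w E` meets the Frattini subgroup. -/
theorem exists_wE_mem (hEΦ : ¬ X.E ≤ frattini G) : ∃ e ∈ X.E, X.w * e ∈ frattini G := by
  haveI : Fact (Nat.Prime 2) := ⟨Nat.prime_two⟩
  by_contra hmiss
  push Not at hmiss
  by_cases hC : ∀ c ∈ X.C, ((c : X.E) : G) ∈ frattini G
  swap
  · -- a fixed point outside the Frattini subgroup makes `T` cyclic
    push Not at hC
    obtain ⟨c0, hc0, hc0Φ⟩ := hC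
    have hgen := X.gen_wE c0.2 hc0Φ hmiss
    let H : Subgroup G :=
      { carrier := {g | ∃ i : ℤ, ∃ c ∈ X.C, g = X.w ^ i * ((c : X.E) : G)}
        one_mem' := ⟨0, 1, one_mem _, by simp⟩
        mul_mem' := by
          rintro _ _ ⟨i, c, hc, rfl⟩ ⟨j, d, hd, rfl⟩
          obtain ⟨c', hc', e⟩ : ∃ c' ∈ X.C, ((c' : X.E) : G) = X.w ^ (-j) * c * X.w ^ j := by
            have hWC : ∀ (m : ℕ) (c : X.E), c ∈ X.C → ∃ c' ∈ X.C,
                ((c' : X.E) : G) = X.w ^ m * c * (X.w ^ m)⁻¹ := by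
              intro m
              induction m with
              | zero => exact fun c hc => ⟨c, hc, by simp⟩
              | succ m ih =>
                intro c hc
                obtain ⟨c', hc', e⟩ := ih c hc
                exact ⟨X.ω c', X.ω_C hc', by rw [X.coe_ω, e, pow_succ']; group⟩
            obtain ⟨n, hn⟩ := X.hy.pg X.w
            obtain ⟨c', hc', e⟩ := hWC ((-j) % ((2 ^ n : ℕ) : ℤ)).toNat c hc
            refine ⟨c', hc', ?_⟩
            rw [e]
            have hmod : X.w ^ ((-j) % ((2 ^ n : ℕ) : ℤ)).toNat = X.w ^ (-j) := by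
              rw [← zpow_natCast, Int.toNat_of_nonneg (Int.emod_nonneg _ (by positivity)),
                Int.emod_def, zpow_sub, zpow_mul, zpow_natCast, hn, one_zpow, inv_one, mul_one]
            rw [hmod, zpow_neg, inv_inv]
          refine ⟨i + j, c' * d, mul_mem hc' hd, ?_⟩
          rw [Subgroup.coe_mul, e]; group
        inv_mem' := by
          rintro _ ⟨i, c, hc, rfl⟩
          have hWC : ∀ (m : ℕ) (c : X.E), c ∈ X.C → ∃ c' ∈ X.C,
              ((c' : X.E) : G) = X.w ^ m * c * (X.w ^ m)⁻¹ := by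
            intro m
            induction m with
            | zero => exact fun c hc => ⟨c, hc, by simp⟩
            | succ m ih =>
              intro c hc
              obtain ⟨c', hc', e⟩ := ih c hc
              exact ⟨X.ω c', X.ω_C hc', by rw [X.coe_ω, e, pow_succ']; group⟩
          obtain ⟨n, hn⟩ := X.hy.pg X.w
          obtain ⟨c', hc', e⟩ := hWC (i % ((2 ^ n : ℕ) : ℤ)).toNat c⁻¹ (inv_mem hc)
          refine ⟨-i, c', hc', ?_⟩
          have hmod : X.w ^ (i % ((2 ^ n : ℕ) : ℤ)).toNat = X.w ^ i := by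
            rw [← zpow_natCast, Int.toNat_of_nonneg (Int.emod_nonneg _ (by positivity)),
              Int.emod_def, zpow_sub, zpow_mul, zpow_natCast, hn, one_zpow, inv_one, mul_one]
          rw [e, hmod, Subgroup.coe_inv]; group }
    have hH : H = ⊤ := top_le_iff.1 (hgen ▸ (closure_le _).2 (by
      rintro x (rfl | rfl)
      · exact ⟨0, c0, hc0, by simp⟩
      · exact ⟨1, 1, one_mem _, by simp⟩))
    set z := X.e2⁻¹ * X.θ X.e2 with hz
    have hzc : z ∈ center X.E := X.central_e2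
    have hTz : X.T ≤ zpowers z := by
      refine (closure_le _).2 ?_
      rintro _ ⟨e, rfl⟩
      obtain ⟨i, c, hc, he⟩ : (e : G) ∈ H := hH ▸ mem_top _
      rcases Int.even_or_odd' i with ⟨j, rfl | rfl⟩
      · have hee : e = X.e2 ^ j * c := Subtype.ext (by
          rw [he, zpow_mul, zpow_ofNat, pow_two]; rfl)
        have hθe2 : X.θ X.e2 = X.e2 * z := by rw [hz]; group
        have hcz : Commute X.e2 z := mem_center_iff.1 hzc X.e2
        refine mem_zpowers_iff.2 ⟨j, ?_⟩
        show z ^ j = e⁻¹ * X.θ e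
        rw [hee, map_mul, map_zpow, X.mem_C.1 hc, hθe2, hcz.mul_zpow, mul_inv_rev]
        have h2 : Commute c (z ^ j) := (show Commute c z from mem_center_iff.1 hzc c).zpow_right j
        calc z ^ j = c⁻¹ * (c * z ^ j) := by group
          _ = c⁻¹ * (z ^ j * c) := by rw [h2.eq]
          _ = c⁻¹ * (X.e2 ^ j)⁻¹ * (X.e2 ^ j * z ^ j * c) := by group
      · exfalso
        refine X.w_notMem ?_
        have : X.w = ((X.w * X.w) ^ j)⁻¹ * (X.w ^ (2 * j + 1) * (c : G)) * (c : G)⁻¹ := by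
          rw [zpow_add_one, zpow_mul, zpow_ofNat, pow_two]; group
        rw [this, ← he]
        exact mul_mem (mul_mem (inv_mem (zpow_mem X.w_sq j)) e.2) (inv_mem c.2)
    haveI : IsCyclic X.T :=
      isCyclic_of_injective (inclusion hTz) (inclusion_injective _)
    have h1 := eq_one_of_isCyclic (X.pgE.to_subgroup X.T) (α := X.θT)
      (Nat.Coprime.coprime_dvd_left (orderOf_dvd_of_pow_eq_one X.fpf.cube) (by norm_num))
    obtain ⟨x, hx⟩ := X.fpf.exists_notMem
    exact hx (X.fpf.fpf x (by rw [h1, MulAut.one_apply, inv_mul_cancel]; exact one_mem _))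
  -- `T` is not in the Frattini subgroup, and `G = ⟨w⟩ T`
  obtain ⟨x, hx⟩ : ∃ x : X.T, X.ι x ∉ frattini G := by
    by_contra h
    push Not at h
    refine hEΦ fun g hg => ?_
    obtain ⟨c, hc, t, ht, e⟩ := X.decomp ⟨g, hg⟩
    have : g = (c : G) * (t : G) := congrArg Subtype.val e
    rw [this]
    exact mul_mem (hC c hc) (h ⟨t, ht⟩)
  have hgen := X.gen_wE (x : X.E).2 hx hmiss
  set TG := X.T.map X.E.subtype with hTG
  haveI hTn : TG.Normal := by
    refine normalizer_eq_top_iff.1 (top_le_iff.1 (hgen ▸ (closure_le _).2 ?_))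
    have hnorm : ∀ g : G, (∀ t : X.E, t ∈ X.T → g * t * g⁻¹ ∈ TG) →
        g ∈ normalizer (TG : Set G) := by
      intro g hg
      refine mem_normalizer_of_conj ?_
      rintro _ ⟨t, ht, rfl⟩
      exact hg t ht
    rintro g (rfl | rfl)
    · exact hnorm _ fun t ht => mul_mem (mul_mem (mem_map_of_mem _ x.2) (mem_map_of_mem _ ht))
        (inv_mem (mem_map_of_mem _ x.2))
    · exact hnorm _ fun t ht => ⟨X.ω t, X.ω_T ht, rfl⟩
  have hxT : X.ι x ∈ TG := mem_map_of_mem _ x.2
  have hS : _root_.commutator G ≤ TG := by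
    refine commutator_le_of_gen hgen ?_
    rw [commutatorElement_def]
    exact mul_mem (hTn.conj_mem _ hxT X.w) (inv_mem hxT)
  have hWT : ∀ u ∈ X.hy.W, ∃ t : X.T, X.ι t = u := fun u hu => by
    obtain ⟨t, ht, e⟩ := hS (X.hy.mem_W.1 hu).1
    exact ⟨⟨t, ht⟩, e⟩
  obtain ⟨u, hu, v, hv, hu1, hv1, huv⟩ := X.hy.exists_pair
  obtain ⟨tu, rfl⟩ := hWT u hu
  obtain ⟨tv, rfl⟩ := hWT v hv
  rcases X.fpf.cases with ⟨k, hk⟩ | ⟨z, hz⟩
  swap
  · have hsq : ∀ t : X.T, X.ι t ∈ X.hy.W → t = 1 ∨ t = z := fun t ht => hz.sq_eq_one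
      (X.ι_injective (by rw [map_mul, (X.hy.mem_W.1 ht).2, map_one]))
    rcases hsq tu hu with rfl | rfl
    · exact hu1 (map_one _)
    rcases hsq tv hv with rfl | rfl
    · exact hv1 (map_one _)
    · exact huv rfl
  have hcardT : ∀ t : X.T, k = 1 → X.ι t ∈ X.hy.W := by
    intro t hk1
    subst hk1
    have hT4 : Nat.card (⊤ : Subgroup X.T) ≤ 4 := by
      have hbot : frattini X.T = ⊥ := eq_bot_iff.2 fun s hs => by
        have := (hk.mem_frattini s).2 hs
        simpa using this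
      rw [card_top, ← (frattini X.T).card_mul_index, X.fpf.index_frattini, hbot, card_bot]
    have h4 := four_cases (V := (⊤ : Subgroup X.T))
      (fun s _ => by have := hk.pow_eq_one s; rwa [pow_one, pow_two] at this) hT4
      (mem_top tu) (mem_top tv) (fun e => hu1 (by rw [e, map_one]))
      (fun e => hv1 (by rw [e, map_one])) (fun e => huv (by rw [e])) t (mem_top t)
    rcases h4 with rfl | rfl | rfl | rfl
    exacts [by rw [map_one]; exact one_mem _, hu, hv, by rw [map_mul]; exact mul_mem hu hv]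
  have hk2 : 2 ≤ k := by
    by_contra hlt
    exact hx (X.hy.W_le_frattini (hcardT x (by have := hk.pos; omega)))
  -- `E = T`, and `[w, x]` generates a normal cyclic subgroup
  have hE : ∀ e : X.E, e ∈ X.T := by
    intro e
    obtain ⟨c, hc, t, ht, rfl⟩ := X.decomp e
    rw [X.C_eq_one hk hWT hc (hC c hc), one_mul]
    exact ht
  have hcomm : ∀ p q : X.E, p * q = q * p := fun p q =>
    congrArg Subtype.val (hk.comm ⟨p, hE p⟩ ⟨q, hE q⟩)
  have hω2 : ∀ p : X.E, X.ω (X.ω p) = p := fun p => by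
    rw [X.ω_ω, hcomm X.e2 p, mul_inv_cancel_right]
  set xe : X.E := (x : X.E) with hxe
  set c : X.E := X.ω xe * xe⁻¹ with hc
  have hωc : X.ω c = c⁻¹ := by
    rw [hc, map_mul, map_inv, hω2, mul_inv_rev, inv_inv]
  have hcG : (c : G) = ⁅X.w, (xe : G)⁆ := by
    rw [hc, commutatorElement_def, Subgroup.coe_mul, X.coe_ω, Subgroup.coe_inv]
  haveI : (zpowers (c : G)).Normal := by
    refine normalizer_eq_top_iff.1 (top_le_iff.1 (hgen ▸ (closure_le _).2 ?_))
    have hnorm : ∀ g : G, (g * (c : G) * g⁻¹ ∈ zpowers (c : G)) →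
        g ∈ normalizer ((zpowers (c : G) : Subgroup G) : Set G) := by
      intro g hg
      refine mem_normalizer_of_conj ?_
      intro m hm
      obtain ⟨i, rfl⟩ := mem_zpowers_iff.1 hm
      show g * (c : G) ^ i * g⁻¹ ∈ zpowers (c : G)
      rw [← conj_zpow]
      exact zpow_mem hg i
    rintro g (rfl | rfl)
    · refine hnorm _ ?_
      have : (xe * c * xe⁻¹ : X.E) = c := by rw [hcomm xe c, mul_inv_cancel_right]
      have h := congrArg Subtype.val this
      simp only [Subgroup.coe_mul, Subgroup.coe_inv] at h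
      show (xe : G) * c * (xe : G)⁻¹ ∈ _
      rw [h]; exact mem_zpowers _
    · refine hnorm _ ?_
      rw [← X.coe_ω, hωc, Subgroup.coe_inv]
      exact inv_mem (mem_zpowers _)
  have hle : _root_.commutator G ≤ zpowers (c : G) :=
    commutator_le_of_gen hgen (by rw [hcG]; exact mem_zpowers _)
  exact X.hy.ncyc (isCyclic_of_injective (inclusion hle) (inclusion_injective _))

/-- Reduction to `T` four or quaternion, outside the Frattini subgroup. -/
theorem reduce : (∃ e ∈ X.E, X.w * e ∈ frattini G) ∧ ¬ X.TInΦ ∧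
    (Homo X.T 1 ∨ ∃ z, Quat X.T z) := by
  obtain ⟨e, he, hwe⟩ := X.exists_wE_mem (fun h => X.case_in_frattini h)
  -- `W ≤ T` abelian is impossible
  have hno : ∀ k, Homo X.T k → (2 ≤ k ∨ X.TInΦ) → False := by
    intro k hk h
    have hW := X.W_le_T hk h
    obtain ⟨z0, hz0, hz0c, hz01⟩ := X.hy.exists_central
    obtain ⟨t, ht⟩ := hW z0 hz0
    have hfix : ∀ g : X.E, ∀ s : X.E, (s : G) = z0 → g * s * g⁻¹ = s := fun g s hs =>
      Subtype.ext (by
        push_cast; rw [hs, mem_center_iff.1 hz0c (g : G), mul_inv_cancel_right])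
    set s : X.E := (t : X.E) with hs
    have hsT : s ∈ X.T := t.2
    have hsne : s ≠ 1 := fun h => hz01 (by rw [← ht]; exact congrArg Subtype.val h)
    -- `θ` moves `z0`, while conjugation by `w e` fixes `θ z0`
    have hθs : X.θ s ≠ s := fun h => hsne (X.fixed_eq_one hk hsT h)
    have hcen : ∀ g : X.E, ∀ r : X.E, r = s ∨ r = X.θ s → g * r * g⁻¹ = r := by
      intro g r hr
      obtain ⟨c, hc, n, hn, rfl⟩ := X.decomp g
      have hnr : n * r * n⁻¹ = r := by
        have hrT : r ∈ X.T := by rcases hr with rfl | rfl; exacts [hsT, X.θ_T hsT]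
        have := congrArg Subtype.val (hk.comm ⟨n, hn⟩ ⟨r, hrT⟩)
        simp only [Subgroup.coe_mul] at this
        rw [this, mul_inv_cancel_right]
      have hcr : c * r * c⁻¹ = r := by
        rcases hr with rfl | rfl
        · exact hfix c s ht
        · have := congrArg X.θ (hfix c s ht)
          rwa [map_mul, map_mul, map_inv, X.mem_C.1 hc] at this
      calc c * n * r * (c * n)⁻¹ = c * (n * r * n⁻¹) * c⁻¹ := by group
        _ = r := by rw [hnr, hcr]
    have hθW : ((X.θ s : X.E) : G) ∈ X.hy.W := by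
      refine X.hy.mem_W_of_sq ?_ ?_
      · rcases h with h | h
        · refine X.ι_frattini (t := X.θT t) (map_frattini_mem X.θT ?_)
          refine (hk.mem_frattini t).1 ?_
          rw [show k - 1 = k - 2 + 1 by omega, pow_succ', pow_mul,
            show t ^ 2 = 1 from X.ι_injective (by
              rw [map_pow, ht, pow_two, (X.hy.mem_W.1 hz0).2, map_one]), one_pow]
        · exact h (X.θT t)
      · have : s * s = 1 := Subtype.ext (by
          show X.ι t * X.ι t = 1
          rw [ht, (X.hy.mem_W.1 hz0).2])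
        rw [← Subgroup.coe_mul, ← map_mul, this, map_one, Subgroup.coe_one]
    have hwfix : ∀ r : X.E, (r = s ∨ r = X.θ s) → X.ω r = r := by
      intro r hr
      have hrW : (r : G) ∈ X.hy.W := by
        rcases hr with rfl | rfl
        · show X.ι t ∈ X.hy.W
          rw [ht]; exact hz0
        · exact hθW
      have h1 := X.hy.comm_frattini hwe hrW
      have h2 := congrArg Subtype.val (hcen ⟨e, he⟩ r hr)
      simp only [Subgroup.coe_mul, Subgroup.coe_inv] at h2
      apply Subtype.ext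
      calc ((X.ω r : X.E) : G) = X.w * (e * (r : G) * e⁻¹) * X.w⁻¹ := by rw [h2, X.coe_ω]
        _ = X.w * e * (r : G) * (X.w * e)⁻¹ := by group
        _ = r := by rw [h1, mul_inv_cancel_right]
    have h3 := X.ω_θ s
    rw [hwfix s (Or.inl rfl), hwfix _ (Or.inr rfl)] at h3
    exact hθs (X.θ.injective h3).symm
  refine ⟨⟨e, he, hwe⟩, ?_⟩
  rcases X.fpf.cases with ⟨k, hk⟩ | ⟨z, hz⟩
  · refine ⟨fun h => hno k hk (Or.inr h), Or.inl ?_⟩
    have : k = 1 := by
      by_contra hne
      exact hno k hk (Or.inl (by have := hk.pos; omega))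
    exact this ▸ hk
  · exact ⟨X.quat_not_inΦ hz, Or.inr ⟨z, hz⟩⟩

end Cx

end Cfsg.Agent.BicyclicFusion
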