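import Cfsg.Agent.Lib.BicyclicFusion.CaseFour

/-!
# Essential subgroups: `T` quaternion outside the Frattini subgroup, and the conclusion
-/

set_option autoImplicit false
set_option linter.style.haveILetI false
set_option linter.unusedSectionVars false

namespace Cfsg.Agent.BicyclicFusion

open Subgroup
open scoped commutatorElement

namespace Cx

variable {G : Type*} [Group G] [Finite G] (X : Cx G)

theorem not_quat (D : Three X) {z0 : X.T} (hz : Quat X.T z0) : False := by
  haveI : Fact (Nat.Prime 2) := ⟨Nat.prime_two⟩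
  set b : X.E := (D.b : X.E) with hbdef
  set t : X.E := (D.t : X.E) with htdef
  set z : X.E := (z0 : X.E) with hzdef
  have hzT : z ∈ X.T := z0.2
  have hz1 : z ≠ 1 := fun h => hz.ne_one (Subtype.ext h)
  have hzz : z * z = 1 := congrArg Subtype.val hz.sq
  have htt : t * t = z := congrArg Subtype.val (hz.sq_eq D.t D.t_frat)
  have hbb : b * b = z := congrArg Subtype.val (hz.sq_eq D.b D.b_frat)
  have hT2 : ∀ s : X.T, s * s = 1 ∨ s * s = z0 := fun s => by
    by_cases hs : s ∈ frattini X.T
    · left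
      rcases hz.mem_frattini_cases hs with rfl | rfl
      exacts [mul_one 1, hz.sq]
    · exact Or.inr (hz.sq_eq s hs)
  have hfrat : ∀ s : X.T, s ∈ frattini X.T → (s : X.E) = 1 ∨ (s : X.E) = z := by
    intro s hs
    rcases hz.mem_frattini_cases hs with rfl | rfl
    exacts [Or.inl rfl, Or.inr rfl]
  have hzC : z ∈ X.C := by
    rw [X.mem_C]
    have h2 : X.θT z0 * X.θT z0 = 1 := by rw [← map_mul, hz.sq, map_one]
    exact congrArg Subtype.val ((hz.sq_eq_one h2).resolve_left fun h =>
      hz.ne_one (X.θT.injective (h.trans (map_one _).symm)))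
  have hCT : ∀ s ∈ X.T, s ∈ X.C → s = 1 ∨ s = z := fun s hs hc =>
    hfrat ⟨s, hs⟩ (X.fixed_mem_frattini (t := ⟨s, hs⟩) hc)
  -- `b` inverts `t`
  have hbt : b * t * b⁻¹ = t⁻¹ := by
    have hbtΦ : D.b * D.t ∉ frattini X.T := fun h => D.b_out (by
      have h1 := X.ι_frattini h
      rw [map_mul] at h1
      exact (mul_mem_cancel_right D.t_in).1 h1)
    have h : (b * t) * (b * t) = z := congrArg Subtype.val (hz.sq_eq _ hbtΦ)
    calc b * t * b⁻¹ = (b * t) * (b * t) * t⁻¹ * (b * b)⁻¹ := by group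
      _ = t⁻¹ := by
        rw [h, hbb, show z * t⁻¹ = t⁻¹ * z from
          (congrArg Subtype.val (hz.central D.t⁻¹)).symm, mul_inv_cancel_right]
  have hzW : (z : G) ∈ X.hy.W := by
    have := D.b_sq
    rw [← map_mul, hz.sq_eq D.b D.b_frat] at this
    exact this
  have hz1G : (z : G) ≠ 1 := fun h => hz1 (Subtype.ext h)
  have hzD : (z : G) ∈ _root_.commutator G := (X.hy.mem_W.1 hzW).1
  -- `E = C T` with `C` abelian, equal to the centre
  have hCab : ∀ c ∈ X.C, ∀ c' ∈ X.C, c * c' = c' * c := by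
    have hCp : IsPGroup 2 X.C := X.pgE.to_subgroup _
    set zc : X.C := ⟨z, hzC⟩ with hzc
    have hzcen : ∀ u : X.C, u * zc = zc * u := fun u => Subtype.ext (D.C_cent u u.2 z hzT)
    set F : Subgroup X.C := frattini X.C ⊔ zpowers zc with hF
    haveI : (zpowers zc).Normal :=
      PGroup.zpowers_normal_of_mem_center (mem_center_iff.2 hzcen)
    haveI : F.Normal := sup_normal _ _
    set N : Subgroup X.E := F.map X.C.subtype with hN
    haveI hNn : N.Normal := by
      refine ⟨fun n hn g => ?_⟩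
      obtain ⟨⟨n, hnC⟩, hnF, rfl⟩ := hn
      obtain ⟨c, hc, r, hr, rfl⟩ := X.decomp g
      refine ⟨_, (inferInstance : F.Normal).conj_mem _ hnF ⟨c, hc⟩, ?_⟩
      show c * n * c⁻¹ = c * r * n * (c * r)⁻¹
      rw [mul_assoc c r n, ← D.C_cent n hnC r hr]; group
    have hzN : z ∈ N := ⟨zc, mem_sup_right (mem_zpowers _), rfl⟩
    have hle : frattini X.E ≤ N := by
      refine PGroup.frattini_le_of_quotient_elementary (p := 2) ?_ fun g => ?_
      · rw [_root_.commutator_def, commutator_le]
        intro g _ g' _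
        obtain ⟨c, hc, r, hr, rfl⟩ := X.decomp g
        obtain ⟨c', hc', r', hr', rfl⟩ := X.decomp g'
        have h1 := D.C_cent c hc r' hr'
        have h2 := D.C_cent c' hc' r hr
        have h3 : ⁅r, r'⁆ = 1 ∨ ⁅r, r'⁆ = z := by
          have : (⁅(⟨r, hr⟩ : X.T), ⟨r', hr'⟩⁆ : X.T) ∈ frattini X.T :=
            PGroup.commutatorElement_mem_frattini (X.pgE.to_subgroup _) _ _
          exact hfrat _ this
        have h4 : r * c' = c' * r := h2.symm
        have e : ⁅c * r, c' * r'⁆ = ⁅c, c'⁆ * ⁅r, r'⁆ := by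
          rw [commutatorElement_def, commutatorElement_def, commutatorElement_def]
          calc c * r * (c' * r') * (c * r)⁻¹ * (c' * r')⁻¹
              = c * (r * c') * (r' * r⁻¹) * c⁻¹ * r'⁻¹ * c'⁻¹ := by group
            _ = c * c' * ((r * r' * r⁻¹ * r'⁻¹) * r') * c⁻¹ * r'⁻¹ * c'⁻¹ := by rw [h4]; group
            _ = c * c' * ((r * r' * r⁻¹ * r'⁻¹) * (c⁻¹ * r')) * r'⁻¹ * c'⁻¹ := by
                rw [D.C_cent _ (inv_mem hc) r' hr']; group
            _ = c * c' * c⁻¹ * ((r * r' * r⁻¹ * r'⁻¹) * c'⁻¹) := by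
                rw [← mul_assoc (r * r' * r⁻¹ * r'⁻¹) c⁻¹,
                  ← D.C_cent _ (inv_mem hc) _ (mul_mem (mul_mem (mul_mem hr hr') (inv_mem hr))
                    (inv_mem hr'))]
                group
            _ = c * c' * c⁻¹ * c'⁻¹ * (r * r' * r⁻¹ * r'⁻¹) := by
                rw [← D.C_cent _ (inv_mem hc') _ (mul_mem (mul_mem (mul_mem hr hr') (inv_mem hr))
                    (inv_mem hr'))]
                group
        rw [e]
        refine mul_mem ⟨⁅(⟨c, hc⟩ : X.C), ⟨c', hc'⟩⁆,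
          mem_sup_left (PGroup.commutatorElement_mem_frattini hCp _ _), rfl⟩ ?_
        rcases h3 with h | h <;> rw [h]
        exacts [one_mem _, hzN]
      · obtain ⟨c, hc, r, hr, rfl⟩ := X.decomp g
        rw [(show Commute c r from D.C_cent c hc r hr).mul_pow]
        refine mul_mem ⟨⟨c, hc⟩ ^ 2, mem_sup_left (PGroup.pow_mem_frattini hCp _), rfl⟩ ?_
        rw [pow_two]
        rcases hT2 ⟨r, hr⟩ with h | h
        · rw [show r * r = 1 from congrArg Subtype.val h]; exact one_mem _
        · rw [show r * r = z from congrArg Subtype.val h]; exact hzN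
    -- `|E| ≥ 4 |C|`
    have hCn : X.C.Normal := by
      refine ⟨fun n hn g => ?_⟩
      obtain ⟨c, hc, r, hr, rfl⟩ := X.decomp g
      have : c * r * n * (c * r)⁻¹ = c * n * c⁻¹ := by
        rw [mul_assoc c r n, ← D.C_cent n hn r hr]; group
      rw [this]
      exact mul_mem (mul_mem hc hn) (inv_mem hc)
    haveI := hCn
    have h4 : 4 ≤ X.C.index := by
      let π : X.T →* X.E ⧸ X.C := (QuotientGroup.mk' X.C).comp X.T.subtype
      have hker : π.ker ≤ frattini X.T := fun s hs =>
        X.fixed_mem_frattini ((QuotientGroup.eq_one_iff _).1 hs)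
      have h1 := index_antitone hker
      rw [X.fpf.index_frattini, index_ker] at h1
      rw [index_eq_card]
      exact h1.trans (Subgroup.card_le_card_group _)
    have hne : X.E.subtype.range ≠ ⊤ := by rw [range_subtype]; exact X.D.ne_top
    have h8 := (X.hy.of_injective X.E.subtype X.E.subtype_injective hne).1
    have hk2 : F.index ≤ 2 := by
      have h1 := Subgroup.card_le_of_le hle
      rw [hN, card_map_of_injective X.C.subtype_injective] at h1
      have h2 := (frattini X.E).card_mul_index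
      rw [← X.C.card_mul_index, ← F.card_mul_index] at h2
      have h3 := Nat.card_pos (α := F)
      have h4' := Nat.card_pos (α := frattini X.E)
      by_contra hlt
      have hA : Nat.card F * 3 * 4 ≤ Nat.card F * F.index * X.C.index :=
        Nat.mul_le_mul (Nat.mul_le_mul_left _ (by omega)) h4
      have hB := Nat.mul_le_mul h1 h8
      nlinarith
    obtain ⟨g0, hg0⟩ : ∃ g0 : X.C, zpowers g0 ⊔ F = ⊤ := by
      by_cases htop : F = ⊤
      · exact ⟨1, by rw [htop, sup_top_eq]⟩
      obtain ⟨g, -, hg⟩ := SetLike.exists_of_lt (lt_top_iff_ne_top.2 htop)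
      refine ⟨g, eq_top_iff.2 fun c _ => ?_⟩
      by_cases hc : c ∈ F
      · exact mem_sup_right hc
      have h2 : F.index = 2 := by
        have := F.index_ne_zero_of_finite
        have h1 : F.index ≠ 1 := fun e => htop (index_eq_one.1 e)
        omega
      have : c = g * (g⁻¹ * c) := by group
      rw [this]
      exact mul_mem (mem_sup_left (mem_zpowers g))
        (mem_sup_right ((mul_mem_iff_of_index_two h2).2 (by
          rw [inv_mem_iff]; exact iff_of_false hg hc)))
    have htop : zpowers g0 ⊔ zpowers zc = ⊤ := by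
      refine frattini_nongenerating ?_
      rw [← hg0, hF, sup_assoc, sup_comm (zpowers zc)]
    have hcomm : ∀ u v : X.C, u * v = v * u := by
      intro u v
      have hu : u ∈ zpowers g0 ⊔ zpowers zc := htop ▸ mem_top u
      have hv : v ∈ zpowers g0 ⊔ zpowers zc := htop ▸ mem_top v
      rw [← SetLike.mem_coe, mul_normal] at hu hv
      obtain ⟨_, ⟨i, rfl⟩, _, ⟨i', rfl⟩, rfl⟩ := hu
      obtain ⟨_, ⟨j, rfl⟩, _, ⟨j', rfl⟩, rfl⟩ := hv
      have hgz : Commute g0 zc := hzcen g0
      exact ((((Commute.refl g0).zpow_zpow i j).mul_right (hgz.zpow_zpow i j')).mul_left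
        ((hgz.symm.zpow_zpow i' j).mul_right ((Commute.refl zc).zpow_zpow i' j'))).eq
    exact fun c hc c' hc' => congrArg Subtype.val (hcomm ⟨c, hc⟩ ⟨c', hc'⟩)
  have hCcen : X.C = center X.E := by
    refine le_antisymm (fun c hc => mem_center_iff.2 fun g => ?_) fun g hg => ?_
    · obtain ⟨c', hc', r, hr, rfl⟩ := X.decomp g
      rw [mul_assoc, ← D.C_cent c hc r hr, ← mul_assoc, hCab c' hc' c hc, mul_assoc]
    · obtain ⟨c, hc, r, hr, rfl⟩ := X.decomp g
      refine mul_mem hc ?_
      have hrcen : ∀ s : X.T, s * ⟨r, hr⟩ = ⟨r, hr⟩ * s := fun s => Subtype.ext (by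
        have h := mem_center_iff.1 hg (s : X.E)
        rw [← mul_assoc, ← D.C_cent c hc s s.2, mul_assoc, mul_assoc] at h
        exact mul_left_cancel h)
      by_cases hrΦ : (⟨r, hr⟩ : X.T) ∈ frattini X.T
      · rcases hfrat _ hrΦ with e | e <;> simp only at e <;> rw [e]
        exacts [one_mem _, hzC]
      exfalso
      -- a central element outside `Φ(T)` makes `T` abelian
      have habs : D.b * D.t = D.t * D.b := by
        have hgenT := X.fpf.gen hrΦ
        have hθr : ∀ s, s * X.θT ⟨r, hr⟩ = X.θT ⟨r, hr⟩ * s := fun s => by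
          have := congrArg X.θT (hrcen (X.θT (X.θT s)))
          rwa [map_mul, map_mul, show X.θT (X.θT (X.θT s)) = s from X.fpf.apply_cube s] at this
        have hle : closure {(⟨r, hr⟩ : X.T), X.θT ⟨r, hr⟩} ≤ center X.T := (closure_le _).2 (by
          rintro u (rfl | rfl)
          exacts [mem_center_iff.2 hrcen, mem_center_iff.2 hθr])
        rw [hgenT] at hle
        exact (mem_center_iff.1 (hle (mem_top D.t)) D.b)
      have h := congrArg Subtype.val habs
      simp only [Subgroup.coe_mul] at h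
      rw [show b * t = t * b from h, mul_inv_cancel_right] at hbt
      have : t * t = 1 := by nth_rewrite 2 [hbt]; rw [mul_inv_cancel]
      exact hz1 (htt.symm.trans this)
  have hinvC : ∀ α ∈ X.D.A, ∀ x ∈ X.C, α x ∈ X.C := fun α _ x hx => by
    rw [hCcen] at hx ⊢
    exact (characteristic_iff_map_eq.1 (inferInstance : (center X.E).Characteristic) α) ▸
      mem_map_of_mem α.toMonoidHom hx
  -- commutators in `E` lie in `⟨z⟩`
  have hEcomm : ∀ p q : X.E, ⁅p, q⁆ = 1 ∨ ⁅p, q⁆ = z := by
    intro p q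
    obtain ⟨c, hc, r, hr, rfl⟩ := X.decomp p
    obtain ⟨c', hc', r', hr', rfl⟩ := X.decomp q
    rw [hCcen] at hc hc'
    have e : ⁅c * r, c' * r'⁆ = ⁅r, r'⁆ := by
      have h1 := mem_center_iff.1 hc
      have h2 := mem_center_iff.1 hc'
      calc ⁅c * r, c' * r'⁆ = c * (r * c') * r' * r⁻¹ * c⁻¹ * r'⁻¹ * c'⁻¹ := by
            rw [commutatorElement_def]; group
        _ = c * c' * (r * r' * r⁻¹) * c⁻¹ * r'⁻¹ * c'⁻¹ := by rw [h2 r]; group
        _ = (r * r' * r⁻¹) * (c * c') * c⁻¹ * r'⁻¹ * c'⁻¹ := by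
            rw [show c * c' * (r * r' * r⁻¹) = (r * r' * r⁻¹) * (c * c') from
              (mem_center_iff.1 (mul_mem hc hc') _).symm]
        _ = (r * r' * r⁻¹) * (c' * r'⁻¹) * c'⁻¹ := by rw [← h1 c']; group
        _ = ⁅r, r'⁆ := by rw [← h2 r'⁻¹, commutatorElement_def]; group
    rw [e]
    exact hfrat ⁅(⟨r, hr⟩ : X.T), ⟨r', hr'⟩⁆
      (PGroup.commutatorElement_mem_frattini (X.pgE.to_subgroup _) _ _)
  -- `Φ(E) ≤ C` and `C / Φ(E)` is small
  have hsmall : (frattini X.E).relIndex X.C ≤ 2 := by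
    have hne : X.E.subtype.range ≠ ⊤ := by rw [range_subtype]; exact X.D.ne_top
    have h8 := (X.hy.of_injective X.E.subtype X.E.subtype_injective hne).1
    haveI : X.C.Normal := hCcen ▸ inferInstance
    have hΦC : frattini X.E ≤ X.C := by
      refine PGroup.frattini_le_of_quotient_elementary (p := 2) ?_ fun g => ?_
      · rw [_root_.commutator_def, commutator_le]
        intro p _ q _
        rcases hEcomm p q with h | h <;> rw [h]
        exacts [one_mem _, hzC]
      · obtain ⟨c, hc, r, hr, rfl⟩ := X.decomp g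
        rw [(show Commute c r from D.C_cent c hc r hr).mul_pow, pow_two r]
        refine mul_mem (pow_mem hc 2) ?_
        rcases hT2 ⟨r, hr⟩ with h | h
        · rw [show r * r = 1 from congrArg Subtype.val h]; exact one_mem _
        · rw [show r * r = z from congrArg Subtype.val h]; exact hzC
    have h4 : 4 ≤ X.C.index := by
      let π : X.T →* X.E ⧸ X.C := (QuotientGroup.mk' X.C).comp X.T.subtype
      have hker : π.ker ≤ frattini X.T := fun s hs =>
        X.fixed_mem_frattini ((QuotientGroup.eq_one_iff _).1 hs)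
      have h1 := index_antitone hker
      rw [X.fpf.index_frattini, index_ker] at h1
      rw [index_eq_card]
      exact h1.trans (Subgroup.card_le_card_group _)
    have h1 := relIndex_mul_index hΦC
    by_contra hlt
    nlinarith
  -- elements of `G'` of order at most four lie in `E`
  have hΩ : ∀ h ∈ _root_.commutator G, h * h ∈ X.hy.W → h ∈ X.E := by
    intro h hh hh2
    have hcom : ∀ e : X.E, ⁅h, (e : G)⁆ ∈ X.hy.W := by
      intro e
      refine ⟨commutator_mem_commutator (mem_top _) (mem_top _), ?_⟩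
      have hd : (e : G) * h⁻¹ * (e : G)⁻¹ ∈ _root_.commutator G :=
        Normal.conj_mem inferInstance _ (inv_mem hh) _
      have hc2 := D.cent_W _ e.2 _ (inv_mem hh2)
      calc ⁅h, (e : G)⁆ * ⁅h, (e : G)⁆
          = h * ((e : G) * h⁻¹ * (e : G)⁻¹ * h) * ((e : G) * h⁻¹ * (e : G)⁻¹) := by
            rw [commutatorElement_def]; group
        _ = h * h * ((e : G) * (h * h)⁻¹ * (e : G)⁻¹) := by
            rw [X.hy.comm _ hd h hh]; group
        _ = 1 := by rw [hc2, mul_inv_cancel_right, mul_inv_cancel]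
    have hN : h ∈ normalizer (X.E : Set G) := mem_normalizer_of_conj fun x hx => by
      have : h * x * h⁻¹ = ⁅h, x⁆ * x := by rw [commutatorElement_def]; group
      rw [this]
      exact mul_mem (D.W_le (hcom ⟨x, hx⟩)) hx
    refine X.D.mem_of_stable X.pgE hinvC hsmall hN fun x => ?_
    have hmem : x⁻¹ * cj hN x = x⁻¹ * (⟨_, D.W_le (hcom x)⟩ : X.E) * x := by
      apply Subtype.ext
      simp only [Subgroup.coe_mul, Subgroup.coe_inv, cj_apply, commutatorElement_def]
      group
    rw [hmem, hCcen]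
    have hcen : (⟨_, D.W_le (hcom x)⟩ : X.E) ∈ center X.E :=
      mem_center_iff.2 fun g => Subtype.ext (D.cent_W _ g.2 _ (hcom x))
    have h' := (inferInstance : (center X.E).Normal).conj_mem _ hcen x⁻¹
    rwa [inv_inv] at h'
  -- `z` is central
  have htD : (t : G) ∈ _root_.commutator G := D.t_der
  have htGsq : (t : G) * (t : G) = z := congrArg Subtype.val htt
  set h := D.a * (t : G) * D.a⁻¹ with hh
  have hhD : h ∈ _root_.commutator G := Normal.conj_mem inferInstance _ htD _
  have hhh : h * h = D.a * (z : G) * D.a⁻¹ := by rw [hh, ← htGsq]; group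
  have hhE : h ∈ X.E := hΩ h hhD (hhh ▸ X.hy.W_normal.conj_mem _ hzW D.a)
  have hbh : (b : G) * h * (b : G)⁻¹ = h⁻¹ := by
    set s := ⁅(b : G)⁻¹, D.a⁻¹⁆ with hs
    have hsD : s ∈ _root_.commutator G := commutator_mem_commutator (mem_top _) (mem_top _)
    have hbtG : (b : G) * (t : G) * (b : G)⁻¹ = (t : G)⁻¹ := congrArg Subtype.val hbt
    calc (b : G) * h * (b : G)⁻¹
        = D.a * ((b : G) * (s * (t : G) * s⁻¹) * (b : G)⁻¹) * D.a⁻¹ := by
          rw [hh, hs, commutatorElement_def]; group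
      _ = D.a * (t : G)⁻¹ * D.a⁻¹ := by
          rw [X.hy.comm s hsD _ htD, mul_inv_cancel_right, hbtG]
      _ = h⁻¹ := by rw [hh]; group
  have haz : D.a * (z : G) * D.a⁻¹ = z := by
    have e : ⁅h, (b : G)⁆ = h * h := by
      rw [commutatorElement_def,
        show h * (b : G) * h⁻¹ * (b : G)⁻¹ = h * ((b : G) * h * (b : G)⁻¹)⁻¹ by group, hbh, inv_inv]
    rcases hEcomm ⟨h, hhE⟩ b with e' | e'
    · exfalso
      have : ⁅h, (b : G)⁆ = 1 := congrArg Subtype.val e'
      rw [e, hhh, conj_eq_one_iff] at this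
      exact hz1G this
    · have : ⁅h, (b : G)⁆ = (z : G) := congrArg Subtype.val e'
      rwa [e, hhh] at this
  have hzcen : (z : G) ∈ center G := by
    rw [mem_center_iff]
    intro g
    have hg : g ∈ closure {D.a, X.ι D.b} := D.gen ▸ mem_top g
    induction hg using closure_induction with
    | mem u hu =>
      rcases hu with rfl | rfl
      · exact mul_inv_eq_iff_eq_mul.1 haz
      · exact congrArg Subtype.val (show b * z = z * b from congrArg Subtype.val (hz.central D.b))
    | one => simp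
    | mul u v _ _ hu hv => rw [mul_assoc, hv, ← mul_assoc, hu, mul_assoc]
    | inv u _ hu => exact (Commute.inv_left hu : _)
  have hbzc : X.ι D.b * X.ι D.b ∈ center G := by
    rw [← map_mul, hz.sq_eq D.b D.b_frat]; exact hzcen
  -- every element moves `t` modulo `W` only
  have htmove : ∀ g : G, g * (t : G) * g⁻¹ ∈ X.E ∧ ⁅g, (t : G)⁆ ∈ X.hy.W := by
    intro g
    have hd : g * (t : G) * g⁻¹ ∈ _root_.commutator G := Normal.conj_mem inferInstance _ htD g
    have hsq : g * (t : G) * g⁻¹ * (g * (t : G) * g⁻¹) = (z : G) := by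
      rw [show g * (t : G) * g⁻¹ * (g * (t : G) * g⁻¹) = g * ((t : G) * (t : G)) * g⁻¹ by group,
        htGsq, mem_center_iff.1 hzcen g, mul_inv_cancel_right]
    refine ⟨hΩ _ hd (hsq ▸ hzW), commutator_mem_commutator (mem_top _) (mem_top _), ?_⟩
    rw [commutatorElement_def]
    calc g * (t : G) * g⁻¹ * (t : G)⁻¹ * (g * (t : G) * g⁻¹ * (t : G)⁻¹)
        = g * (t : G) * g⁻¹ * ((t : G)⁻¹ * (g * (t : G) * g⁻¹)) * (t : G)⁻¹ := by group
      _ = g * (t : G) * g⁻¹ * (g * (t : G) * g⁻¹) * ((t : G) * (t : G))⁻¹ := by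
          rw [X.hy.comm _ (inv_mem htD) _ hd]; group
      _ = 1 := by rw [hsq, htGsq, mul_inv_cancel]
  -- normalising elements fixing `b` modulo `C` are in `E`
  have mem_of_fix : ∀ g (hg : g ∈ normalizer (X.E : Set G)), b⁻¹ * cj hg b ∈ X.C → g ∈ X.E := by
    intro g hg hgb
    haveI : X.C.Normal := hCcen ▸ inferInstance
    refine X.D.mem_of_stable X.pgE hinvC hsmall hg fun x => ?_
    let S : Subgroup X.E :=
      { carrier := {x | x⁻¹ * cj hg x ∈ X.C}
        one_mem' := by simp
        mul_mem' := by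
          intro p q (hp : p⁻¹ * cj hg p ∈ X.C) (hq : q⁻¹ * cj hg q ∈ X.C)
          show (p * q)⁻¹ * cj hg (p * q) ∈ X.C
          have : (p * q)⁻¹ * cj hg (p * q) =
              q⁻¹ * (p⁻¹ * cj hg p) * q⁻¹⁻¹ * (q⁻¹ * cj hg q) := by rw [map_mul]; group
          rw [this]
          exact mul_mem ((inferInstance : X.C.Normal).conj_mem _ hp _) hq
        inv_mem' := by
          intro p (hp : p⁻¹ * cj hg p ∈ X.C)
          show p⁻¹⁻¹ * cj hg p⁻¹ ∈ X.C
          have : p⁻¹⁻¹ * cj hg p⁻¹ = p * (p⁻¹ * cj hg p)⁻¹ * p⁻¹ := by rw [map_inv]; group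
          rw [this]
          exact (inferInstance : X.C.Normal).conj_mem _ (inv_mem hp) _ }
    show x ∈ S
    have htS : t ∈ S := by
      show t⁻¹ * cj hg t ∈ X.C
      have hW := (htmove g).2
      have : t⁻¹ * cj hg t = t⁻¹ * (⟨_, D.W_le hW⟩ : X.E) * t⁻¹⁻¹ := by
        apply Subtype.ext
        simp only [Subgroup.coe_mul, Subgroup.coe_inv, cj_apply, commutatorElement_def]
        group
      rw [this, hCcen]
      exact (inferInstance : (center X.E).Normal).conj_mem _
        (mem_center_iff.2 fun e => Subtype.ext (D.cent_W _ e.2 _ hW)) _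
    obtain ⟨c, hc, r, hr, rfl⟩ := X.decomp x
    refine mul_mem ?_ ?_
    · show c⁻¹ * cj hg c ∈ X.C
      exact mul_mem (inv_mem hc) (hinvC _ (X.D.cj_mem g hg) c hc)
    · have hzS : z ∈ S := mul_mem (inv_mem hzC) (hinvC _ (X.D.cj_mem g hg) z hzC)
      have hΦS : ∀ s : X.T, s ∈ frattini X.T → (s : X.E) ∈ S := fun s hs => by
        rcases hfrat s hs with e | e <;> rw [e]
        exacts [one_mem _, hzS]
      rcases D.classes ⟨r, hr⟩ with e | e | e | e
      · exact hΦS _ e
      · have h' := mul_mem (show b ∈ S from hgb) (hΦS _ e)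
        rwa [Subgroup.coe_mul, Subgroup.coe_inv, mul_inv_cancel_left] at h'
      · have h' := mul_mem htS (hΦS _ e)
        rwa [Subgroup.coe_mul, Subgroup.coe_inv, mul_inv_cancel_left] at h'
      · have h' := mul_mem (mul_mem (show b ∈ S from hgb) htS) (hΦS _ e)
        rwa [Subgroup.coe_mul, Subgroup.coe_inv, Subgroup.coe_mul, mul_inv_cancel_left] at h'
  -- `E = C_G(b) ⟨t⟩`
  have hsplit : ∀ x : X.E, ∃ e : X.E, ((e : G) * b = (b : G) * e) ∧
      (x = e ∨ x = e * t) := by
    intro x
    obtain ⟨c, hc, r, hr, rfl⟩ := X.decomp x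
    have hcb : Commute c b := D.C_cent c hc b D.b.2
    have hzb : Commute z b := congrArg Subtype.val (hz.central D.b).symm
    have hfb : ∀ s : X.T, s ∈ frattini X.T → Commute (s : X.E) b := fun s hs => by
      rcases hfrat s hs with e | e <;> rw [e]
      exacts [Commute.one_left b, hzb]
    rcases D.classes ⟨r, hr⟩ with e | e | e | e
    · exact ⟨c * r, congrArg Subtype.val (hcb.mul_left (hfb _ e)).eq, Or.inl rfl⟩
    · refine ⟨c * r, congrArg Subtype.val (hcb.mul_left ?_).eq, Or.inl rfl⟩
      have h' := (Commute.refl b).mul_left (hfb _ e)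
      rwa [Subgroup.coe_mul, Subgroup.coe_inv, mul_inv_cancel_left] at h'
    · refine ⟨c * (t⁻¹ * r), congrArg Subtype.val (hcb.mul_left ?_).eq, Or.inr ?_⟩
      · exact hfb _ e
      · have hc2 : (t⁻¹ * r) * t = t * (t⁻¹ * r) := by
          rcases hfrat _ e with e' | e'
          · rw [show t⁻¹ * r = 1 from e', one_mul, mul_one]
          · rw [show t⁻¹ * r = z from e']; exact (congrArg Subtype.val (hz.central D.t)).symm
        rw [mul_assoc, hc2, mul_inv_cancel_left]
    · refine ⟨c * (b * ((b * t)⁻¹ * r)), congrArg Subtype.val (hcb.mul_left ?_).eq, Or.inr ?_⟩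
      · exact (Commute.refl b).mul_left (hfb _ e)
      · have hc2 : (b * t)⁻¹ * r * t = t * ((b * t)⁻¹ * r) := by
          rcases hfrat _ e with e' | e'
          · rw [show (b * t)⁻¹ * r = 1 from e', one_mul, mul_one]
          · rw [show (b * t)⁻¹ * r = z from e']; exact (congrArg Subtype.val (hz.central D.t)).symm
        rw [mul_assoc, mul_assoc, hc2, mul_inv_rev]
        group
  -- the centraliser of `b` lies in `E`
  set K : Subgroup G := X.E ⊓ centralizer {(b : G)} with hK
  have hKK : K = centralizer {(b : G)} := by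
    by_contra hne
    obtain ⟨g, hgc, hgK, hgN⟩ := exists_normalizing_mem X.hy.pg
      (show K ≤ centralizer {(b : G)} from inf_le_right) hne
    refine hgK ⟨?_, hgc⟩
    have hgb : g * (b : G) = (b : G) * g := mem_centralizer_singleton_iff.1 hgc
    have hgE : g ∈ normalizer (X.E : Set G) := mem_normalizer_of_conj fun x hx => by
      obtain ⟨e, he, hx'⟩ := hsplit ⟨x, hx⟩
      have heK : (e : G) ∈ K := ⟨e.2, mem_centralizer_singleton_iff.2 he⟩
      have h1 : g * (e : G) * g⁻¹ ∈ X.E := ((mem_normalizer_iff.1 hgN _).1 heK).1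
      rcases hx' with e' | e'
      · rw [show x = (e : G) from congrArg Subtype.val e']; exact h1
      · rw [show x = (e : G) * (t : G) from congrArg Subtype.val e',
          show g * ((e : G) * (t : G)) * g⁻¹ = g * (e : G) * g⁻¹ * (g * (t : G) * g⁻¹) by group]
        exact mul_mem h1 (htmove g).1
    refine mem_of_fix g hgE ?_
    have : cj hgE b = b := Subtype.ext (by rw [cj_apply, hgb, mul_inv_cancel_right])
    rw [this, inv_mul_cancel]
    exact one_mem _
  -- a commutator outside `⟨z⟩`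
  obtain ⟨u, hu, hu1, huz⟩ : ∃ u ∈ X.hy.W, u ≠ 1 ∧ u ≠ (z : G) := by
    obtain ⟨u, hu, v, hv, hu1, hv1, huv⟩ := X.hy.exists_pair
    by_cases h : u = (z : G)
    · exact ⟨v, hv, hv1, fun e => huv (h.trans e.symm)⟩
    · exact ⟨u, hu, hu1, h⟩
  obtain ⟨g, hg⟩ := X.hy.exists_commutator_eq D.gen hbzc (X.hy.mem_W.1 hu).1
  have hgb : g * (b : G) * g⁻¹ = u * b := by
    rw [← hg, commutatorElement_def]
    show _ = g * (b : G) * g⁻¹ * (b : G)⁻¹ * (b : G)
    rw [inv_mul_cancel_right]
  have hsub : ∀ x : G, x * (b : G) = (b : G) * x →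
      (g * x * g⁻¹) * (b : G) = (b : G) * (g * x * g⁻¹) := by
    intro x hxb
    set v := g⁻¹ * u * g with hv
    have hvW : v ∈ X.hy.W := by
      have := X.hy.W_normal.conj_mem u hu g⁻¹
      rwa [inv_inv] at this
    have hxE : x ∈ X.E := by
      have : x ∈ K := hKK ▸ mem_centralizer_singleton_iff.2 hxb
      exact this.1
    have hxv : Commute x v := D.cent_W x hxE v hvW
    have hcomm : Commute x (v⁻¹ * b) := hxv.inv_right.mul_right hxb
    have e : (b : G) = g * (v⁻¹ * b) * g⁻¹ := by
      rw [hv]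
      calc (b : G) = u⁻¹ * (u * b) := by group
        _ = u⁻¹ * (g * (b : G) * g⁻¹) := by rw [hgb]
        _ = _ := by group
    calc (g * x * g⁻¹) * (b : G) = g * (x * (v⁻¹ * b)) * g⁻¹ := by
          nth_rewrite 1 [e]; group
      _ = g * ((v⁻¹ * b) * x) * g⁻¹ := by rw [hcomm.eq]
      _ = (b : G) * (g * x * g⁻¹) := by nth_rewrite 2 [e]; group
  have hgN : g ∈ normalizer (X.E : Set G) := mem_normalizer_of_conj fun x hx => by
    obtain ⟨e, he, hx'⟩ := hsplit ⟨x, hx⟩
    have h1 : g * (e : G) * g⁻¹ ∈ X.E := by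
      have : g * (e : G) * g⁻¹ ∈ K := hKK ▸ mem_centralizer_singleton_iff.2 (hsub _ he)
      exact this.1
    rcases hx' with e' | e'
    · rw [show x = (e : G) from congrArg Subtype.val e']; exact h1
    · rw [show x = (e : G) * (t : G) from congrArg Subtype.val e',
        show g * ((e : G) * (t : G)) * g⁻¹ = g * (e : G) * g⁻¹ * (g * (t : G) * g⁻¹) by group]
      exact mul_mem h1 (htmove g).1
  have huE : u ∈ X.E := D.W_le hu
  have hgE : g ∈ X.E := mem_of_fix g hgN (by
    have : b⁻¹ * cj hgN b = (⟨u, huE⟩ : X.E) := Subtype.ext (by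
      rw [Subgroup.coe_mul, cj_apply, hgb, ← D.cent_W _ b.2 u hu, Subgroup.coe_inv,
        inv_mul_cancel_left])
    rw [this, hCcen]
    exact mem_center_iff.2 fun e => Subtype.ext (D.cent_W _ e.2 u hu))
  rcases hEcomm ⟨g, hgE⟩ b with e | e
  · exact hu1 (hg.symm.trans (congrArg Subtype.val e))
  · exact huz (hg.symm.trans (congrArg Subtype.val e))

/-- There is no such configuration. -/
theorem false_of_cx (X : Cx G) : False := by
  obtain ⟨D⟩ := X.exists_three
  rcases D.kind with hk | ⟨z, hz⟩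
  · exact X.not_four D hk
  · exact X.not_quat D hz

end Cx

/-- No essential subgroup. -/
theorem Hyp.no_ess {G : Type*} [Group G] [Finite G] (hy : Hyp G) {E : Subgroup G} (D : Ess E) :
    False := by
  have hne : E.subtype.range ≠ ⊤ := by rw [range_subtype]; exact D.ne_top
  obtain ⟨w, hw, θ, h1, h2, h3, h4, h5, h6⟩ :=
    D.exists_pair hy.pg (hy.of_injective E.subtype E.subtype_injective hne).1
  exact Cx.false_of_cx ⟨hy, E, D, w, hw, θ, h1, h2, h3, h4, h5, h6⟩

end Cfsg.Agent.BicyclicFusion
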