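import Cfsg.Agent.Lib.BicyclicFusion.CaseLow

/-!
# Essential subgroups with `T` a four group or quaternion, outside the Frattini subgroup

The common part: the generators `b`, `t` of `T` with `t = [w, b] ∈ G'`, `E` centralising `W`, and
`C` centralising `T`.
-/

set_option autoImplicit false
set_option linter.style.haveILetI false
set_option linter.unusedSectionVars false

namespace Cfsg.Agent.BicyclicFusion

open Subgroup
open scoped commutatorElement

/-- The common data of the last case. -/
structure Three {G : Type*} [Group G] [Finite G] (X : Cx G) where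
  b : X.T
  t : X.T
  a : G
  kind : Homo X.T 1 ∨ ∃ z, Quat X.T z
  gen : closure {a, X.ι b} = ⊤
  b_out : X.ι b ∉ frattini G
  t_in : X.ι t ∈ frattini G
  t_der : X.ι t ∈ _root_.commutator G
  b_frat : b ∉ frattini X.T
  t_frat : t ∉ frattini X.T
  classes : ∀ s : X.T, s ∈ frattini X.T ∨ b⁻¹ * s ∈ frattini X.T ∨ t⁻¹ * s ∈ frattini X.T ∨
    (b * t)⁻¹ * s ∈ frattini X.T
  ω_b : X.ω (b : X.E) = (t : X.E) * (b : X.E)
  b_sq : X.ι b * X.ι b ∈ X.hy.W
  cent_W : ∀ e ∈ X.E, ∀ u ∈ X.hy.W, e * u = u * e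
  W_le : X.hy.W ≤ X.E
  w_cent : ∀ u ∈ X.hy.W, X.w * u = u * X.w
  C_cent : ∀ c ∈ X.C, ∀ s ∈ X.T, c * s = s * c

namespace Cx

variable {G : Type*} [Group G] [Finite G] (X : Cx G)

theorem exists_three : Nonempty (Three X) := by
  haveI : Fact (Nat.Prime 2) := ⟨Nat.prime_two⟩
  obtain ⟨⟨e0, he0, hwe0⟩, hTΦ, hkind⟩ := X.reduce
  simp only [TInΦ, not_forall] at hTΦ
  obtain ⟨b, hb⟩ := hTΦ
  have hbT : b ∉ frattini X.T := fun h => hb (X.ι_frattini h)
  have hT : IsPGroup 2 X.T := X.pgE.to_subgroup _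
  have hsame : ∀ {u v : G}, u ∈ X.E → v ∈ X.E → u ∉ frattini G → v ∉ frattini G →
      u⁻¹ * v ∈ frattini G := fun hu hv hu' hv' => X.hy.same_coset X.D.ne_top hu hv hu' hv'
  -- a class of `T / Φ(T)` inside the Frattini subgroup of `G`
  obtain ⟨t0, ht0Φ, ht0⟩ : ∃ t0 : X.T, X.ι t0 ∈ frattini G ∧ t0 ∉ frattini X.T := by
    by_cases h : X.ι (X.θT b) ∈ frattini G
    · exact ⟨_, h, X.fpf.apply_notMem hbT⟩
    · refine ⟨b⁻¹ * X.θT b, ?_, fun h' => hbT (X.fpf.fpf b h')⟩
      rw [map_mul, map_inv]
      exact hsame (b : X.E).2 (X.θT b : X.E).2 hb h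
  let q := QuotientGroup.mk' (frattini X.T)
  have hqeq : ∀ {u v : X.T}, q u = q v ↔ u⁻¹ * v ∈ frattini X.T := fun {u v} => QuotientGroup.eq
  have hqexp : ∀ v ∈ (⊤ : Subgroup (X.T ⧸ frattini X.T)), v * v = 1 := by
    intro v _
    obtain ⟨s, rfl⟩ := QuotientGroup.mk'_surjective _ v
    rw [← map_mul, ← pow_two]
    exact (QuotientGroup.eq_one_iff _).2 (PGroup.pow_mem_frattini hT s)
  have hq4 : Nat.card (⊤ : Subgroup (X.T ⧸ frattini X.T)) ≤ 4 := by
    rw [card_top, ← index_eq_card, X.fpf.index_frattini]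
  have hclasses : ∀ t : X.T, X.ι t ∈ frattini G → t ∉ frattini X.T → ∀ s : X.T,
      s ∈ frattini X.T ∨ b⁻¹ * s ∈ frattini X.T ∨ t⁻¹ * s ∈ frattini X.T ∨
        (b * t)⁻¹ * s ∈ frattini X.T := by
    intro t htΦ ht s
    rcases four_cases hqexp hq4 (mem_top (q b)) (mem_top (q t))
      (fun h => hbT ((QuotientGroup.eq_one_iff b).1 h)) (fun h => ht ((QuotientGroup.eq_one_iff t).1 h))
      (fun h => hb (by
        have h1 := X.ι_frattini (hqeq.1 h.symm)
        rw [map_mul, map_inv] at h1
        have h2 := mul_mem htΦ h1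
        rwa [mul_inv_cancel_left] at h2)) (q s) (mem_top _) with e | e | e | e
    · exact Or.inl ((QuotientGroup.eq_one_iff s).1 e)
    · exact Or.inr (Or.inl (hqeq.1 e.symm))
    · exact Or.inr (Or.inr (Or.inl (hqeq.1 e.symm)))
    · exact Or.inr (Or.inr (Or.inr (hqeq.1 (by rw [e, map_mul]))))
  have hcl0 := hclasses t0 ht0Φ ht0
  -- a complement of `b`
  obtain ⟨a, hgen⟩ : ∃ a, closure {a, X.ι b} = ⊤ := by
    obtain ⟨B⟩ := X.hy.basis
    suffices ∃ a, closure {X.ι b, a} = ⊤ by
      obtain ⟨a, ha⟩ := this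
      exact ⟨a, by rw [Set.pair_comm]; exact ha⟩
    by_cases h : (X.ι b)⁻¹ * B.a ∈ frattini G
    · refine ⟨B.b, X.hy.gen_pair hb B.b_notMem fun h' => B.b_notMem_sup_a ?_⟩
      have : B.b = B.a * ((X.ι b)⁻¹ * B.a)⁻¹ * ((X.ι b)⁻¹ * B.b) := by group
      rw [this]
      exact mul_mem (mul_mem (mem_sup_left (mem_zpowers _)) (inv_mem (mem_sup_right h)))
        (mem_sup_right h')
    · exact ⟨B.a, X.hy.gen_pair hb B.a_notMem h⟩
  -- the square of `b` lies in `W`
  have hbsq : X.ι b * X.ι b ∈ X.hy.W := by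
    rw [← map_mul]
    refine X.hy.mem_W_of_sq (X.ι_frattini ?_) ?_
    · rw [← pow_two]; exact PGroup.pow_mem_frattini hT b
    · rw [← map_mul]
      rcases hkind with hk | ⟨z, hz⟩
      · have := hk.pow_eq_one b
        rw [pow_one, pow_two] at this
        rw [this, one_mul, map_one]
      · rw [hz.sq_eq b hbT, hz.sq, map_one]
  have hbW := X.hy.comm_W_of_sq hgen hbsq
  have hEW : ∀ e ∈ X.E, ∀ u ∈ X.hy.W, e * u = u * e := by
    intro e he u hu
    by_cases heΦ : e ∈ frattini G
    · exact X.hy.comm_frattini heΦ hu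
    · have : e = X.ι b * ((X.ι b)⁻¹ * e) := by group
      rw [this, mul_assoc, X.hy.comm_frattini (hsame (u := X.ι b) (b : X.E).2 he hb heΦ) hu,
        ← mul_assoc, hbW u hu, mul_assoc]
  have hwW : ∀ u ∈ X.hy.W, X.w * u = u * X.w := fun u hu => by
    have : X.w = X.w * e0 * e0⁻¹ := by group
    rw [this, mul_assoc, hEW _ (inv_mem he0) u hu, ← mul_assoc, X.hy.comm_frattini hwe0 hu, mul_assoc]
  -- `ω` fixes the class of `t0` and moves that of `b`
  have hωT : ∀ s : X.T, ∃ s' : X.T, (s' : X.E) = X.ω (s : X.E) := fun s =>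
    ⟨⟨_, X.ω_T s.2⟩, rfl⟩
  let ωT : X.T →* X.T := (X.ω.toMonoidHom.comp X.T.subtype).codRestrict X.T fun s => X.ω_T s.2
  have hωinj : Function.Injective ωT := fun u v h =>
    Subtype.ext (X.ω.injective (congrArg Subtype.val h))
  have hωΦ : ∀ s ∈ frattini X.T, ωT s ∈ frattini X.T := fun s hs =>
    map_frattini_le hT hT ωT (mem_map_of_mem _ hs)
  have hωclass : ∀ {u v : X.T}, q u = q v → q (ωT u) = q (ωT v) := fun {u v} h => by
    rw [hqeq, ← map_inv, ← map_mul]
    exact hωΦ _ (hqeq.1 h)
  have hωnot : ∀ s : X.T, s ∉ frattini X.T → ωT s ∉ frattini X.T := by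
    intro s hs h
    have hle : ((frattini X.T).map ωT) = frattini X.T := eq_of_le_of_card_ge
      (map_frattini_le hT hT ωT) (le_of_eq (card_map_of_injective hωinj).symm)
    obtain ⟨s', hs', e⟩ := hle.ge h
    exact hs (hωinj e ▸ hs')
  have hωι : ∀ s : X.T, X.ι (ωT s) = X.w * X.ι s * X.w⁻¹ := fun s => rfl
  have hωΦG : ∀ s : X.T, X.ι (ωT s) ∈ frattini G ↔ X.ι s ∈ frattini G := fun s => by
    rw [hωι]
    exact ((inferInstance : (frattini G).Normal).mem_comm_iff.trans (by rw [inv_mul_cancel_left]))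
  have hωt0 : q (ωT t0) = q t0 := by
    rcases hcl0 (ωT t0) with h | h | h | h
    · exact absurd h (hωnot t0 ht0)
    · exfalso
      refine hb ?_
      have h1 := X.ι_frattini h
      rw [map_mul, map_inv] at h1
      have h2 := mul_mem ((hωΦG t0).2 ht0Φ) (inv_mem h1)
      rwa [mul_inv_rev, inv_inv, mul_inv_cancel_left] at h2
    · exact (hqeq.2 h).symm
    · exfalso
      refine hb ?_
      have h1 := X.ι_frattini h
      rw [map_mul, map_inv, map_mul] at h1
      have h2 := mul_mem (mul_mem ((hωΦG t0).2 ht0Φ) (inv_mem h1)) (inv_mem ht0Φ)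
      convert h2 using 1
      group
  set t : X.T := ωT b * b⁻¹ with ht
  have hωb : q (ωT b) = q (b * t0) := by
    rcases hcl0 (ωT b) with h | h | h | h
    · exact absurd h (hωnot b hbT)
    · exfalso
      -- then `ω` is trivial on `T / Φ(T)`
      have hfix : ∀ s, q (ωT s) = q s := by
        intro s
        rcases hcl0 s with h' | h' | h' | h'
        · rw [(QuotientGroup.eq_one_iff s).2 h' |> fun e => (show q s = 1 from e)]
          exact (QuotientGroup.eq_one_iff _).2 (hωΦ s h')
        · rw [← hqeq.2 h', hωclass (hqeq.2 h').symm]; exact (hqeq.2 h).symm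
        · rw [← hqeq.2 h', hωclass (hqeq.2 h').symm]; exact hωt0
        · rw [← hqeq.2 h', hωclass (hqeq.2 h').symm, map_mul ωT, map_mul, hωt0, map_mul,
            (hqeq.2 h).symm]
      have e : ωT (X.θT t0) = X.θT (X.θT (ωT t0)) := Subtype.ext (X.ω_θ (t0 : X.E))
      have hθcong : ∀ {u v : X.T}, q u = q v → q (X.θT u) = q (X.θT v) := fun {u v} h => by
        rw [hqeq, ← map_inv, ← map_mul]
        exact map_frattini_mem _ (hqeq.1 h)
      have e2 : q (X.θT t0) = q (X.θT (X.θT t0)) := by
        rw [← hfix (X.θT t0), e]; exact hθcong (hθcong hωt0)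
      exact X.fpf.apply_notMem ht0 (X.fpf.fpf _ (hqeq.1 e2))
    · exfalso
      refine hb ((hωΦG b).1 ?_)
      have h1 := X.ι_frattini h
      rw [map_mul, map_inv] at h1
      have h2 := mul_mem ht0Φ h1
      rwa [mul_inv_cancel_left] at h2
    · exact (hqeq.2 h).symm
  have hqcomm : ∀ u v : X.T ⧸ frattini X.T, u * v = v * u := fun u v =>
    BurnsideBasis.quotient_mul_comm hT u v
  have hqt : q t = q t0 := by
    rw [ht, map_mul, map_inv, hωb, map_mul, hqcomm (q b), mul_inv_cancel_right]
  have htT : t ∉ frattini X.T := fun h => ht0 ((QuotientGroup.eq_one_iff t0).1 (by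
    show q t0 = 1
    rw [← hqt]; exact (QuotientGroup.eq_one_iff t).2 h))
  have htΦ : X.ι t ∈ frattini G := by
    have h1 := X.ι_frattini (hqeq.1 hqt.symm)
    rw [map_mul, map_inv] at h1
    have h2 := mul_mem ht0Φ h1
    rwa [mul_inv_cancel_left] at h2
  have htD : X.ι t ∈ _root_.commutator G := by
    rw [ht, map_mul, map_inv, hωι, ← commutatorElement_def]
    exact commutator_mem_commutator (mem_top _) (mem_top _)
  have hωbE : X.ω (b : X.E) = (t : X.E) * (b : X.E) := by
    rw [ht]
    show _ = X.ω (b : X.E) * (b : X.E)⁻¹ * (b : X.E)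
    rw [inv_mul_cancel_right]
  -- `C` centralises `T`
  have hCT : ∀ c ∈ X.C, ∀ s ∈ X.T, c * s = s * c := by
    intro c hc
    let γ : X.T →* X.T := ((MulAut.conj c).toMonoidHom.comp X.T.subtype).codRestrict X.T
      fun s => X.T_normal.conj_mem _ s.2 c
    have hγθ : ∀ s, γ (X.θT s) = X.θT (γ s) := fun s => Subtype.ext (by
      show c * X.θ (s : X.E) * c⁻¹ = X.θ (c * (s : X.E) * c⁻¹)
      rw [map_mul, map_mul, map_inv, X.mem_C.1 hc])
    have hγinj : Function.Injective γ := fun u v h =>
      Subtype.ext ((MulAut.conj c).injective (congrArg Subtype.val h))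
    have hγι : ∀ s : X.T, X.ι (γ s) = (c : G) * X.ι s * (c : G)⁻¹ := fun s => rfl
    suffices htfix : γ t = t by
      have hθfix : γ (X.θT t) = X.θT t := by rw [hγθ, htfix]
      intro s hs
      have hmem : (⟨s, hs⟩ : X.T) ∈ γ.eqLocus (MonoidHom.id _) := by
        have htop := X.fpf.gen htT
        have hle : closure {t, X.θT t} ≤ γ.eqLocus (MonoidHom.id _) := (closure_le _).2 (by
          rintro u (rfl | rfl)
          exacts [htfix, hθfix])
        rw [htop] at hle
        exact hle (mem_top _)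
      have := congrArg Subtype.val (show γ ⟨s, hs⟩ = ⟨s, hs⟩ from hmem)
      exact mul_inv_eq_iff_eq_mul.1 this
    rcases hkind with hk | ⟨z, hz⟩
    · have htW : X.ι t ∈ X.hy.W := X.hy.mem_W_of_sq htΦ (by
        have := hk.pow_eq_one t
        rw [pow_one, pow_two] at this
        rw [← map_mul, this, map_one])
      refine X.ι_injective ?_
      rw [hγι, hEW _ c.2 _ htW, mul_inv_cancel_right]
    · have hγz : γ z = z := by
        have h2 : γ z * γ z = 1 := by rw [← map_mul, hz.sq, map_one]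
        exact (hz.sq_eq_one h2).resolve_left fun h => hz.ne_one (hγinj (h.trans (map_one γ).symm))
      have hγΦ : ∀ s ∈ frattini X.T, γ s ∈ frattini X.T := fun s hs =>
        map_frattini_le hT hT γ (mem_map_of_mem _ hs)
      rcases hclasses t htΦ htT (γ t) with h | h | h | h
      · exfalso
        rcases hz.mem_frattini_cases h with e | e
        · exact htT (hγinj (e.trans (map_one γ).symm) ▸ one_mem _)
        · refine htT (hγinj (e.trans hγz.symm) ▸ ?_)
          rw [hz.frattini_eq]; exact mem_zpowers z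
      · exfalso
        refine hb ?_
        have h1 := X.ι_frattini h
        rw [map_mul, map_inv, hγι] at h1
        have h2 := mul_mem ((inferInstance : (frattini G).Normal).conj_mem _ htΦ (c : G)) (inv_mem h1)
        rwa [mul_inv_rev, inv_inv, mul_inv_cancel_left] at h2
      · rcases hz.mem_frattini_cases h with e | e
        · exact (inv_mul_eq_one.1 e).symm
        · exfalso
          have hγt : γ t = t * z := by rw [← e, mul_inv_cancel_left]
          have hzθ : X.θT z = z := by
            have h2 : X.θT z * X.θT z = 1 := by rw [← map_mul, hz.sq, map_one]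
            exact (hz.sq_eq_one h2).resolve_left fun h' =>
              hz.ne_one (X.θT.injective (h'.trans (map_one _).symm))
          have hγθt : γ (X.θT t) = X.θT t * z := by rw [hγθ, hγt, map_mul, hzθ]
          have hγθθt : γ (X.θT (X.θT t)) = X.θT (X.θT t) * z := by
            rw [hγθ, hγθt, map_mul, hzθ]
          set p := t * X.θT t * X.θT (X.θT t) with hp
          have hpΦ : p ∈ frattini X.T :=
            PGroup.commutator_le_frattini hT (X.fpf.norm_mem t)
          have hp1 : γ p = p := by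
            rcases hz.mem_frattini_cases hpΦ with e' | e' <;> rw [e']
            exacts [map_one _, hγz]
          rw [hp, map_mul, map_mul, hγt, hγθt, hγθθt] at hp1
          refine hz.ne_one ?_
          have hprod : t * z * (X.θT t * z) * (X.θT (X.θT t) * z) =
              t * X.θT t * X.θT (X.θT t) * z := by
            rw [mul_assoc t z, ← mul_assoc z (X.θT t) z, ← hz.central, mul_assoc (X.θT t) z z,
              hz.sq, mul_one, ← mul_assoc]
          rw [hprod] at hp1
          exact mul_eq_left.1 hp1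
      · exfalso
        refine hb ?_
        have h1 := X.ι_frattini h
        rw [map_mul, map_inv, map_mul, hγι] at h1
        have h2 := mul_mem (mul_mem ((inferInstance : (frattini G).Normal).conj_mem _ htΦ (c : G))
          (inv_mem h1)) (inv_mem htΦ)
        convert h2 using 1
        group
  exact ⟨⟨b, t, a, hkind, hgen, hb, htΦ, htD, hbT, htT, hclasses t htΦ htT, hωbE, hbsq, hEW,
    X.W_le_E hEW, hwW, hCT⟩⟩

end Cx

end Cfsg.Agent.BicyclicFusion
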