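import Cfsg.Agent.EqLemmas
import Cfsg.Agent.Lib.PGroup.Basic
import Cfsg.Agent.Lib.RankTwo.Metacyclic

/-!
# A criterion for a two-generated 2-group to be metacyclic, and Itô's theorem

* `R G` : the subgroup `℧₁(G') [G', G]`;
* `isMetacyclic_of_mem` : if `G = ⟨g, h⟩` and `[h, g] ∈ ⟨g⟩ R G`, then `G` is metacyclic;
* `commutator_comm` : the derived group of a product of two cyclic subgroups is abelian.
-/

set_option autoImplicit false
set_option linter.style.haveILetI false

namespace Cfsg.Agent.BicyclicFusion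

open Subgroup
open scoped commutatorElement

variable {G : Type*} [Group G]

/-- The subgroup generated by the squares of the elements of the derived group. -/
def sqDer (G : Type*) [Group G] : Subgroup G :=
  closure {x | ∃ d ∈ _root_.commutator G, d ^ 2 = x}

instance sqDer_normal : (sqDer G).Normal := by
  refine ⟨fun n hn g => ?_⟩
  induction hn using closure_induction with
  | mem x hx =>
    obtain ⟨d, hd, rfl⟩ := hx
    exact subset_closure ⟨g * d * g⁻¹, Normal.conj_mem inferInstance d hd g, by rw [conj_pow]⟩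
  | one => simp
  | mul x y _ _ hx hy =>
    have : g * (x * y) * g⁻¹ = g * x * g⁻¹ * (g * y * g⁻¹) := by group
    rw [this]; exact mul_mem hx hy
  | inv x _ hx =>
    have : g * x⁻¹ * g⁻¹ = (g * x * g⁻¹)⁻¹ := by group
    rw [this]; exact inv_mem hx

theorem sq_mem_sqDer {d : G} (hd : d ∈ _root_.commutator G) : d ^ 2 ∈ sqDer G :=
  subset_closure ⟨d, hd, rfl⟩

theorem sqDer_le : sqDer G ≤ _root_.commutator G :=
  (closure_le _).2 fun _ ⟨_, hd, e⟩ => e ▸ pow_mem hd 2

/-- `℧₁(G') [G', G]`. -/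
def R (G : Type*) [Group G] : Subgroup G :=
  sqDer G ⊔ (⊤ : Subgroup G).lowerCentralSeries 2

instance lcs_normal (n : ℕ) : ((⊤ : Subgroup G).lowerCentralSeries n).Normal :=
  normal_of_characteristic _

instance R_normal : (R G).Normal := sup_normal _ _

theorem R_le : R G ≤ _root_.commutator G :=
  sup_le sqDer_le (((⊤ : Subgroup G).lowerCentralSeries_antitone one_le_two).trans
    top_lowerCentralSeries_one.le)

theorem sq_mem_R {d : G} (hd : d ∈ _root_.commutator G) : d ^ 2 ∈ R G :=
  mem_sup_left (sq_mem_sqDer hd)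

theorem comm_mem_lcs {n : ℕ} {d : G} (hd : d ∈ (⊤ : Subgroup G).lowerCentralSeries n) (g : G) :
    ⁅d, g⁆ ∈ (⊤ : Subgroup G).lowerCentralSeries (n + 1) :=
  commutator_mem_commutator hd (mem_top g)

theorem comm_mem_R {d : G} (hd : d ∈ _root_.commutator G) (g : G) : ⁅d, g⁆ ∈ R G :=
  mem_sup_right (comm_mem_lcs (n := 1) (top_lowerCentralSeries_one.ge hd) g)

/-- Derived group: the normal closure of one commutator. -/
theorem commutator_le_of_gen {g h : G} (hgen : closure {g, h} = ⊤) {N : Subgroup G} [N.Normal]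
    (hc : ⁅h, g⁆ ∈ N) : _root_.commutator G ≤ N := by
  let q := QuotientGroup.mk' N
  have hgh : q h * q g = q g * q h := by
    rw [← map_mul, ← map_mul]
    refine (QuotientGroup.eq.2 ?_).symm
    have : (g * h)⁻¹ * (h * g) = (g * h)⁻¹ * ⁅h, g⁆ * (g * h) := by
      rw [commutatorElement_def]; group
    rw [this]
    simpa using ‹N.Normal›.conj_mem _ hc (g * h)⁻¹
  have hcl : ∀ a : G, ∀ z : G ⧸ N, z * q g = q g * z → z * q h = q h * z → z * q a = q a * z := by
    intro a z hzg hzh
    have ha : a ∈ closure {g, h} := hgen ▸ mem_top a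
    induction ha using closure_induction with
    | mem x hx => rcases hx with rfl | rfl <;> assumption
    | one => simp
    | mul x y _ _ hx hy => rw [map_mul, ← mul_assoc, hx, mul_assoc, hy, mul_assoc]
    | inv x _ hx => rw [map_inv]; exact (Commute.inv_right hx : _)
  rw [_root_.commutator_def, commutator_le]
  intro a _ b _
  rw [← QuotientGroup.eq_one_iff]
  show q ⁅a, b⁆ = 1
  rw [map_commutatorElement, commutatorElement_eq_one_iff_mul_comm]
  exact hcl b (q a) (hcl a (q g) rfl hgh.symm).symm (hcl a (q h) hgh rfl).symm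

theorem isMetacyclic_of_isCyclic [IsCyclic G] : Cfsg.IsMetacyclic G :=
  ⟨⊤, inferInstance, isCyclic_of_injective (⊤ : Subgroup G).subtype Subtype.val_injective,
    isCyclic_of_surjective (QuotientGroup.mk' (⊤ : Subgroup G)) (QuotientGroup.mk'_surjective _)⟩

variable [Finite G]

/-- The criterion. -/
theorem isMetacyclic_of_mem (hG : IsPGroup 2 G) {g h : G} (hgen : closure {g, h} = ⊤) (k : ℤ)
    (hk : (g ^ k)⁻¹ * ⁅h, g⁆ ∈ R G) : Cfsg.IsMetacyclic G := by
  haveI : Fact (Nat.Prime 2) := ⟨Nat.prime_two⟩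
  by_cases hgΦ : g ∈ frattini G
  · have : zpowers h ⊔ frattini G = ⊤ := by
      rw [eq_top_iff, ← hgen, closure_le]
      rintro x (rfl | rfl)
      exacts [mem_sup_right hgΦ, mem_sup_left (mem_zpowers _)]
    haveI := PGroup.isCyclic_of_sup_frattini this
    exact isMetacyclic_of_isCyclic
  set c : G := ⁅h, g⁆ with hc
  have hcD : c ∈ _root_.commutator G := commutator_mem_commutator (mem_top _) (mem_top _)
  have hgk : g ^ k ∈ _root_.commutator G := by
    have : g ^ k = c * ((g ^ k)⁻¹ * c)⁻¹ := by group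
    rw [this]; exact mul_mem hcD (inv_mem (R_le hk))
  obtain ⟨i, rfl⟩ : Even k := by
    by_contra hodd
    obtain ⟨i, rfl⟩ := Int.not_even_iff_odd.1 hodd
    refine hgΦ ?_
    have h2 : (g ^ i) ^ 2 ∈ frattini G := PGroup.pow_mem_frattini hG _
    have : g = ((g ^ i) ^ 2)⁻¹ * g ^ (2 * i + 1) := by group
    rw [this]
    exact mul_mem (inv_mem h2) (PGroup.commutator_le_frattini hG hgk)
  -- one step down the lower central series
  have step : ∀ n, (⊤ : Subgroup G).lowerCentralSeries (n + 2) ≤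
      sqDer G ⊔ (⊤ : Subgroup G).lowerCentralSeries (n + 3) := by
    intro n
    induction n with
    | zero =>
      set N := sqDer G ⊔ (⊤ : Subgroup G).lowerCentralSeries 3 with hN
      haveI : N.Normal := sup_normal _ _
      let q := QuotientGroup.mk' N
      have h2 : ∀ d ∈ _root_.commutator G, q d * q d = 1 := fun d hd => by
        rw [← map_mul, ← pow_two]
        exact (QuotientGroup.eq_one_iff _).2 (mem_sup_left (sq_mem_sqDer hd))
      have hRc : ∀ r ∈ R G, ∀ x : G, q r * q x = q x * q r := by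
        intro r hr x
        rw [← commutatorElement_eq_one_iff_mul_comm, ← map_commutatorElement]
        refine (QuotientGroup.eq_one_iff _).2 ?_
        have hr' : r ∈ sqDer G ⊔ (⊤ : Subgroup G).lowerCentralSeries 2 := hr
        have : ⁅sqDer G ⊔ (⊤ : Subgroup G).lowerCentralSeries 2, (⊤ : Subgroup G)⁆ ≤ N := by
          rw [commutator_le]
          intro u hu v _
          rw [← SetLike.mem_coe, normal_mul] at hu
          obtain ⟨a, ha, b, hb, rfl⟩ := hu
          have e : ⁅a * b, v⁆ = a * ⁅b, v⁆ * a⁻¹ * ⁅a, v⁆ := by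
            simp only [commutatorElement_def]; group
          rw [e]
          refine mul_mem (‹N.Normal›.conj_mem _ (mem_sup_right (comm_mem_lcs hb v)) a) ?_
          rw [commutatorElement_def, show a * v * a⁻¹ * v⁻¹ = a * (v * a⁻¹ * v⁻¹) by group]
          exact mem_sup_left (mul_mem ha (sqDer_normal.conj_mem _ (inv_mem ha) v))
        exact this (commutator_mem_commutator hr' (mem_top x))
      have hcg : q c * q g = q g * q c := by
        have e : c = g ^ (i + i) * ((g ^ (i + i))⁻¹ * c) := by group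
        rw [e, map_mul, map_zpow]
        exact ((Commute.refl (q g)).zpow_left _).mul_left (hRc _ hk g)
      have hch : q c * q h = q h * q c := by
        have e : c = g ^ (i + i) * ((g ^ (i + i))⁻¹ * c) := by group
        have hconj : q h * q g * (q h)⁻¹ = q c * q g := by
          rw [← map_inv, ← map_mul, ← map_mul, ← map_mul, hc, commutatorElement_def]
          congr 1; group
        have hpow : q h * q g ^ (i + i) * (q h)⁻¹ = q g ^ (i + i) := by
          rw [← conj_zpow, hconj, (show Commute (q c) (q g) from hcg).mul_zpow, zpow_add (q c) i i,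
            ← (Commute.refl (q c)).mul_zpow, h2 c hcD, one_zpow, one_mul]
        rw [mul_inv_eq_iff_eq_mul] at hpow
        rw [e, map_mul, map_zpow]
        exact (show Commute (q g ^ (i + i)) (q h) from hpow.symm).mul_left (hRc _ hk h)
      intro u hu
      refine (le_trans ?_ (le_refl N)) hu
      show ⁅(⊤ : Subgroup G).lowerCentralSeries 1, (⊤ : Subgroup G)⁆ ≤ N
      rw [commutator_le]
      intro d hd x _
      rw [top_lowerCentralSeries_one] at hd
      have hZ : _root_.commutator G ≤ (center (G ⧸ N)).comap q := by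
        refine commutator_le_of_gen hgen ?_
        rw [mem_comap, mem_center_iff]
        intro z
        obtain ⟨z, rfl⟩ := QuotientGroup.mk'_surjective N z
        have hz : z ∈ closure {g, h} := hgen ▸ mem_top z
        induction hz using closure_induction with
        | mem y hy => rcases hy with rfl | rfl; exacts [hcg.symm, hch.symm]
        | one => simp
        | mul a b _ _ ha hb => rw [map_mul, mul_assoc, hb, ← mul_assoc, ha, mul_assoc]
        | inv a _ ha => rw [map_inv]; exact (Commute.inv_left ha : _)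
      rw [← QuotientGroup.eq_one_iff]
      show q ⁅d, x⁆ = 1
      rw [map_commutatorElement, commutatorElement_eq_one_iff_mul_comm]
      exact ((mem_center_iff.1 (hZ hd)) (q x)).symm
    | succ n ih =>
      show ⁅(⊤ : Subgroup G).lowerCentralSeries (n + 2), (⊤ : Subgroup G)⁆ ≤ _
      refine (commutator_mono ih le_rfl).trans ?_
      rw [commutator_le]
      intro u hu v _
      rw [← SetLike.mem_coe, normal_mul] at hu
      obtain ⟨a, ha, b, hb, rfl⟩ := hu
      have e : ⁅a * b, v⁆ = a * ⁅b, v⁆ * a⁻¹ * ⁅a, v⁆ := by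
        simp only [commutatorElement_def]; group
      rw [e]
      haveI : (sqDer G ⊔ (⊤ : Subgroup G).lowerCentralSeries (n + 1 + 3)).Normal := sup_normal _ _
      refine mul_mem ((sup_normal (sqDer G) _).conj_mem _ (mem_sup_right (comm_mem_lcs hb v)) a) ?_
      rw [commutatorElement_def, show a * v * a⁻¹ * v⁻¹ = a * (v * a⁻¹ * v⁻¹) by group]
      exact mem_sup_left (mul_mem ha (sqDer_normal.conj_mem _ (inv_mem ha) v))
  have hdown : ∀ n, (⊤ : Subgroup G).lowerCentralSeries 2 ≤
      sqDer G ⊔ (⊤ : Subgroup G).lowerCentralSeries (n + 2) := by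
    intro n
    induction n with
    | zero => exact le_sup_right
    | succ n ih => exact ih.trans (sup_le le_sup_left (step n))
  haveI := hG.isNilpotent
  obtain ⟨n, hn⟩ := Subgroup.nilpotent_iff_lowerCentralSeries.1 ‹Group.IsNilpotent G›
  have hRsq : R G ≤ sqDer G := by
    refine sup_le le_rfl ((hdown n).trans (sup_le le_rfl ?_))
    exact ((⊤ : Subgroup G).lowerCentralSeries_antitone (by omega)).trans (hn.le.trans bot_le)
  -- the derived group lies in `⟨g⟩`
  let q := QuotientGroup.mk' (sqDer G)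
  have hq : q c = q (g ^ (i + i)) := by
    refine (QuotientGroup.eq.2 ?_).symm
    exact hRsq hk
  have hcen : ∀ d ∈ _root_.commutator G, q d ∈ center (G ⧸ sqDer G) := by
    intro d hd
    rw [mem_center_iff]
    intro z
    obtain ⟨z, rfl⟩ := QuotientGroup.mk'_surjective _ z
    rw [eq_comm, ← commutatorElement_eq_one_iff_mul_comm, ← map_commutatorElement]
    exact (QuotientGroup.eq_one_iff _).2 (hRsq (comm_mem_R hd z))
  haveI : ((zpowers (q (g ^ (i + i)))).comap q).Normal := by
    haveI : (zpowers (q (g ^ (i + i)))).Normal := PGroup.zpowers_normal_of_mem_center (hcen _ hgk)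
    infer_instance
  have hsup : _root_.commutator G ≤ (zpowers (q (g ^ (i + i)))).comap q :=
    commutator_le_of_gen hgen (by rw [mem_comap, ← hc, hq]; exact mem_zpowers _)
  have hD : _root_.commutator G ≤ zpowers g := by
    set C := (zpowers g).subgroupOf (_root_.commutator G)
    have : C = ⊤ := by
      refine PGroup.eq_top_of_sup_frattini (eq_top_iff.2 fun d _ => ?_)
      obtain ⟨j, hj⟩ := mem_zpowers_iff.1 (hsup d.2)
      rw [← map_zpow, eq_comm] at hj
      have hmem : ((g ^ (i + i)) ^ j)⁻¹ * (d : G) ∈ sqDer G := QuotientGroup.eq.1 hj.symm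
      have hF : sqDer G ≤ (frattini (_root_.commutator G : Subgroup G)).map
          (_root_.commutator G).subtype := (closure_le _).2 fun _ ⟨e, he, heq⟩ =>
        ⟨⟨e, he⟩ ^ 2, PGroup.pow_mem_frattini (hG.to_subgroup _) _, by simpa using heq⟩
      obtain ⟨f, hf, hfe⟩ := hF hmem
      have : d = ⟨_, zpow_mem hgk j⟩ * f := Subtype.ext (by
        show (d : G) = _ * (f : G)
        rw [show ((f : (_root_.commutator G : Subgroup G)) : G) = _ from hfe]; group)
      rw [this]
      exact mul_mem (mem_sup_left (mem_subgroupOf.2 (zpow_mem (zpow_mem (mem_zpowers g) _) j)))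
        (mem_sup_right hf)
    exact fun x hx => mem_subgroupOf.1 (this ▸ mem_top (⟨x, hx⟩ : (_root_.commutator G : Subgroup G)))
  haveI hn : (zpowers g).Normal := ⟨fun x hx a => by
    have : a * x * a⁻¹ = ⁅a, x⁆ * x := by rw [commutatorElement_def]; group
    rw [this]
    exact mul_mem (hD (commutator_mem_commutator (mem_top _) (mem_top _))) hx⟩
  refine ⟨zpowers g, hn, inferInstance, ⟨(h : G ⧸ zpowers g), fun z => ?_⟩⟩
  obtain ⟨z, rfl⟩ := QuotientGroup.mk_surjective z
  have hz : z ∈ closure {g, h} := hgen ▸ mem_top z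
  induction hz using closure_induction with
  | mem y hy =>
    rcases hy with rfl | rfl
    · exact ⟨0, by simpa using ((QuotientGroup.eq_one_iff _).2 (mem_zpowers y)).symm⟩
    · exact ⟨1, by simp⟩
  | one => exact ⟨0, by simp⟩
  | mul a b _ _ ha hb =>
    obtain ⟨m, hm⟩ := ha
    obtain ⟨m', hm'⟩ := hb
    exact ⟨m + m', by simp only [zpow_add, QuotientGroup.mk_mul, hm, hm'] at *⟩
  | inv a _ ha =>
    obtain ⟨m, hm⟩ := ha
    exact ⟨-m, by simp only [QuotientGroup.mk_inv] at *; simp [hm]⟩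

omit [Finite G] in
/-- Itô: the derived group of a product of two cyclic subgroups is abelian. -/
theorem commutator_comm {x y : G} (hb : ∀ g : G, ∃ i j : ℤ, g = x ^ i * y ^ j) :
    ∀ d ∈ _root_.commutator G, ∀ e ∈ _root_.commutator G, d * e = e * d := by
  have hb' : ∀ g : G, ∃ i j : ℤ, g = y ^ i * x ^ j := fun g => by
    obtain ⟨i, j, h⟩ := hb g⁻¹
    exact ⟨-j, -i, by rw [← inv_inv g, h]; group⟩
  have hx : ∀ j m : ℤ, ∃ j' : ℤ, ∀ i : ℤ,
      x ^ m * ⁅x ^ i, y ^ j⁆ * (x ^ m)⁻¹ = ⁅x ^ i, y ^ j'⁆ := by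
    intro j m
    obtain ⟨b, a, e⟩ := hb' (x ^ m * y ^ j * (x ^ m)⁻¹)
    refine ⟨b, fun i => ?_⟩
    calc x ^ m * ⁅x ^ i, y ^ j⁆ * (x ^ m)⁻¹
        = x ^ i * (x ^ m * y ^ j * (x ^ m)⁻¹) * (x ^ i)⁻¹ * (x ^ m * y ^ j * (x ^ m)⁻¹)⁻¹ := by
          rw [commutatorElement_def]; group
      _ = ⁅x ^ i, y ^ b⁆ := by rw [e, commutatorElement_def]; group
  have hy : ∀ i n : ℤ, ∃ i' : ℤ, ∀ j : ℤ,
      y ^ n * ⁅x ^ i, y ^ j⁆ * (y ^ n)⁻¹ = ⁅x ^ i', y ^ j⁆ := by
    intro i n
    obtain ⟨a, b, e⟩ := hb (y ^ n * x ^ i * (y ^ n)⁻¹)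
    refine ⟨a, fun j => ?_⟩
    calc y ^ n * ⁅x ^ i, y ^ j⁆ * (y ^ n)⁻¹
        = (y ^ n * x ^ i * (y ^ n)⁻¹) * y ^ j * (y ^ n * x ^ i * (y ^ n)⁻¹)⁻¹ * (y ^ j)⁻¹ := by
          rw [commutatorElement_def]; group
      _ = ⁅x ^ a, y ^ j⁆ := by rw [e, commutatorElement_def]; group
  set T : Set G := {u | ∃ i j : ℤ, ⁅x ^ i, y ^ j⁆ = u} with hT
  have hcomm : ∀ u ∈ T, ∀ v ∈ T, u * v = v * u := by
    rintro _ ⟨p, r, rfl⟩ _ ⟨i, j, rfl⟩
    set m := -p with hm
    set n := -r with hn
    obtain ⟨j', hj⟩ := hx j m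
    obtain ⟨i', hi⟩ := hy i n
    have key : x ^ m * (y ^ n * ⁅x ^ i, y ^ j⁆ * (y ^ n)⁻¹) * (x ^ m)⁻¹ =
        y ^ n * (x ^ m * ⁅x ^ i, y ^ j⁆ * (x ^ m)⁻¹) * (y ^ n)⁻¹ := by
      obtain ⟨i'', hi''⟩ := hy i n
      rw [hi, hj, hj, hi]
    set c := ⁅x ^ i, y ^ j⁆ with hc
    have e : ⁅x ^ p, y ^ r⁆ = (y ^ n * x ^ m)⁻¹ * (x ^ m * y ^ n) := by
      rw [hm, hn, commutatorElement_def]; group
    have key2 : (x ^ m * y ^ n) * c = (y ^ n * x ^ m) * c * (y ^ n * x ^ m)⁻¹ * (x ^ m * y ^ n) := by
      have : (y ^ n * x ^ m) * c * (y ^ n * x ^ m)⁻¹ =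
          y ^ n * (x ^ m * c * (x ^ m)⁻¹) * (y ^ n)⁻¹ := by group
      rw [this, ← key]; group
    rw [e, mul_assoc, key2]; group
  have hTle : T ⊆ _root_.commutator G := by
    rintro _ ⟨i, j, rfl⟩
    exact commutator_mem_commutator (mem_top _) (mem_top _)
  haveI : (closure T).Normal := by
    have hgen : ∀ a : G, (∀ u ∈ T, a * u * a⁻¹ ∈ closure T) →
        ∀ u ∈ closure T, a * u * a⁻¹ ∈ closure T := by
      intro a ha u hu
      induction hu using closure_induction with
      | mem z hz => exact ha z hz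
      | one => simp
      | mul p q _ _ hp hq =>
        have : a * (p * q) * a⁻¹ = a * p * a⁻¹ * (a * q * a⁻¹) := by group
        rw [this]; exact mul_mem hp hq
      | inv p _ hp =>
        have : a * p⁻¹ * a⁻¹ = (a * p * a⁻¹)⁻¹ := by group
        rw [this]; exact inv_mem hp
    refine ⟨fun u hu g => ?_⟩
    obtain ⟨m, n, rfl⟩ := hb g
    have : x ^ m * y ^ n * u * (x ^ m * y ^ n)⁻¹ =
        x ^ m * (y ^ n * u * (y ^ n)⁻¹) * (x ^ m)⁻¹ := by group
    rw [this]
    refine hgen _ ?_ _ (hgen _ ?_ _ hu) <;> rintro _ ⟨i, j, rfl⟩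
    · obtain ⟨j', hj⟩ := hx j m; exact hj i ▸ subset_closure ⟨_, _, rfl⟩
    · obtain ⟨i', hi⟩ := hy i n; exact hi j ▸ subset_closure ⟨_, _, rfl⟩
  have hgen : closure {x, y} = ⊤ := eq_top_iff.2 fun g _ => by
    obtain ⟨i, j, rfl⟩ := hb g
    exact mul_mem (zpow_mem (subset_closure (by simp)) _) (zpow_mem (subset_closure (by simp)) _)
  have hle : _root_.commutator G ≤ closure T :=
    commutator_le_of_gen hgen (by
      have : ⁅y, x⁆ = (⁅x ^ (1:ℤ), y ^ (1:ℤ)⁆)⁻¹ := by rw [commutatorElement_def, commutatorElement_def]; group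
      rw [this]; exact inv_mem (subset_closure ⟨1, 1, rfl⟩))
  intro d hd e he
  have h1 : closure T ≤ centralizer T :=
    (closure_le _).2 fun u hu => mem_centralizer_iff.2 fun v hv => hcomm v hv u hu
  exact (mem_centralizer_iff.1 ((closure_le _).2 (fun v hv => mem_centralizer_iff.2 fun u hu =>
    (mem_centralizer_iff.1 (h1 hu) v hv).symm) (hle he) : e ∈ centralizer (closure T : Set G))
      d (hle hd))

end Cfsg.Agent.BicyclicFusion
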