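import Cfsg.Agent.Lib.BicyclicFusion.Criterion
import Cfsg.Agent.Lib.BurnsideBasis.Basic
import Cfsg.Agent.Lib.FusionChain.Stabilizer

/-!
# Bicyclic 2-groups that are not metacyclic

* `exists_basis` : such a group is generated by `a`, `b` with `b ^ 2 ∈ R G`, `a ^ 2 ∉ G'`, and the
  maximal subgroups through `a` and through `a * b` are metacyclic;
* `Basis.not_isMetacyclic` : the third maximal subgroup is not metacyclic;
* `Basis.isPGroup_mulAut` : the automorphism group is a 2-group.
-/

set_option autoImplicit false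
set_option linter.style.haveILetI false
set_option linter.unusedSectionVars false

namespace Cfsg.Agent.BicyclicFusion

open Subgroup
open scoped commutatorElement

variable {G : Type*} [Group G]

theorem gen_of_mem [Finite G] {g h x y : G} (hgen : closure {x, y} = ⊤)
    (hx : x ∈ closure {g, h} ⊔ frattini G) (hy : y ∈ closure {g, h} ⊔ frattini G) :
    closure {g, h} = ⊤ := by
  refine frattini_nongenerating (eq_top_iff.2 (hgen ▸ (closure_le _).2 ?_))
  rintro z (rfl | rfl) <;> assumption

theorem zpow_even_mem_frattini [Finite G] (hG : IsPGroup 2 G) (x : G) {i : ℤ} (hi : Even i) :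
    x ^ i ∈ frattini G := by
  haveI : Fact (Nat.Prime 2) := ⟨Nat.prime_two⟩
  obtain ⟨k, rfl⟩ := hi
  rw [← two_mul, zpow_mul]
  exact zpow_mem (by simpa using PGroup.pow_mem_frattini hG x) k

theorem mem_of_zpow_odd [Finite G] (hG : IsPGroup 2 G) {K : Subgroup G} (hK : frattini G ≤ K)
    {x : G} {i : ℤ} (hi : Odd i) (h : x ^ i ∈ K) : x ∈ K := by
  obtain ⟨k, rfl⟩ := hi
  have : x = (x ^ (2 * k))⁻¹ * x ^ (2 * k + 1) := by group
  rw [this]
  exact mul_mem (inv_mem (hK (zpow_even_mem_frattini hG x (even_two_mul k)))) h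

/-- The commutation rule in a group of class two. -/
theorem zpow_swap {X Y c : G} (hX : Commute c X) (hY : Commute c Y) (h : Y * X = c * X * Y)
    (v u : ℤ) : Y ^ v * X ^ u = c ^ (v * u) * X ^ u * Y ^ v := by
  have h1 : Y * X ^ u = c ^ u * X ^ u * Y := by
    have : Y * X * Y⁻¹ = c * X := by rw [h]; group
    rw [← mul_inv_eq_iff_eq_mul, ← conj_zpow, this, hX.mul_zpow]
  have hXu : Commute (c ^ u) (X ^ u) := (hX.zpow_left u).zpow_right u
  have h2 : (X ^ u)⁻¹ * Y * X ^ u = c ^ u * Y := by
    rw [mul_assoc, h1, ← mul_assoc, hXu.eq]; group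
  have h3 : (X ^ u)⁻¹ * Y ^ v * X ^ u = c ^ (v * u) * Y ^ v := by
    have := congrArg (· ^ v) h2
    rw [(hY.zpow_left u).mul_zpow, ← zpow_mul, mul_comm u v] at this
    rw [← this]
    simpa using (conj_zpow (i := v) (a := (X ^ u)⁻¹) (b := Y)).symm
  rw [show Y ^ v * X ^ u = X ^ u * ((X ^ u)⁻¹ * Y ^ v * X ^ u) by group, h3, ← mul_assoc,
    ((hX.zpow_left (v * u)).zpow_right u).eq]

/-- The derived group modulo `R` is generated by the commutator of two generators. -/
theorem commutator_mod_R {g h : G} (hgen : closure {g, h} = ⊤) {d : G}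
    (hd : d ∈ _root_.commutator G) :
    ∃ m : ℤ, (⁅h, g⁆ ^ m)⁻¹ * d ∈ R G := by
  let q := QuotientGroup.mk' (R G)
  have hc : ⁅h, g⁆ ∈ _root_.commutator G := commutator_mem_commutator (mem_top _) (mem_top _)
  haveI : (zpowers (q ⁅h, g⁆)).Normal := by
    refine ⟨fun z hz a => ?_⟩
    obtain ⟨m, rfl⟩ := mem_zpowers_iff.1 hz
    obtain ⟨a, rfl⟩ := QuotientGroup.mk'_surjective (R G) a
    have : Commute (q ⁅h, g⁆) (q a) := by
      rw [commute_iff_eq, ← commutatorElement_eq_one_iff_mul_comm, ← map_commutatorElement]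
      exact (QuotientGroup.eq_one_iff _).2 (comm_mem_R hc a)
    rw [(this.zpow_left m).symm.eq, mul_inv_cancel_right]
    exact zpow_mem (mem_zpowers _) m
  have := commutator_le_of_gen hgen (N := (zpowers (q ⁅h, g⁆)).comap q) (mem_zpowers _) hd
  obtain ⟨m, hm⟩ := mem_zpowers_iff.1 this
  rw [← map_zpow] at hm
  exact ⟨m, QuotientGroup.eq.1 hm⟩

/-- The criterion, for a power of a generator congruent to any commutator generating `G'` mod `R`. -/
theorem isMetacyclic_of_mem' [Finite G] (hG : IsPGroup 2 G) {x y g h : G}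
    (hgen : closure {x, y} = ⊤) (hgh : closure {g, h} = ⊤) (k : ℤ)
    (hk : (g ^ k)⁻¹ * ⁅y, x⁆ ∈ R G) : Cfsg.IsMetacyclic G := by
  obtain ⟨m, hm⟩ := commutator_mod_R hgen
    (commutator_mem_commutator (mem_top h) (mem_top g) : ⁅h, g⁆ ∈ _root_.commutator G)
  refine isMetacyclic_of_mem hG hgh (k * m) ?_
  rw [← QuotientGroup.eq] at hk hm ⊢
  rw [← hm, zpow_mul, QuotientGroup.mk_zpow _ _ m, hk, QuotientGroup.mk_zpow]

variable [Finite G]

/-- Both exponents of a commutator are twice an odd number. -/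
theorem exists_odd (hG : IsPGroup 2 G) {x y : G} (hb : ∀ g : G, ∃ i j : ℤ, g = x ^ i * y ^ j)
    (hm : ¬ Cfsg.IsMetacyclic G) :
    (∃ i j : ℤ, Odd i ∧ Odd j ∧ (x ^ i * y ^ j) ^ 2 ∈ R G) ∧
      x ^ 2 ∉ _root_.commutator G ∧ y ^ 2 ∉ _root_.commutator G := by
  haveI : Fact (Nat.Prime 2) := ⟨Nat.prime_two⟩
  have hgen : closure {x, y} = ⊤ := eq_top_iff.2 fun g _ => by
    obtain ⟨i, j, rfl⟩ := hb g
    exact mul_mem (zpow_mem (subset_closure (by simp)) _) (zpow_mem (subset_closure (by simp)) _)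
  set c := ⁅y, x⁆ with hc
  have hcD : c ∈ _root_.commutator G := commutator_mem_commutator (mem_top _) (mem_top _)
  let q := QuotientGroup.mk' (R G)
  have hq : ∀ {u v : G}, q u = q v ↔ u⁻¹ * v ∈ R G := fun {u v} => QuotientGroup.eq
  have hbad : ∀ {g h : G}, closure {g, h} = ⊤ → ∀ k : ℤ, q (g ^ k) ≠ q c :=
    fun hgh k e => hm (isMetacyclic_of_mem' hG hgen hgh k (hq.1 e))
  have hcen : ∀ z, Commute (q c) (q z) := fun z => by
    rw [commute_iff_eq, ← commutatorElement_eq_one_iff_mul_comm, ← map_commutatorElement]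
    exact (QuotientGroup.eq_one_iff _).2 (comm_mem_R hcD z)
  have hc2 : q c * q c = 1 := by
    rw [← map_mul, ← pow_two]; exact (QuotientGroup.eq_one_iff _).2 (sq_mem_R hcD)
  have hswap : q y * q x = q c * q x * q y := by
    rw [← map_mul, ← map_mul, ← map_mul, hc, commutatorElement_def]; congr 1; group
  have hgenyx : closure {y, x} = ⊤ := by rw [Set.pair_comm]; exact hgen
  -- parities of exponents in the Frattini subgroup
  have hpar : ∀ i j : ℤ, x ^ i * y ^ j ∈ frattini G → Even i ∧ Even j := by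
    intro i j hij
    have key : ∀ {g h : G}, closure {g, h} = ⊤ → g ∈ frattini G → False := by
      intro g h hgh hg
      have : zpowers h ⊔ frattini G = ⊤ := eq_top_iff.2 (hgh ▸ (closure_le _).2 (by
        rintro z (rfl | rfl)
        exacts [mem_sup_right hg, mem_sup_left (mem_zpowers _)]))
      haveI := PGroup.isCyclic_of_sup_frattini this
      exact hm isMetacyclic_of_isCyclic
    rcases Int.even_or_odd i with hi | hi <;> rcases Int.even_or_odd j with hj | hj
    · exact ⟨hi, hj⟩
    · exact (key hgenyx (mem_of_zpow_odd hG le_rfl hj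
        ((mul_mem_cancel_left (zpow_even_mem_frattini hG x hi)).1 hij))).elim
    · exact (key hgen (mem_of_zpow_odd hG le_rfl hi
        ((mul_mem_cancel_right (zpow_even_mem_frattini hG y hj)).1 hij))).elim
    · exfalso
      have hx : x * y ∈ frattini G := by
        obtain ⟨i, rfl⟩ := hi
        obtain ⟨j, rfl⟩ := hj
        have : x * y = (x ^ (2 * i))⁻¹ * (x ^ (2 * i + 1) * y ^ (2 * j + 1)) * (y ^ (2 * j))⁻¹ := by
          group
        rw [this]
        exact mul_mem (mul_mem (inv_mem (zpow_even_mem_frattini hG x (even_two_mul i))) hij)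
          (inv_mem (zpow_even_mem_frattini hG y (even_two_mul j)))
      refine key (gen_of_mem hgen ?_ ?_) hx (h := y)
      · have : x = x * y * y⁻¹ := by group
        rw [this]
        exact mem_sup_left (mul_mem (subset_closure (by simp)) (inv_mem (subset_closure (by simp))))
      · exact mem_sup_left (subset_closure (by simp))
  -- the exponents of `c`
  obtain ⟨i, j, hij⟩ := hb c
  obtain ⟨⟨i', rfl⟩, ⟨j', rfl⟩⟩ := hpar i j (hij ▸ PGroup.commutator_le_frattini hG hcD)
  have hsquare : ∀ u v : ℤ,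
      q ((x ^ u * y ^ v) ^ 2) = q c ^ (v * u) * (q x ^ (u + u) * q y ^ (v + v)) := by
    intro u v
    rw [map_pow, map_mul, map_zpow, map_zpow, pow_two,
      show q x ^ u * q y ^ v * (q x ^ u * q y ^ v) = q x ^ u * (q y ^ v * q x ^ u) * q y ^ v by group,
      zpow_swap (hcen x) (hcen y) hswap v u,
      show q x ^ u * (q c ^ (v * u) * q x ^ u * q y ^ v) * q y ^ v
        = q x ^ u * q c ^ (v * u) * q x ^ u * q y ^ v * q y ^ v by group,
      (((hcen x).zpow_left (v * u)).zpow_right u).symm.eq, zpow_add, zpow_add]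
    group
  have hij' : q c = q x ^ (i' + i') * q y ^ (j' + j') := by
    rw [← map_zpow, ← map_zpow, ← map_mul, ← hij]
  have hsqx : ∀ u : ℤ, Commute (q x ^ (u + u)) (q y) := by
    intro u
    have h2 : q y * q x ^ (u + u) = q c ^ (1 * (u + u)) * q x ^ (u + u) * q y := by
      simpa using zpow_swap (hcen x) (hcen y) hswap 1 (u + u)
    rw [one_mul, zpow_add (q c), ← (Commute.refl (q c)).mul_zpow, hc2, one_zpow, one_mul] at h2
    exact h2.symm
  refine ⟨?_, ?_, ?_⟩
  · by_cases hodd : Odd i' ∧ Odd j'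
    · refine ⟨i', j', hodd.1, hodd.2, (QuotientGroup.eq_one_iff _).1 ?_⟩
      show q ((x ^ i' * y ^ j') ^ 2) = 1
      rw [hsquare, ← hij']
      obtain ⟨t, ht⟩ := hodd.2.mul hodd.1
      rw [ht, zpow_add, two_mul, zpow_add, ← (Commute.refl (q c)).mul_zpow, hc2, one_zpow, zpow_one,
        one_mul, hc2]
    · exfalso
      obtain ⟨d, u, v, hu, hv, hp, hd⟩ : ∃ d u v : ℤ, i' = d * u ∧ j' = d * v ∧ (Odd u ∨ Odd v) ∧
          Even (d * (v * u)) := by
        obtain ⟨d, u, v, hu, hv, hp⟩ : ∃ d u v : ℤ, i' = d * u ∧ j' = d * v ∧ (Odd u ∨ Odd v) := by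
          by_cases h0 : i' = 0 ∧ j' = 0
          · exact ⟨0, 1, 0, by simp [h0.1], by simp [h0.2], Or.inl odd_one⟩
          · have hg : 0 < Int.gcd i' j' := Nat.pos_of_ne_zero fun h => h0 (Int.gcd_eq_zero_iff.1 h)
            obtain ⟨u, v, huv, hu, hv⟩ := Int.exists_gcd_one hg
            refine ⟨Int.gcd i' j', u, v, hu.trans (mul_comm _ _), hv.trans (mul_comm _ _), ?_⟩
            by_contra h
            rw [not_or, Int.not_odd_iff_even, Int.not_odd_iff_even] at h
            have := Int.dvd_coe_gcd h.1.two_dvd h.2.two_dvd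
            rw [huv] at this
            norm_num at this
        refine ⟨d, u, v, hu, hv, hp, ?_⟩
        rw [hu, hv] at hodd
        rcases Int.even_or_odd d with h | h
        · exact h.mul_right _
        rcases Int.even_or_odd v with hv' | hv'
        · exact (hv'.mul_right u).mul_left d
        rcases Int.even_or_odd u with hu' | hu'
        · exact (hu'.mul_left v).mul_left d
        exact absurd ⟨h.mul hu', h.mul hv'⟩ hodd
      obtain ⟨t, ht⟩ := hd
      have hpow : q ((x ^ u * y ^ v) ^ (2 * d)) = q c := by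
        rw [zpow_mul, map_zpow, zpow_ofNat, hsquare,
          (((hcen x).zpow_zpow _ _).mul_right ((hcen y).zpow_zpow _ _)).mul_zpow,
          ((hsqx u).zpow_right _).mul_zpow]
        · rw [← zpow_mul (q c), mul_comm, ht, zpow_add, ← (Commute.refl (q c)).mul_zpow, hc2,
            one_zpow, one_mul, ← zpow_mul, ← zpow_mul, hij', hu, hv]
          congr 2 <;> ring
      rcases hp with hu' | hv'
      · refine hbad (g := x ^ u * y ^ v) (h := y) (gen_of_mem hgen ?_ ?_) _ hpow
        · refine mem_of_zpow_odd hG le_sup_right hu' ?_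
          have : x ^ u = x ^ u * y ^ v * (y ^ v)⁻¹ := by group
          rw [this]
          exact mem_sup_left (mul_mem (subset_closure (by simp))
            (inv_mem (zpow_mem (subset_closure (by simp)) _)))
        · exact mem_sup_left (subset_closure (by simp))
      · refine hbad (g := x ^ u * y ^ v) (h := x) (gen_of_mem hgen ?_ ?_) _ hpow
        · exact mem_sup_left (subset_closure (by simp))
        · refine mem_of_zpow_odd hG le_sup_right hv' ?_
          have : y ^ v = (x ^ u)⁻¹ * (x ^ u * y ^ v) := by group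
          rw [this]
          exact mem_sup_left (mul_mem (inv_mem (zpow_mem (subset_closure (by simp)) _))
            (subset_closure (by simp)))
  · intro h2
    obtain ⟨m, hm'⟩ := commutator_mod_R hgen h2
    have hx2 : q x ^ (2 : ℤ) = q c ^ m := by
      rw [← map_zpow, ← map_zpow, zpow_ofNat]; exact (hq.2 hm').symm
    rcases Int.even_or_odd m with ⟨t, rfl⟩ | ⟨t, rfl⟩
    · rw [zpow_add (q c), ← (Commute.refl (q c)).mul_zpow, hc2, one_zpow] at hx2
      refine hbad hgenyx (j' + j') ?_
      rw [hij', map_zpow, ← two_mul i', zpow_mul, hx2, one_zpow, one_mul]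
    · rw [zpow_add, two_mul, zpow_add, ← (Commute.refl (q c)).mul_zpow, hc2, one_zpow, one_mul,
        zpow_one] at hx2
      exact hbad hgen 2 (by rw [map_zpow]; exact hx2)
  · intro h2
    obtain ⟨m, hm'⟩ := commutator_mod_R hgen h2
    have hy2 : q y ^ (2 : ℤ) = q c ^ m := by
      rw [← map_zpow, ← map_zpow, zpow_ofNat]; exact (hq.2 hm').symm
    rcases Int.even_or_odd m with ⟨t, rfl⟩ | ⟨t, rfl⟩
    · rw [zpow_add (q c), ← (Commute.refl (q c)).mul_zpow, hc2, one_zpow] at hy2
      refine hbad hgen (i' + i') ?_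
      rw [hij', map_zpow, ← two_mul j', zpow_mul (q y), hy2, one_zpow, mul_one]
    · rw [zpow_add, two_mul, zpow_add, ← (Commute.refl (q c)).mul_zpow, hc2, one_zpow, one_mul,
        zpow_one] at hy2
      exact hbad hgenyx 2 (by rw [map_zpow]; exact hy2)

/-- Generators adapted to the three maximal subgroups. -/
structure Basis (G : Type*) [Group G] where
  a : G
  b : G
  gen : closure {a, b} = ⊤
  a_sq : a ^ 2 ∉ _root_.commutator G
  b_sq : b ^ 2 ∈ R G
  meta_a : Cfsg.IsMetacyclic ↥(zpowers a ⊔ frattini G)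
  meta_ab : Cfsg.IsMetacyclic ↥(zpowers (a * b) ⊔ frattini G)
  not_meta : ¬ Cfsg.IsMetacyclic G

theorem isMetacyclic_maximal (hG : IsPGroup 2 G) {x y : G}
    (hb : ∀ g : G, ∃ i j : ℤ, g = x ^ i * y ^ j) (hm : ¬ Cfsg.IsMetacyclic G) :
    Cfsg.IsMetacyclic ↥(zpowers x ⊔ frattini G) := by
  haveI : Fact (Nat.Prime 2) := ⟨Nat.prime_two⟩
  obtain ⟨⟨i, j, hi, hj, hij⟩, hx2, -⟩ := exists_odd hG hb hm
  set M := zpowers x ⊔ frattini G with hM
  have hxM : x ∈ M := mem_sup_left (mem_zpowers x)
  have hy2 : y ^ 2 ∈ M := mem_sup_right (PGroup.pow_mem_frattini hG y)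
  have hbM : ∀ g : M, ∃ i j : ℤ, g = (⟨x, hxM⟩ : M) ^ i * (⟨y ^ 2, hy2⟩ : M) ^ j := by
    intro g
    obtain ⟨i, j, e⟩ := hb g
    have hye : y ^ j ∈ M := by
      have : y ^ j = (x ^ i)⁻¹ * g := by rw [e]; group
      rw [this]; exact mul_mem (inv_mem (zpow_mem hxM _)) g.2
    have hj : Even j := by
      by_contra hj
      have hyM : y ∈ M := mem_of_zpow_odd hG le_sup_right (Int.not_even_iff_odd.1 hj) hye
      have : M = ⊤ := eq_top_iff.2 fun z _ => by
        obtain ⟨i, j, rfl⟩ := hb z
        exact mul_mem (zpow_mem hxM _) (zpow_mem hyM _)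
      haveI := PGroup.isCyclic_of_sup_frattini this
      exact hm isMetacyclic_of_isCyclic
    obtain ⟨k, rfl⟩ := hj
    refine ⟨i, k, Subtype.ext ?_⟩
    push_cast
    rw [e, ← two_mul, zpow_mul, zpow_ofNat]
  by_contra hmM
  obtain ⟨⟨i1, j1, hi1, -, h1⟩, -, -⟩ := exists_odd (hG.to_subgroup M) hbM hmM
  -- squares of both adapted elements are in the derived group
  let A := Abelianization.of (G := G)
  have hA : ∀ g, A g = 1 ↔ g ∈ _root_.commutator G := fun g => by
    rw [← MonoidHom.mem_ker, Abelianization.ker_of]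
  have e0 : A x ^ (i + i) * A y ^ (j + j) = 1 := by
    have := (hA _).2 (R_le hij)
    rw [map_pow, map_mul, map_zpow, map_zpow, mul_pow] at this
    rwa [zpow_add, zpow_add, ← pow_two, ← pow_two]
  have e1 : A x ^ (i1 + i1) * A y ^ (j1 + j1 + (j1 + j1)) = 1 := by
    have h' := mem_map_of_mem M.subtype (R_le h1)
    have hle : (_root_.commutator M).map M.subtype ≤ _root_.commutator G := by
      rw [commutator_def, commutator_def, map_commutator]
      exact commutator_mono le_top le_top
    have := (hA _).2 (hle h')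
    simp only [map_pow, map_mul, map_zpow, Subgroup.coe_subtype, mul_pow] at this
    rw [← this]
    group
  obtain ⟨t, ht⟩ : ∃ t : ℤ, (i1 + i1) * j - (i + i) * (j1 + j1) = 4 * t + 2 := by
    obtain ⟨a1, rfl⟩ := hi1
    obtain ⟨a2, rfl⟩ := hj
    exact ⟨2 * a1 * a2 + a1 + a2 - i * j1, by ring⟩
  have e2 : A x ^ (4 * t + 2) = 1 := by
    calc A x ^ (4 * t + 2)
        = (A x ^ (i1 + i1) * A y ^ (j1 + j1 + (j1 + j1))) ^ j *
            ((A x ^ (i + i) * A y ^ (j + j)) ^ (j1 + j1))⁻¹ := by
          rw [← ht, mul_zpow, mul_zpow, ← zpow_mul, ← zpow_mul, ← zpow_mul, ← zpow_mul, mul_inv,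
            mul_mul_mul_comm, ← zpow_neg, ← zpow_neg, ← zpow_add, ← zpow_add,
            show (j1 + j1 + (j1 + j1)) * j + -((j + j) * (j1 + j1)) = 0 by ring, zpow_zero, mul_one,
            sub_eq_add_neg]
      _ = 1 := by rw [e1, e0, one_zpow, one_zpow, inv_one, mul_one]
  refine hx2 ((hA _).1 ?_)
  have hod : orderOf (A (x ^ 2)) ∣ 1 := by
    obtain ⟨n, hn⟩ := IsPGroup.iff_orderOf.1 (hG.of_surjective A (QuotientGroup.mk'_surjective _)) (A (x ^ 2))
    have h2 : (orderOf (A (x ^ 2)) : ℤ) ∣ 2 * t + 1 := by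
      rw [orderOf_dvd_iff_zpow_eq_one, map_pow, ← zpow_natCast (A x) 2, ← zpow_mul]
      rw [← e2]; congr 1; push_cast; ring
    rcases Nat.eq_zero_or_pos n with rfl | hn0
    · simpa using hn
    · have : (2 : ℤ) ∣ 2 * t + 1 := by
        refine dvd_trans ?_ h2
        rw [hn]; exact_mod_cast dvd_pow_self 2 hn0.ne'
      omega
  exact orderOf_eq_one_iff.1 (Nat.eq_one_of_dvd_one hod)

theorem exists_basis (hG : IsPGroup 2 G) {x y : G} (hb : ∀ g : G, ∃ i j : ℤ, g = x ^ i * y ^ j)
    (hm : ¬ Cfsg.IsMetacyclic G) : Nonempty (Basis G) := by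
  haveI : Fact (Nat.Prime 2) := ⟨Nat.prime_two⟩
  obtain ⟨⟨i, j, hi, hj, hij⟩, hx2, -⟩ := exists_odd hG hb hm
  have hgen : closure {x, y} = ⊤ := eq_top_iff.2 fun g _ => by
    obtain ⟨i, j, rfl⟩ := hb g
    exact mul_mem (zpow_mem (subset_closure (by simp)) _) (zpow_mem (subset_closure (by simp)) _)
  have hb' : ∀ g : G, ∃ i j : ℤ, g = y ^ i * x ^ j := fun g => by
    obtain ⟨i, j, h⟩ := hb g⁻¹
    exact ⟨-j, -i, by rw [← inv_inv g, h]; group⟩
  refine ⟨⟨x, x ^ i * y ^ j, ?_, hx2, hij, isMetacyclic_maximal hG hb hm, ?_, hm⟩⟩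
  · refine gen_of_mem hgen (mem_sup_left (subset_closure (by simp))) ?_
    refine mem_of_zpow_odd hG le_sup_right hj ?_
    have : y ^ j = (x ^ i)⁻¹ * (x ^ i * y ^ j) := by group
    rw [this]
    exact mem_sup_left (mul_mem (inv_mem (zpow_mem (subset_closure (by simp)) _))
      (subset_closure (by simp)))
  · have e : zpowers (x * (x ^ i * y ^ j)) ⊔ frattini G = zpowers y ⊔ frattini G := by
      have hxi : x ^ (i + 1) ∈ frattini G := zpow_even_mem_frattini hG x hi.add_one
      have hyj : y ^ (j - 1) ∈ frattini G := zpow_even_mem_frattini hG y (hj.sub_odd odd_one)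
      refine le_antisymm (sup_le (zpowers_le.2 ?_) le_sup_right)
        (sup_le (zpowers_le.2 ?_) le_sup_right)
      · have : x * (x ^ i * y ^ j) = x ^ (i + 1) * y * y ^ (j - 1) := by group
        rw [this]
        exact mul_mem (mul_mem (mem_sup_right hxi) (mem_sup_left (mem_zpowers y)))
          (mem_sup_right hyj)
      · set z := x * (x ^ i * y ^ j) with hz
        have : y = (x ^ (i + 1))⁻¹ * z * (y ^ (j - 1))⁻¹ := by rw [hz]; group
        rw [this]
        exact mul_mem (mul_mem (inv_mem (mem_sup_right hxi)) (mem_sup_left (mem_zpowers z)))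
          (inv_mem (mem_sup_right hyj))
    rw [e]
    exact isMetacyclic_maximal hG hb' hm

omit [Finite G] in
theorem frattini_map_aut (α : MulAut G) {z : G} (hz : z ∈ frattini G) : α z ∈ frattini G := by
  have := (characteristic_iff_map_eq.1 (inferInstance : (frattini G).Characteristic) α)
  exact this ▸ mem_map_of_mem α.toMonoidHom hz

namespace Basis

variable (B : Basis G)
include B

omit [Finite G] in
theorem exists_zpow_mul (g : G) :
    ∃ i j : ℤ, (B.a ^ i * B.b ^ j)⁻¹ * g ∈ _root_.commutator G := by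
  have hg : g ∈ closure {B.a, B.b} := B.gen ▸ mem_top g
  have : Abelianization.of g ∈ closure {Abelianization.of B.a, Abelianization.of B.b} := by
    have h := mem_map_of_mem Abelianization.of hg
    rwa [MonoidHom.map_closure, Set.image_pair] at h
  obtain ⟨i, j, e⟩ := mem_closure_pair.1 this
  refine ⟨i, j, ?_⟩
  rw [← Abelianization.ker_of, MonoidHom.mem_ker, map_mul, map_inv, map_mul, map_zpow, map_zpow, e,
    inv_mul_cancel]

/-- The four cosets of the Frattini subgroup. -/
theorem cases (hG : IsPGroup 2 G) (g : G) :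
    g ∈ frattini G ∨ B.a⁻¹ * g ∈ frattini G ∨ B.b⁻¹ * g ∈ frattini G ∨
      (B.a * B.b)⁻¹ * g ∈ frattini G := by
  haveI : Fact (Nat.Prime 2) := ⟨Nat.prime_two⟩
  obtain ⟨i, j, h⟩ := B.exists_zpow_mul g
  let q := QuotientGroup.mk' (frattini G)
  have hsq : ∀ (z : G) (k : ℤ), q (z ^ (2 * k)) = 1 := fun z k =>
    (QuotientGroup.eq_one_iff _).2 (zpow_even_mem_frattini hG z (even_two_mul k))
  have e : q g = q (B.a ^ i) * q (B.b ^ j) := by
    rw [← map_mul]
    exact (QuotientGroup.eq.2 (PGroup.commutator_le_frattini hG h)).symm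
  have hcl : ∀ z : G, q g = q z → z⁻¹ * g ∈ frattini G := fun z hz => QuotientGroup.eq.1 hz.symm
  rcases Int.even_or_odd' i with ⟨i, rfl | rfl⟩ <;> rcases Int.even_or_odd' j with ⟨j, rfl | rfl⟩ <;>
    simp only [zpow_add_one, map_mul, hsq, one_mul, mul_one] at e
  · exact Or.inl ((QuotientGroup.eq_one_iff _).1 e)
  · exact Or.inr (Or.inr (Or.inl (hcl _ e)))
  · exact Or.inr (Or.inl (hcl _ e))
  · exact Or.inr (Or.inr (Or.inr (hcl _ (e.trans (map_mul q _ _).symm))))

theorem sup_ne_top (u : G) : zpowers u ⊔ frattini G ≠ ⊤ := fun h => by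
  haveI := PGroup.isCyclic_of_sup_frattini h
  exact B.not_meta isMetacyclic_of_isCyclic

theorem b_notMem_sup_a : B.b ∉ zpowers B.a ⊔ frattini G := fun h =>
  B.sup_ne_top B.a <| eq_top_iff.2 (B.gen ▸ (closure_le _).2 (by
    rintro z (rfl | rfl)
    exacts [mem_sup_left (mem_zpowers _), h]))

theorem a_notMem_sup_b : B.a ∉ zpowers B.b ⊔ frattini G := fun h =>
  B.sup_ne_top B.b <| eq_top_iff.2 (B.gen ▸ (closure_le _).2 (by
    rintro z (rfl | rfl)
    exacts [h, mem_sup_left (mem_zpowers _)]))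

theorem b_notMem : B.b ∉ frattini G := fun h => B.b_notMem_sup_a (mem_sup_right h)

theorem a_notMem : B.a ∉ frattini G := fun h => B.a_notMem_sup_b (mem_sup_right h)

theorem ab_notMem : B.a * B.b ∉ frattini G := fun h => B.b_notMem_sup_a (by
  have : B.b = B.a⁻¹ * (B.a * B.b) := by group
  rw [this]
  exact mul_mem (inv_mem (mem_sup_left (mem_zpowers _))) (mem_sup_right h))

theorem meta_frattini : Cfsg.IsMetacyclic ↥(frattini G) :=
  RankTwo.isMetacyclic_of_injective (inclusion le_sup_right) (inclusion_injective _) B.meta_a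

/-- `⁅b, a⁆` is no power of a generator modulo `R`. -/
theorem not_mem_of_gen (hG : IsPGroup 2 G) {g h : G} (hgh : closure {g, h} = ⊤) (k : ℤ) :
    (g ^ k)⁻¹ * ⁅B.b, B.a⁆ ∉ R G :=
  fun hk => B.not_meta (isMetacyclic_of_mem' hG B.gen hgh k hk)

theorem comm_notMem_R (hG : IsPGroup 2 G) : ⁅B.b, B.a⁆ ∉ R G := by
  simpa using B.not_mem_of_gen hG B.gen 0

/-- The maximal subgroup through `b` is not metacyclic. -/
theorem not_isMetacyclic (hG : IsPGroup 2 G) :
    ¬ Cfsg.IsMetacyclic ↥(zpowers B.b ⊔ frattini G) := by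
  haveI : Fact (Nat.Prime 2) := ⟨Nat.prime_two⟩
  intro hmeta
  let q := QuotientGroup.mk' (R G)
  set c := ⁅B.b, B.a⁆ with hc
  have hcD : c ∈ _root_.commutator G := commutator_mem_commutator (mem_top _) (mem_top _)
  have hc1 : q c ≠ 1 := fun h => B.comm_notMem_R hG ((QuotientGroup.eq_one_iff _).1 h)
  have hc2 : q c * q c = 1 := by
    rw [← map_mul, ← pow_two]; exact (QuotientGroup.eq_one_iff _).2 (sq_mem_R hcD)
  have hcz : ∀ m : ℤ, q c ^ m = 1 ∨ q c ^ m = q c := by
    intro m
    rcases Int.even_or_odd m with ⟨t, rfl⟩ | ⟨t, rfl⟩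
    · exact Or.inl (by rw [zpow_add, ← (Commute.refl _).mul_zpow, hc2, one_zpow])
    · exact Or.inr (by
        rw [zpow_add, two_mul, zpow_add, ← (Commute.refl _).mul_zpow, hc2, one_zpow, one_mul,
          zpow_one])
  -- an element of order two outside `⟨c⟩` among the powers of `a ^ 2`
  obtain ⟨n, hn⟩ := IsPGroup.iff_orderOf.1 (hG.to_quotient (R G)) (q B.a)
  have hn2 : 2 ≤ n := by
    by_contra hlt
    have : q (B.a ^ 2) = 1 := by
      rw [map_pow, ← orderOf_dvd_iff_pow_eq_one, hn]
      calc 2 ^ n ∣ 2 ^ 1 := pow_dvd_pow 2 (by omega)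
        _ = 2 := pow_one 2
    exact B.a_sq (R_le ((QuotientGroup.eq_one_iff _).1 this))
  obtain ⟨s, rfl⟩ : ∃ s, n = s + 2 := ⟨n - 2, by omega⟩
  set u := (B.a ^ 2) ^ 2 ^ s with hu
  have hue : u = B.a ^ 2 ^ (s + 1) := by rw [hu, ← pow_mul, pow_succ']
  have hu1 : q u ≠ 1 := fun h => by
    rw [hue, map_pow, ← orderOf_dvd_iff_pow_eq_one, hn, Nat.pow_dvd_pow_iff_le_right (by norm_num)] at h
    omega
  have hu2 : q u * q u = 1 := by
    rw [← pow_two, hue, map_pow, ← pow_mul, ← pow_succ, ← orderOf_dvd_iff_pow_eq_one, hn]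
  have huc : q u ≠ q c := fun h =>
    B.not_mem_of_gen hG B.gen ((2 ^ (s + 1) : ℕ) : ℤ) (by
      rw [zpow_natCast, ← hue]; exact QuotientGroup.eq.1 h)
  have huΦ : u ∈ frattini G := pow_mem (PGroup.pow_mem_frattini hG _) _
  have hb2 : q B.b * q B.b = 1 := by
    rw [← map_mul, ← pow_two]; exact (QuotientGroup.eq_one_iff _).2 B.b_sq
  have hcen : ∀ z, Commute (q c) (q z) := fun z => by
    rw [commute_iff_eq, ← commutatorElement_eq_one_iff_mul_comm, ← map_commutatorElement]
    exact (QuotientGroup.eq_one_iff _).2 (comm_mem_R hcD z)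
  have hub : Commute (q u) (q B.b) := by
    rw [hu, map_pow]
    refine Commute.pow_left ?_ _
    have hswap : q B.b * q B.a = q c * q B.a * q B.b := by
      rw [← map_mul, ← map_mul, ← map_mul, hc, commutatorElement_def]; congr 1; group
    have h2 := zpow_swap (hcen B.a) (hcen B.b) hswap 1 2
    rw [zpow_one, one_mul, zpow_two, zpow_two, hc2, one_mul, ← map_mul, ← pow_two] at h2
    exact h2.symm
  -- the elementary subgroup of order eight
  set E : Subgroup (G ⧸ R G) := closure {q c, q u, q B.b} with hE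
  have hcomm : ∀ v ∈ ({q c, q u, q B.b} : Set (G ⧸ R G)),
      ∀ w ∈ ({q c, q u, q B.b} : Set (G ⧸ R G)), v * w = w * v := by
    intro v hv w hw
    simp only [Set.mem_insert_iff, Set.mem_singleton_iff] at hv hw
    rcases hv with rfl | rfl | rfl <;> rcases hw with rfl | rfl | rfl
    exacts [rfl, hcen u, hcen B.b, (hcen u).symm, rfl, hub, (hcen B.b).symm, hub.symm, rfl]
  have hEc : ∀ v ∈ E, ∀ w ∈ E, v * w = w * v := by
    have h1 : E ≤ centralizer ({q c, q u, q B.b} : Set (G ⧸ R G)) :=
      (closure_le _).2 fun v hv => mem_centralizer_iff.2 fun w hw => hcomm w hw v hv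
    intro v hv w hw
    exact mem_centralizer_iff.1 ((closure_le _).2 (fun z hz => mem_centralizer_iff.2 fun w hw =>
      (mem_centralizer_iff.1 (h1 hw) z hz).symm) hw : w ∈ centralizer (E : Set (G ⧸ R G))) v hv
  have hexp : ∀ v ∈ E, v ^ 2 = 1 := by
    intro v hv
    induction hv using closure_induction with
    | mem z hz =>
      simp only [Set.mem_insert_iff, Set.mem_singleton_iff] at hz
      rcases hz with rfl | rfl | rfl <;> rw [pow_two] <;> assumption
    | one => simp
    | mul v w hv hw ihv ihw => rw [(show Commute v w from hEc v hv w hw).mul_pow, ihv, ihw, mul_one]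
    | inv v _ ih => rw [inv_pow, ih, inv_one]
  let f : ↥(zpowers B.b ⊔ frattini G) →* G ⧸ R G := q.comp (Subgroup.subtype _)
  have hfE : E ≤ f.range := by
    rw [hE, closure_le]
    simp only [Set.insert_subset_iff, Set.singleton_subset_iff]
    exact ⟨⟨⟨c, mem_sup_right (PGroup.commutator_le_frattini hG hcD)⟩, rfl⟩,
      ⟨⟨u, mem_sup_right huΦ⟩, rfl⟩, ⟨⟨B.b, mem_sup_left (mem_zpowers _)⟩, rfl⟩⟩
  have hEmeta : Cfsg.IsMetacyclic E :=
    RankTwo.isMetacyclic_of_injective (inclusion hfE) (inclusion_injective _)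
      (RankTwo.isMetacyclic_of_surjective f.rangeRestrict f.rangeRestrict_surjective hmeta)
  have h4 : Nat.card E ≤ 4 := RankTwo.card_le_sq_of_exponent (p := 2) hEmeta
    fun v => Subtype.ext (by simpa using hexp v v.2)
  have hQ : IsPGroup 2 (G ⧸ R G) := hG.to_quotient _
  have h1 : (⊥ : Subgroup (G ⧸ R G)) < zpowers (q c) :=
    bot_lt_iff_ne_bot.2 (by simpa using hc1)
  set E2 : Subgroup (G ⧸ R G) := closure {q c, q u} with hE2
  have h2 : zpowers (q c) < E2 := by
    refine lt_of_le_of_ne (zpowers_le.2 (subset_closure (by simp))) fun e => ?_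
    have : q u ∈ zpowers (q c) := e ▸ subset_closure (by simp)
    obtain ⟨m, hm⟩ := mem_zpowers_iff.1 this
    rcases hcz m with h | h
    · exact hu1 (hm.symm.trans h)
    · exact huc (hm.symm.trans h)
  have h3 : E2 < E := by
    refine lt_of_le_of_ne (closure_mono (by simp [Set.insert_subset_iff])) fun e => ?_
    have hb' : q B.b ∈ E2 := e ▸ subset_closure (by simp)
    have hle : E2 ≤ (frattini G).map q := by
      rw [hE2, closure_le]
      simp only [Set.insert_subset_iff, Set.singleton_subset_iff]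
      exact ⟨mem_map_of_mem _ (PGroup.commutator_le_frattini hG hcD), mem_map_of_mem _ huΦ⟩
    obtain ⟨z, hz, e⟩ := hle hb'
    refine B.b_notMem ?_
    have : B.b = z * (z⁻¹ * B.b) := by group
    rw [this]
    exact mul_mem hz (PGroup.commutator_le_frattini hG (R_le (QuotientGroup.eq.1 e)))
  have k1 := PGroup.mul_card_le_of_lt hQ h1
  have k2 := PGroup.mul_card_le_of_lt hQ h2
  have k3 := PGroup.mul_card_le_of_lt hQ h3
  rw [Subgroup.card_bot] at k1
  omega

/-- `Aut G` is a 2-group. -/
theorem isPGroup_mulAut (hG : IsPGroup 2 G) : IsPGroup 2 (MulAut G) := by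
  haveI : Fact (Nat.Prime 2) := ⟨Nat.prime_two⟩
  haveI : Finite (MulAut G) := Finite.of_injective (fun α : MulAut G => (α : G → G))
    DFunLike.coe_injective
  refine FusionChain.isPGroup_of_coprime_trivial fun α hα => ?_
  set M0 := zpowers B.b ⊔ frattini G with hM0
  -- `α` preserves `bΦ`
  have hb : ∀ β : MulAut G, B.b⁻¹ * β B.b ∈ frattini G := by
    intro β
    have key : ∀ z, Cfsg.IsMetacyclic ↥(zpowers z ⊔ frattini G) → z⁻¹ * β B.b ∉ frattini G := by
      intro z hz h
      have hle : M0.map β.toMonoidHom ≤ zpowers z ⊔ frattini G := by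
        rw [map_le_iff_le_comap, hM0, sup_le_iff, zpowers_le]
        refine ⟨?_, fun w hw => mem_sup_right (frattini_map_aut β hw)⟩
        show β B.b ∈ zpowers z ⊔ frattini G
        have : β B.b = z * (z⁻¹ * β B.b) := by group
        rw [this]
        exact mul_mem (mem_sup_left (mem_zpowers z)) (mem_sup_right h)
      exact B.not_isMetacyclic hG (RankTwo.isMetacyclic_of_injective
        ((inclusion hle).comp (β.toMonoidHom.subgroupMap M0))
        ((inclusion_injective hle).comp fun x y e =>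
          Subtype.ext (β.injective (congrArg Subtype.val e))) hz)
    rcases B.cases hG (β B.b) with h | h | h | h
    · exfalso
      refine B.b_notMem ?_
      simpa using frattini_map_aut β⁻¹ h
    · exact (key _ B.meta_a h).elim
    · exact h
    · exact (key _ B.meta_ab h).elim
  let q := QuotientGroup.mk' (frattini G)
  have hcls : ∀ (β : MulAut G) (z : G), q (β z) = q z → z⁻¹ * β z ∈ frattini G :=
    fun β z e => QuotientGroup.eq.1 e.symm
  have hqb : ∀ β : MulAut G, q (β B.b) = q B.b := fun β => (QuotientGroup.eq.2 (hb β)).symm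
  -- `α` fixes `aΦ` too
  have hcong : ∀ (β : MulAut G) {z w : G}, q z = q w → q (β z) = q (β w) := by
    intro β z w e
    refine QuotientGroup.eq.2 ?_
    rw [← map_inv, ← map_mul]
    exact frattini_map_aut β (QuotientGroup.eq.1 e)
  have hbb : q B.b * q B.b = 1 := by
    rw [← map_mul, ← pow_two]
    exact (QuotientGroup.eq_one_iff _).2 (PGroup.pow_mem_frattini hG _)
  have ha : ∀ β : MulAut G, q (β B.a) = q B.a ∨ q (β B.a) = q (B.a * B.b) := by
    intro β
    rcases B.cases hG (β B.a) with h | h | h | h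
    · exfalso
      refine B.a_notMem ?_
      simpa using frattini_map_aut β⁻¹ h
    · exact Or.inl (QuotientGroup.eq.2 h).symm
    · exfalso
      have e1 : q (β B.a) = q B.b := (QuotientGroup.eq.2 h).symm
      have e2 := hcong β⁻¹ (e1.trans (hqb β).symm)
      simp only [MulAut.inv_apply_self] at e2
      refine B.a_notMem_sup_b ?_
      have : B.a = B.b * (B.b⁻¹ * B.a) := by group
      rw [this]
      exact mul_mem (mem_sup_left (mem_zpowers _)) (mem_sup_right (QuotientGroup.eq.1 e2.symm))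
    · exact Or.inr (QuotientGroup.eq.2 h).symm
  have ha2 : ∀ β : MulAut G, q ((β ^ 2) B.a) = q B.a := by
    intro β
    rw [pow_two, MulAut.mul_apply]
    rcases ha β with e | e <;> rw [hcong β e]
    · exact e
    · rw [map_mul β, map_mul q, e, hqb, map_mul, mul_assoc, hbb, mul_one]
  have hfa : q (α B.a) = q B.a := by
    obtain ⟨k, hk⟩ : ∃ k, orderOf α = 2 * k + 1 := by
      rcases Nat.even_or_odd (orderOf α) with h | h
      · exact absurd hα (fun hc => by
          have := Nat.dvd_gcd h.two_dvd (dvd_refl 2)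
          rw [hc] at this; omega)
      · exact h
    have : α = (α ^ (k + 1)) ^ 2 := by
      rw [← pow_mul, show (k + 1) * 2 = orderOf α + 1 by omega, pow_succ, pow_orderOf_eq_one,
        one_mul]
    rw [this]; exact ha2 _
  let f : Fin 2 → G := ![B.a, B.b]
  let S : Set (Fin 2 → G) := {g | ∀ i, (g i : G ⧸ frattini G) = (f i : G ⧸ frattini G)}
  have hgen : ∀ g ∈ S, closure (Set.range g) = ⊤ := by
    intro g hg
    rw [BurnsideBasis.closure_range_eq_top_iff,
      show (fun i => (g i : G ⧸ frattini G)) = fun i => (f i : G ⧸ frattini G) from funext hg,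
      ← BurnsideBasis.closure_range_eq_top_iff]
    simpa [f, Matrix.range_cons, Set.pair_comm] using B.gen
  have hα2 : ∀ i, q (α (f i)) = q (f i) := Fin.forall_fin_two.2 ⟨hfa, hqb α⟩
  have hdvd := BurnsideBasis.card_dvd_card_invariant_generating (zpowers α) S hgen (by
    intro β hβ g hg i
    have hfix : ∀ i, q (β (f i)) = q (f i) := by
      intro i
      obtain ⟨m, rfl⟩ := mem_zpowers_iff.1 hβ
      induction m using Int.induction_on with
      | zero => simp
      | succ m ih =>
        rw [zpow_add_one, MulAut.mul_apply, hcong _ (hα2 i)]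
        exact ih (zpow_mem (mem_zpowers α) _)
      | pred m ih =>
        rw [zpow_sub_one, MulAut.mul_apply]
        have : q (α⁻¹ (f i)) = q (f i) := by
          have := hcong α⁻¹ (hα2 i)
          simpa using this.symm
        rw [hcong _ this]
        exact ih (zpow_mem (mem_zpowers α) _)
    exact (hcong β (hg i)).trans (hfix i))
  obtain ⟨n, hn⟩ := IsPGroup.iff_card.1 (hG.to_subgroup (frattini G))
  rw [Nat.card_zpowers, show Nat.card S = Nat.card (frattini G) ^ 2 from
    BurnsideBasis.card_lifts (fun i => (f i : G ⧸ frattini G)), hn, ← pow_mul] at hdvd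
  exact orderOf_eq_one_iff.1 (Nat.eq_one_of_dvd_coprimes (hα.pow_right _) dvd_rfl hdvd)

end Basis

end Cfsg.Agent.BicyclicFusion
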