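import Cfsg.Agent.Lib.BicyclicFusion.Realize
import Cfsg.Agent.Lib.BicyclicFusion.Structure
import Mathlib.Algebra.Ring.GeomSum

/-!
# Non-metacyclic bicyclic 2-groups with cyclic derived group

Such a group has generators `a`, `b` with `c = [a, b]` of order `2 ^ n` inverted by `b`,
`b ^ 4 = 1`, `c ^ a = c ^ ρ` with `ρ ≡ 1` mod 4, and `a ^ (2 ^ r) = c ^ (2 * l)` the first power
of `a` in `⟨c, b⟩`, `r ≥ 2`. One can moreover arrange that `b ^ 2` is the involution `z` of `⟨c⟩`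
or that `b ^ 2 = 1` and `∑ ρ ^ j ≡ 4 * l` mod `2 ^ (n + 1)`.
-/

set_option autoImplicit false
set_option linter.style.haveILetI false
set_option linter.unusedSectionVars false

namespace Cfsg.Agent.BicyclicFusion.Realize

open Subgroup Finset
open scoped commutatorElement

/-- `1 + ρ + ... + ρ ^ (N - 1)`. -/
def geom (ρ : ℤ) (N : ℕ) : ℤ := ∑ j ∈ Finset.range N, ρ ^ j

theorem geom_succ (ρ : ℤ) (N : ℕ) : geom ρ (N + 1) = ρ * geom ρ N + 1 := geom_sum_succ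

theorem geom_mul (ρ : ℤ) (N : ℕ) : geom ρ N * (ρ - 1) = ρ ^ N - 1 := geom_sum_mul ρ N

theorem geom_modEq_natCast {m ρ : ℤ} (h : ρ ≡ 1 [ZMOD m]) (N : ℕ) :
    geom ρ N ≡ (N : ℤ) [ZMOD m] := by
  induction N with
  | zero => simp [geom]
  | succ N ih =>
    rw [geom_succ, Nat.cast_succ]
    simpa using (h.mul ih).add_right 1

theorem geom_two_mul (ρ : ℤ) (h : ℕ) : geom ρ (h + h) = geom ρ h * (ρ ^ h + 1) := by
  rw [geom, geom, Finset.sum_range_add, mul_add, mul_one, Finset.sum_mul, add_comm]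
  refine congrArg₂ (· + ·) (Finset.sum_congr rfl fun j _ => ?_) rfl
  rw [pow_add, mul_comm]

theorem conj_pow_c {G : Type*} [Group G] {a c : G} {ρ : ℤ} (hc : a * c * a⁻¹ = c ^ ρ) (i : ℕ)
    (j : ℤ) : a ^ i * c ^ j * (a ^ i)⁻¹ = c ^ (j * ρ ^ i) := by
  induction i with
  | zero => simp
  | succ i ih =>
    rw [pow_succ', show a * a ^ i * c ^ j * (a * a ^ i)⁻¹ = a * (a ^ i * c ^ j * (a ^ i)⁻¹) * a⁻¹
      by group, ih, ← conj_zpow, hc, ← zpow_mul, pow_succ]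
    congr 1; ring

theorem conj_pow_b {G : Type*} [Group G] {a b c : G} {ρ : ℤ} (hc : a * c * a⁻¹ = c ^ ρ)
    (hb : a * b * a⁻¹ = c * b) (i : ℕ) : a ^ i * b * (a ^ i)⁻¹ = c ^ geom ρ i * b := by
  induction i with
  | zero => simp [geom]
  | succ i ih =>
    rw [pow_succ', show a * a ^ i * b * (a * a ^ i)⁻¹ = a * (a ^ i * b * (a ^ i)⁻¹) * a⁻¹ by group,
      ih, show a * (c ^ geom ρ i * b) * a⁻¹ = a * c ^ geom ρ i * a⁻¹ * (a * b * a⁻¹) by group,
      ← conj_zpow, hc, hb, ← zpow_mul, ← mul_assoc, geom_succ, zpow_add_one]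

namespace SData

variable {G : Type*} [Group G] {n r : ℕ} {e ρ l : ℤ} (d : SData G n r e ρ l)
include d

theorem modEq_of_zpow_eq {i j : ℤ} (h : d.c ^ i = d.c ^ j) : i ≡ j [ZMOD 2 ^ n] := by
  rw [zpow_eq_zpow_iff_modEq, d.rel.ord] at h
  exact_mod_cast h

/-- `a` fixes its own power `c ^ (2 * l)`. -/
theorem fix_dvd : (2 : ℤ) ^ n ∣ (ρ - 1) * (2 * l) := by
  have h : d.c ^ (ρ * (2 * l)) = d.c ^ (2 * l) := by
    rw [zpow_mul, ← d.conj_c, conj_zpow, ← d.a_pow, (Commute.self_pow d.a _).eq,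
      mul_inv_cancel_right]
  have := Int.modEq_iff_dvd.1 (d.modEq_of_zpow_eq h).symm
  rwa [show ρ * (2 * l) - 2 * l = (ρ - 1) * (2 * l) by ring] at this

theorem geom_modEq : geom ρ (2 ^ r) ≡ 4 * l [ZMOD 2 ^ n] := by
  refine d.modEq_of_zpow_eq (mul_right_cancel (b := d.b) ?_)
  rw [← conj_pow_b d.conj_c d.conj_b, d.a_pow, ← zpow_neg, mul_assoc, d.rel.swap, ← mul_assoc,
    ← zpow_add, neg_neg]
  congr 2; ring

theorem pow_modEq : ρ ^ (2 ^ r) ≡ 1 [ZMOD 2 ^ n] := by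
  rw [Int.modEq_comm, Int.modEq_iff_dvd, ← geom_mul]
  have h1 := (Int.modEq_iff_dvd.1 d.geom_modEq.symm).mul_right (ρ - 1)
  have h2 := d.fix_dvd.mul_left 2
  have := dvd_add h1 h2
  rwa [show (geom ρ (2 ^ r) - 4 * l) * (ρ - 1) + 2 * ((ρ - 1) * (2 * l))
    = geom ρ (2 ^ r) * (ρ - 1) by ring] at this

end SData

variable {G : Type*} [Group G]

/-- The normality of `⟨c, b⟩`. -/
theorem closure_normal [Finite G] {a b c : G} {ρ : ℤ} (hgen : closure {a, b} = ⊤)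
    (hc : a * c * a⁻¹ = c ^ ρ) (hb : a * b * a⁻¹ = c * b) (_hbc : b * c * b⁻¹ = c⁻¹) :
    (closure {c, b}).Normal := by
  refine normalizer_eq_top_iff.1 (eq_top_iff.2 (hgen ▸ (closure_le _).2 ?_))
  have hcm : c ∈ closure {c, b} := subset_closure (by simp)
  have hbm : b ∈ closure {c, b} := subset_closure (by simp)
  simp only [Set.insert_subset_iff, Set.singleton_subset_iff]
  refine ⟨?_, ?_⟩
  · refine mem_normalizer_of_conj fun x hx => ?_
    have hle : closure {c, b} ≤ (closure {c, b}).comap (MulAut.conj a).toMonoidHom := by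
      rw [closure_le]
      simp only [Set.insert_subset_iff, Set.singleton_subset_iff]
      refine ⟨?_, ?_⟩
      · show a * c * a⁻¹ ∈ closure {c, b}
        rw [hc]; exact zpow_mem hcm _
      · show a * b * a⁻¹ ∈ closure {c, b}
        rw [hb]; exact mul_mem hcm hbm
    exact hle hx
  · exact le_normalizer (subset_closure (by simp))

theorem exists_sData_zero [Finite G] (hG : IsPGroup 2 G) (B : Basis G)
    (hcyc : IsCyclic ↥(_root_.commutator G)) :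
    ∃ (n r : ℕ) (e ρ l : ℤ), 1 ≤ n ∧ 2 ≤ r ∧ (4 : ℤ) ∣ ρ - 1 ∧
      (e = 0 ∨ (2 ≤ n ∧ e = 2 ^ (n - 1))) ∧ Nonempty (SData G n r e ρ l) := by
  haveI : Fact (Nat.Prime 2) := ⟨Nat.prime_two⟩
  set c := ⁅B.a, B.b⁆ with hc
  have hba : ⁅B.b, B.a⁆ = c⁻¹ := (commutatorElement_inv _ _).symm
  have hcD : c ∈ _root_.commutator G := commutator_mem_commutator (mem_top _) (mem_top _)
  -- `⟨c⟩` is the derived group
  have hnorm : (zpowers c).Normal := by
    refine ⟨fun x hx g => ?_⟩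
    obtain ⟨k, rfl⟩ := mem_zpowers_iff.1 hx
    rw [← conj_zpow]
    refine zpow_mem ?_ k
    obtain ⟨γ, hγ⟩ := hcyc.exists_generator
    set N : Subgroup ↥(_root_.commutator G) := zpowers ⟨c, hcD⟩ with hN
    have hgc : g * c * g⁻¹ ∈ _root_.commutator G := Normal.conj_mem inferInstance c hcD g
    obtain ⟨i, hi⟩ := mem_zpowers_iff.1 (hγ ⟨c, hcD⟩)
    obtain ⟨j, hj⟩ := mem_zpowers_iff.1 (hγ ⟨g * (γ : G) * g⁻¹,
      Normal.conj_mem inferInstance _ γ.2 g⟩)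
    refine ⟨j, ?_⟩
    have e1 : c = (γ : G) ^ i := by simpa using (congrArg Subtype.val hi).symm
    have e2 : g * (γ : G) * g⁻¹ = (γ : G) ^ j := by simpa using (congrArg Subtype.val hj).symm
    show c ^ j = g * c * g⁻¹
    rw [e1, ← conj_zpow, e2, ← zpow_mul, ← zpow_mul, mul_comm]
  haveI := hnorm
  have hder : ∀ x ∈ _root_.commutator G, x ∈ zpowers c :=
    commutator_le_of_gen B.gen (by rw [hba]; exact inv_mem (mem_zpowers c))
  obtain ⟨n, hn⟩ := IsPGroup.iff_orderOf.1 hG c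
  have hn1 : 1 ≤ n := by
    by_contra h0
    rw [show n = 0 by omega, pow_zero, orderOf_eq_one_iff] at hn
    refine B.comm_notMem_R hG ?_
    rw [hba, hn, inv_one]; exact one_mem _
  have hmod : ∀ {i j : ℤ}, c ^ i = c ^ j → i ≡ j [ZMOD 2 ^ n] := fun h => by
    rw [zpow_eq_zpow_iff_modEq, hn] at h; exact_mod_cast h
  have heqz : ∀ {i j : ℤ}, i ≡ j [ZMOD 2 ^ n] → c ^ i = c ^ j := fun h => by
    rw [zpow_eq_zpow_iff_modEq, hn]; exact_mod_cast h
  obtain ⟨α, hα⟩ := mem_zpowers_iff.1 (hnorm.conj_mem c (mem_zpowers c) B.a)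
  obtain ⟨β, hβ⟩ := mem_zpowers_iff.1 (hnorm.conj_mem c (mem_zpowers c) B.b)
  have hαodd : Odd α := by
    by_contra hev
    obtain ⟨k, rfl⟩ := Int.not_odd_iff_even.1 hev
    have h1 : (c ^ (k + k)) ^ ((2 : ℤ) ^ (n - 1)) = 1 := by
      rw [← zpow_mul, ← orderOf_dvd_iff_zpow_eq_one, hn]
      refine ⟨k, ?_⟩
      obtain ⟨n, rfl⟩ := Nat.exists_eq_add_of_le hn1
      rw [show 1 + n - 1 = n by omega]
      push_cast
      ring
    rw [hα, conj_zpow, conj_eq_one_iff, ← orderOf_dvd_iff_zpow_eq_one, hn] at h1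
    have h1' : 2 ^ n ∣ 2 ^ (n - 1) := by exact_mod_cast h1
    rw [Nat.pow_dvd_pow_iff_le_right (by norm_num)] at h1'
    omega
  -- `b ^ 2` is an even power of `c`
  obtain ⟨s, hs⟩ : ∃ s : ℤ, B.b * B.b = c ^ (2 * s) := by
    haveI : (zpowers (c ^ (2 : ℤ))).Normal := ⟨fun x hx g => by
      obtain ⟨k, rfl⟩ := mem_zpowers_iff.1 hx
      obtain ⟨j, hj⟩ := mem_zpowers_iff.1 (hnorm.conj_mem c (mem_zpowers c) g)
      refine ⟨j * k, ?_⟩
      show (c ^ (2 : ℤ)) ^ (j * k) = _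
      rw [← conj_zpow, ← conj_zpow, ← hj, ← zpow_mul, ← zpow_mul, ← zpow_mul]
      congr 1; ring⟩
    have hsd : ∀ x ∈ sqDer G, x ∈ zpowers (c ^ (2 : ℤ)) := by
      refine (closure_le _).2 ?_
      rintro _ ⟨d, hd, rfl⟩
      obtain ⟨i, rfl⟩ := mem_zpowers_iff.1 (hder d hd)
      refine ⟨i, ?_⟩
      show (c ^ (2 : ℤ)) ^ i = _
      rw [← zpow_natCast (c ^ i), ← zpow_mul, ← zpow_mul, mul_comm]; rfl
    have hlcs : (⊤ : Subgroup G).lowerCentralSeries 2 ≤ zpowers (c ^ (2 : ℤ)) := by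
      show ⁅(⊤ : Subgroup G).lowerCentralSeries 1, ⊤⁆ ≤ _
      rw [commutator_le]
      intro d hd g _
      rw [top_lowerCentralSeries_one] at hd
      obtain ⟨i, rfl⟩ := mem_zpowers_iff.1 (hder d hd)
      obtain ⟨j, hj⟩ := mem_zpowers_iff.1 (hnorm.conj_mem c (mem_zpowers c) g)
      have hjodd : Odd j := by
        by_contra hev
        obtain ⟨k, rfl⟩ := Int.not_odd_iff_even.1 hev
        have h1 : (c ^ (k + k)) ^ ((2 : ℤ) ^ (n - 1)) = 1 := by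
          rw [← zpow_mul, ← orderOf_dvd_iff_zpow_eq_one, hn]
          refine ⟨k, ?_⟩
          obtain ⟨n, rfl⟩ := Nat.exists_eq_add_of_le hn1
          rw [show 1 + n - 1 = n by omega]
          push_cast
          ring
        rw [hj, conj_zpow, conj_eq_one_iff, ← orderOf_dvd_iff_zpow_eq_one, hn] at h1
        have h1' : 2 ^ n ∣ 2 ^ (n - 1) := by exact_mod_cast h1
        rw [Nat.pow_dvd_pow_iff_le_right (by norm_num)] at h1'
        omega
      obtain ⟨t, rfl⟩ := hjodd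
      refine ⟨-(t * i), ?_⟩
      show (c ^ (2 : ℤ)) ^ (-(t * i)) = ⁅c ^ i, g⁆
      rw [commutatorElement_def, show c ^ i * g * (c ^ i)⁻¹ * g⁻¹ = c ^ i * (g * (c ^ i)⁻¹ * g⁻¹)
        by group, ← zpow_neg, ← conj_zpow, ← hj, ← zpow_mul, ← zpow_mul, ← zpow_add]
      congr 1; ring
    obtain ⟨s, hs⟩ := mem_zpowers_iff.1 ((sup_le hsd hlcs : R G ≤ _) B.b_sq)
    exact ⟨s, by rw [← pow_two, ← hs, ← zpow_mul]⟩
  have hab : B.a * B.b * B.a⁻¹ = c * B.b := by rw [hc, commutatorElement_def]; group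
  -- `b` inverts `c`
  have hF : 2 * s * β ≡ 2 * s [ZMOD 2 ^ n] := hmod (by
    rw [mul_comm, zpow_mul, hβ, conj_zpow, ← hs]; group)
  have hE : 2 * s * α ≡ 1 + β + 2 * s [ZMOD 2 ^ n] := hmod (by
    rw [mul_comm, zpow_mul, hα, conj_zpow, ← hs, zpow_add, zpow_add, zpow_one, hβ, ← hs,
      show B.a * (B.b * B.b) * B.a⁻¹ = B.a * B.b * B.a⁻¹ * (B.a * B.b * B.a⁻¹) by group, hab]
    group)
  obtain ⟨p, hp⟩ := hαodd
  rw [Int.modEq_iff_dvd] at hF hE
  have h4s : (2 : ℤ) ^ n ∣ 4 * s := by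
    have h1 : (2 : ℤ) ^ n ∣ 4 * s * (1 - 2 * s * p) := by
      obtain ⟨u, hu⟩ := hF
      obtain ⟨v, hv⟩ := hE
      exact ⟨u + 2 * s * v, by linear_combination hu + 2 * s * hv + (4 * s * s) * hp⟩
    refine IsCoprime.dvd_of_dvd_mul_right ?_ h1
    refine IsCoprime.pow_left ⟨s * p, 1, by ring⟩
  have hβm : β ≡ -1 [ZMOD 2 ^ n] := by
    rw [Int.modEq_comm, Int.modEq_iff_dvd]
    obtain ⟨v, hv⟩ := hE
    obtain ⟨w, hw⟩ := h4s
    exact ⟨v + p * w, by linear_combination hv + 2 * s * hp + p * hw⟩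
  have hinv : B.b * c * B.b⁻¹ = c⁻¹ := by rw [← hβ, heqz hβm, zpow_neg_one]
  obtain ⟨e, he, hb2⟩ : ∃ e : ℤ, (e = 0 ∨ (2 ≤ n ∧ e = 2 ^ (n - 1))) ∧
      B.b * B.b = c ^ e := by
    obtain ⟨n, rfl⟩ := Nat.exists_eq_add_of_le hn1
    obtain ⟨w, hw⟩ := h4s
    have h2s : 2 * s = 2 ^ n * w := by
      rw [pow_add, pow_one] at hw
      linarith
    rcases Int.even_or_odd' w with ⟨k, rfl | rfl⟩
    · refine ⟨0, Or.inl rfl, hs.trans (heqz ?_)⟩
      rw [h2s, Int.modEq_iff_dvd]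
      exact ⟨-k, by rw [pow_add]; ring⟩
    · have hn0 : n ≠ 0 := by
        rintro rfl
        simp at h2s; omega
      refine ⟨2 ^ (1 + n - 1), Or.inr ⟨by omega, rfl⟩, hs.trans (heqz ?_)⟩
      rw [h2s, Int.modEq_iff_dvd, show 1 + n - 1 = n by omega]
      exact ⟨-k, by rw [pow_add]; ring⟩
  have hcΦ : c ∈ frattini G := PGroup.commutator_le_frattini hG hcD
  have hnmem : B.b ∉ zpowers c := fun h => B.b_notMem (zpowers_le.2 hcΦ h)
  have hrel : Rel c B.b n e := ⟨hn, hinv, hnmem, hb2⟩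
  -- choose `a` or `a * b`
  obtain ⟨a, ρ, hρ4, hac, hac', hgen, ha2⟩ : ∃ (a : G) (ρ : ℤ), (4 : ℤ) ∣ ρ - 1 ∧
      a * c * a⁻¹ = c ^ ρ ∧ a * B.b * a⁻¹ = c * B.b ∧ closure {a, B.b} = ⊤ ∧
      (a ^ 2 ∈ _root_.commutator G → B.a ^ 2 ∈ _root_.commutator G) := by
    rcases Int.even_or_odd p with ⟨q, hq⟩ | ⟨q, hq⟩
    · exact ⟨B.a, α, ⟨q, by linarith⟩, hα.symm, hab, B.gen, id⟩
    · refine ⟨B.a * B.b, -α, ⟨-q - 1, by linarith⟩, ?_, ?_, ?_, fun h => ?_⟩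
      · rw [show B.a * B.b * c * (B.a * B.b)⁻¹ = B.a * (B.b * c * B.b⁻¹) * B.a⁻¹ by group, hinv,
          zpow_neg, hα]
        group
      · rw [← hab]; group
      · refine eq_top_iff.2 (B.gen ▸ (closure_le _).2 ?_)
        rintro z (rfl | rfl)
        · have : B.a = B.a * B.b * B.b⁻¹ := by group
          rw [this]
          exact mul_mem (subset_closure (by simp)) (inv_mem (subset_closure (by simp)))
        · exact subset_closure (by simp)
      · let q := QuotientGroup.mk' (_root_.commutator G)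
        have hcomm : q B.b * q B.a = q B.a * q B.b := by
          rw [← commutatorElement_eq_one_iff_mul_comm, ← map_commutatorElement]
          exact (QuotientGroup.eq_one_iff _).2 (commutator_mem_commutator (mem_top _) (mem_top _))
        have hbq : q B.b * q B.b = 1 := by
          rw [← map_mul, ← pow_two]; exact (QuotientGroup.eq_one_iff _).2 (R_le B.b_sq)
        refine (QuotientGroup.eq_one_iff _).1 ?_
        have h' : q ((B.a * B.b) ^ 2) = 1 := (QuotientGroup.eq_one_iff _).2 h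
        rw [pow_two, map_mul, map_mul, mul_assoc, ← mul_assoc (q B.b), hcomm, mul_assoc (q B.a),
          hbq, mul_one] at h'
        show q (B.a ^ 2) = 1
        rw [pow_two, map_mul]
        exact h'
  haveI := closure_normal hgen hac hac' hinv
  obtain ⟨r, hr⟩ := IsPGroup.iff_orderOf.1 (hG.to_quotient (closure {c, B.b}))
    (QuotientGroup.mk' (closure {c, B.b}) a)
  have hmem : ∀ i : ℤ, a ^ i ∈ closure {c, B.b} ↔ ((2 : ℤ) ^ r) ∣ i := fun i => by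
    rw [← QuotientGroup.eq_one_iff, show (((a ^ i : G)) : G ⧸ closure {c, B.b}) =
      QuotientGroup.mk' (closure {c, B.b}) (a ^ i) from rfl, map_zpow,
      ← orderOf_dvd_iff_zpow_eq_one, hr]
    norm_num
  have hsup : ∀ i j : ℤ, a ^ i ≠ c ^ j * B.b := by
    intro i j h
    refine B.sup_ne_top a (eq_top_iff.2 (hgen ▸ (closure_le _).2 ?_))
    rintro z (rfl | rfl)
    · exact mem_sup_left (mem_zpowers _)
    · have : B.b = (c ^ j)⁻¹ * a ^ i := by rw [h]; group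
      rw [this]
      exact mul_mem (inv_mem (zpow_mem (mem_sup_right hcΦ) _))
        (zpow_mem (mem_sup_left (mem_zpowers _)) _)
  have hN : a ^ (2 ^ r : ℕ) ∈ closure {c, B.b} := by
    have := (hmem ((2 : ℤ) ^ r)).2 dvd_rfl
    rwa [show ((2 : ℤ) ^ r) = ((2 ^ r : ℕ) : ℤ) by push_cast; rfl, zpow_natCast] at this
  obtain ⟨l, hl⟩ : ∃ l : ℤ, a ^ (2 ^ r : ℕ) = c ^ (2 * l) := by
    obtain ⟨i, hi | hi⟩ := hrel.cases hN
    · rcases Int.even_or_odd' i with ⟨l, rfl | rfl⟩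
      · exact ⟨l, hi⟩
      · exfalso
        refine B.not_mem_of_gen hG hgen (-((2 ^ r : ℕ) : ℤ)) ?_
        rw [hba, zpow_neg, inv_inv, zpow_natCast, hi, ← zpow_neg_one c, ← zpow_add,
          show (2 * l + 1 + -1) = 2 * l by ring, zpow_mul, ← zpow_ofNat] at *
        exact zpow_mem (by rw [zpow_ofNat]; exact sq_mem_R hcD) _
    · exact (hsup ((2 ^ r : ℕ) : ℤ) i (by rw [zpow_natCast]; exact hi)).elim
  have hr2 : 2 ≤ r := by
    by_contra hlt
    refine B.a_sq (ha2 ?_)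
    have h2 : a ^ (2 : ℤ) ∈ closure {c, B.b} := (hmem 2).2 (by
      interval_cases r <;> norm_num)
    obtain ⟨i, hi | hi⟩ := hrel.cases h2
    · rw [← zpow_ofNat, hi]; exact zpow_mem hcD i
    · exact (hsup 2 i hi).elim
  exact ⟨n, r, e, ρ, l, hn1, hr2, hρ4, he, ⟨⟨a, B.b, c, hrel, hac, hac', hl,
    fun i hi => (hmem i).1 hi, hgen⟩⟩⟩

/-- The final form of the data. -/
theorem exists_sData [Finite G] (hG : IsPGroup 2 G) (B : Basis G)
    (hcyc : IsCyclic ↥(_root_.commutator G)) :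
    ∃ (n r : ℕ) (e ρ l : ℤ), 1 ≤ n ∧ (4 : ℤ) ∣ ρ - 1 ∧ Nonempty (SData G n r e ρ l) ∧
      ((2 ≤ n ∧ e = 2 ^ (n - 1)) ∨
        (e = 0 ∧ geom ρ (2 ^ r) ≡ 4 * l [ZMOD 2 ^ (n + 1)])) := by
  obtain ⟨n, r, e, ρ, l, hn, hr, hρ, he, ⟨d⟩⟩ := exists_sData_zero hG B hcyc
  rcases he with rfl | he
  swap
  · exact ⟨n, r, e, ρ, l, hn, hρ, ⟨d⟩, Or.inl he⟩
  by_cases hgood : geom ρ (2 ^ r) ≡ 4 * l [ZMOD 2 ^ (n + 1)]
  · exact ⟨n, r, 0, ρ, l, hn, hρ, ⟨d⟩, Or.inr ⟨rfl, hgood⟩⟩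
  haveI : Fact (Nat.Prime 2) := ⟨Nat.prime_two⟩
  obtain ⟨w, hw⟩ := Int.modEq_iff_dvd.1 d.geom_modEq.symm
  obtain ⟨v, rfl⟩ : Odd w := by
    by_contra hev
    obtain ⟨k, rfl⟩ := Int.not_odd_iff_even.1 hev
    exact hgood (Int.modEq_iff_dvd.2 ⟨-k, by rw [pow_succ]; linarith⟩)
  obtain ⟨r, rfl⟩ := Nat.exists_eq_add_of_le hr
  set h := 2 ^ (r + 1) with hh
  have hN : 2 ^ (2 + r) = h + h := by rw [hh, ← two_mul, ← pow_succ']; congr 1; omega
  obtain ⟨q, hq⟩ := hρ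
  have hρ1 : ρ ≡ 1 [ZMOD 4] := (Int.modEq_iff_dvd.2 ⟨-q, by linarith⟩)
  have hn2 : 2 ≤ n := by
    by_contra hlt
    obtain rfl : n = 1 := by omega
    refine hgood ?_
    show geom ρ (2 ^ (2 + r)) ≡ 4 * l [ZMOD 4]
    refine (geom_modEq_natCast hρ1 _).trans ?_
    rw [Int.modEq_iff_dvd]
    exact ⟨l - 2 ^ r, by push_cast; rw [pow_add]; ring⟩
  obtain ⟨x, hx⟩ : ∃ x, geom ρ h = 2 * x := by
    obtain ⟨k, hk⟩ := Int.modEq_iff_dvd.1
      (geom_modEq_natCast (show ρ ≡ 1 [ZMOD 2] from hρ1.of_dvd (by norm_num)) h)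
    refine ⟨(2 : ℤ) ^ r - k, ?_⟩
    rw [hh] at hk ⊢
    push_cast at hk
    rw [pow_succ] at hk
    linarith
  rw [hN, geom_two_mul, hx] at hw
  -- `a ^ h` centralises `c`
  have hαh : ρ ^ h ≡ 1 [ZMOD 2 ^ n] := by
    rw [Int.modEq_comm, Int.modEq_iff_dvd]
    obtain ⟨y, hy⟩ : (4 : ℤ) ∣ ρ ^ h - 1 := Int.modEq_iff_dvd.1 (by simpa using (hρ1.pow h).symm)
    obtain ⟨z, hz⟩ := d.fix_dvd
    refine (IsCoprime.pow_left (⟨-y, 1, by ring⟩ : IsCoprime (2 : ℤ) (2 * y + 1))).dvd_of_dvd_mul_right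
      (show (2 : ℤ) ^ n ∣ (ρ ^ h - 1) * (2 * y + 1) from ?_)
    have hgm : 2 * x * (ρ - 1) = ρ ^ h - 1 := by rw [← hx]; exact geom_mul ρ h
    exact ⟨(2 * v + 1) * (2 * q) + z,
      by linear_combination (2 * q) * hw + hz + (-(2 * y + 1)) * hgm + (-x * (ρ - 1)) * hy
        + (x * (ρ ^ h + 1) - 2 * l) * hq⟩
  obtain ⟨u, hu⟩ : ∃ u, u = d.c ^ (-x) * d.a ^ h := ⟨_, rfl⟩
  have hmodc : ∀ {i j : ℤ}, i ≡ j [ZMOD 2 ^ n] → d.c ^ i = d.c ^ j := fun h => by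
    rw [zpow_eq_zpow_iff_modEq, d.rel.ord]; exact_mod_cast h
  have hahc : ∀ i : ℤ, d.a ^ h * d.c ^ i = d.c ^ i * d.a ^ h := fun i => by
    rw [← mul_inv_eq_iff_eq_mul, conj_pow_c d.conj_c]
    exact hmodc (by simpa using hαh.mul_left i)
  have huc : ∀ i : ℤ, u * d.c ^ i = d.c ^ i * u := fun i => by
    rw [hu, mul_assoc, hahc, ← mul_assoc, ← mul_assoc, ← zpow_add, ← zpow_add, add_comm (-x) i]
  have hub : u * d.b = d.b * u := by
    rw [hu, mul_assoc, eq_mul_inv_iff_mul_eq.1 (conj_pow_b d.conj_c d.conj_b h).symm |>.symm,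
      hx, ← mul_assoc, ← mul_assoc, ← zpow_add, ← mul_assoc, d.rel.swap]
    congr 3; ring
  set e' : ℤ := 2 ^ (n - 1) with he'
  have hu2 : u * u = d.c ^ e' := by
    rw [hu, show d.c ^ (-x) * d.a ^ h * (d.c ^ (-x) * d.a ^ h)
      = d.c ^ (-x) * (d.a ^ h * d.c ^ (-x)) * d.a ^ h by group, hahc, ← mul_assoc, ← zpow_add,
      mul_assoc, ← pow_add, ← hN, d.a_pow, ← zpow_add]
    refine hmodc ?_
    obtain ⟨n, rfl⟩ := Nat.exists_eq_add_of_le hn
    obtain ⟨z, hz⟩ := Int.modEq_iff_dvd.1 hαh.symm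
    rw [Int.modEq_iff_dvd, he', show 1 + n - 1 = n by omega]
    rw [pow_add, pow_one] at hw hz
    refine ⟨v + 1 - x * z, ?_⟩
    rw [pow_add, pow_one]
    linarith [show x * (ρ ^ h - 1) = x * (2 * 2 ^ n * z) by rw [hz]]
  obtain ⟨b', hb'⟩ : ∃ b', b' = d.b * u := ⟨_, rfl⟩
  set q' : ℤ := 1 + (ρ - 1) * x with hq'
  have hb'c : d.a * b' * d.a⁻¹ = d.c ^ q' * b' := by
    have e1 : d.a * u * d.a⁻¹ = d.c ^ (-((ρ - 1) * x)) * u := by
      rw [hu, show d.a * (d.c ^ (-x) * d.a ^ h) * d.a⁻¹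
        = d.a * d.c ^ (-x) * d.a⁻¹ * (d.a * d.a ^ h * d.a⁻¹) by group,
        (Commute.self_pow d.a h).eq, mul_inv_cancel_right, ← conj_zpow, d.conj_c, ← zpow_mul,
        ← mul_assoc, ← zpow_add]
      congr 2; ring
    rw [hb', show d.a * (d.b * u) * d.a⁻¹ = d.a * d.b * d.a⁻¹ * (d.a * u * d.a⁻¹) by group,
      d.conj_b, e1, mul_assoc d.c, ← mul_assoc d.b, d.rel.swap, neg_neg, hq', zpow_add, zpow_one]
    simp only [mul_assoc]
  obtain ⟨q'', hq''⟩ : ∃ q'' : ℤ, q' * q'' ≡ 1 [ZMOD 2 ^ n] := by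
    obtain ⟨a', b'', hab⟩ : IsCoprime ((2 : ℤ) ^ n) q' :=
      IsCoprime.pow_left ⟨-(2 * q * x), 1, by rw [hq']; linear_combination x * hq⟩
    exact ⟨b'', Int.modEq_iff_dvd.2 ⟨a', by linarith⟩⟩
  have hback : ∀ i : ℤ, (d.c ^ q') ^ (q'' * i) = d.c ^ i := fun i => by
    rw [← zpow_mul, ← mul_assoc]; exact hmodc (by simpa using hq''.mul_right i)
  have hord : orderOf (d.c ^ q') = 2 ^ n := by
    rw [← d.rel.ord]
    refine Nat.dvd_antisymm (orderOf_dvd_of_mem_zpowers (zpow_mem (mem_zpowers _) _))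
      (orderOf_dvd_of_mem_zpowers ⟨q'', by simpa using hback 1⟩)
  have hcq : d.c ∈ zpowers (d.c ^ q') := ⟨q'', by simpa using hback 1⟩
  have hcΦ : d.c ∈ frattini G := by
    have : d.c = ⁅d.a, d.b⁆ := by rw [commutatorElement_def, d.conj_b]; group
    rw [this]
    exact PGroup.commutatorElement_mem_frattini hG _ _
  have huΦ : u ∈ frattini G := by
    rw [hu, hh, pow_succ', pow_mul]
    exact mul_mem (zpow_mem hcΦ _) (pow_mem (PGroup.pow_mem_frattini hG _) _)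
  have hbnot : d.b ∉ zpowers d.a ⊔ frattini G := fun hm => by
    refine B.sup_ne_top d.a (eq_top_iff.2 (d.gen ▸ (closure_le _).2 ?_))
    rintro z (rfl | rfl)
    exacts [mem_sup_left (mem_zpowers _), hm]
  have hbeq : d.b = b' * u⁻¹ := by rw [hb']; group
  have hrel : Rel (d.c ^ q') b' n e' := by
    refine ⟨hord, ?_, fun hm => ?_, ?_⟩
    · rw [hb', show d.b * u * d.c ^ q' * (d.b * u)⁻¹ = d.b * (u * d.c ^ q') * u⁻¹ * d.b⁻¹ by group,
        huc, ← mul_assoc, mul_inv_cancel_right, ← conj_zpow, d.rel.inv, inv_zpow]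
    · obtain ⟨i, hi⟩ := mem_zpowers_iff.1 hm
      rw [← zpow_mul] at hi
      refine hbnot (mem_sup_right ?_)
      rw [hbeq, ← hi]
      exact mul_mem (zpow_mem hcΦ _) (inv_mem huΦ)
    · rw [hb', show d.b * u * (d.b * u) = d.b * (u * d.b) * u by group, hub, ← mul_assoc,
        d.rel.sq, zpow_zero, one_mul, hu2, ← zpow_mul]
      exact hmodc (by
        have : q' * e' - e' = (2 : ℤ) * (2 * q * x * e') := by
          rw [hq']; linear_combination (x * e') * hq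
        rw [Int.modEq_iff_dvd, this, he']
        obtain ⟨n, rfl⟩ := Nat.exists_eq_add_of_le hn
        exact ⟨2 * q * x, by rw [pow_add, show 1 + n - 1 = n by omega]; ring⟩)
  have hconjc : d.a * d.c ^ q' * d.a⁻¹ = (d.c ^ q') ^ ρ := by
    rw [← conj_zpow, d.conj_c, ← zpow_mul, ← zpow_mul, mul_comm]
  refine ⟨n, 2 + r, e', ρ, q'' * l, hn, ⟨q, hq⟩, ⟨⟨d.a, b', d.c ^ q', hrel, hconjc, hb'c, ?_, ?_, ?_⟩⟩,
    Or.inl ⟨hn2, rfl⟩⟩
  · rw [d.a_pow, show 2 * (q'' * l) = q'' * (2 * l) by ring, hback]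
  · intro i hi
    obtain ⟨j, hj | hj⟩ := hrel.cases hi
    · refine d.a_mem i ?_
      rw [hj]
      exact zpow_mem (zpow_mem (subset_closure (by simp)) _) _
    · exfalso
      refine hbnot ?_
      rw [← zpow_mul] at hj
      have hsw : d.b = (d.c ^ (q' * j))⁻¹ * d.a ^ i * u⁻¹ := by rw [hj, hb']; group
      rw [hsw]
      exact mul_mem (mul_mem (inv_mem (mem_sup_right (zpow_mem hcΦ _)))
        (zpow_mem (mem_sup_left (mem_zpowers _)) _)) (inv_mem (mem_sup_right huΦ))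
  · refine frattini_nongenerating (eq_top_iff.2 ?_)
    rw [← d.gen, closure_le]
    rintro z (rfl | rfl)
    · exact mem_sup_left (subset_closure (by simp))
    · rw [hbeq]
      exact mul_mem (mem_sup_left (subset_closure (by simp))) (inv_mem (mem_sup_right huΦ))

end Cfsg.Agent.BicyclicFusion.Realize
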