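import Cfsg.Agent.EqLemmas
import Cfsg.Agent.Lib.PGroup.Basic
import Mathlib.GroupTheory.SemidirectProduct

/-!
# Cyclic extensions

For an automorphism `θ` of a group `L`, an element `g` fixed by `θ` and `m ≥ 1` with `θ ^ m = conj g`,
the group `Ext` generated by `L` and an element `t` inducing `θ` with `t ^ m = g`.
-/

set_option autoImplicit false
set_option linter.style.haveILetI false
set_option linter.unusedSectionVars false

namespace Cfsg.Agent.BicyclicFusion.CyclicExt

open Subgroup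

variable {L : Type*} [Group L]

/-- The data of a cyclic extension. -/
structure Datum (L : Type*) [Group L] where
  θ : MulAut L
  g : L
  m : ℕ
  pos : 0 < m
  fix : θ g = g
  conj : θ ^ m = MulAut.conj g

namespace Datum

variable (D : Datum L)

/-- `L ⋊ ℤ`. -/
abbrev Pre : Type _ := L ⋊[zpowersHom (MulAut L) D.θ] Multiplicative ℤ

/-- The element to be killed. -/
def z : D.Pre := ⟨D.g⁻¹, Multiplicative.ofAdd (D.m : ℤ)⟩

/-- The extension. -/
abbrev Ext : Type _ := D.Pre ⧸ normalClosure {D.z}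

/-- The embedding of `L`. -/
def emb : L →* D.Ext := (QuotientGroup.mk' _).comp SemidirectProduct.inl

/-- The element inducing `θ`. -/
def t : D.Ext := QuotientGroup.mk' _ (SemidirectProduct.inr (Multiplicative.ofAdd 1))

theorem t_conj (x : L) : D.t * D.emb x * D.t⁻¹ = D.emb (D.θ x) := by
  show QuotientGroup.mk' _ _ * QuotientGroup.mk' _ _ * (QuotientGroup.mk' _ _)⁻¹ = QuotientGroup.mk' _ _
  rw [← map_inv, ← map_mul, ← map_mul, ← map_inv SemidirectProduct.inr,
    ← SemidirectProduct.inl_aut]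
  simp

theorem t_zpow (i : ℤ) :
    D.t ^ i = QuotientGroup.mk' _ (SemidirectProduct.inr (Multiplicative.ofAdd i)) := by
  rw [t, ← map_zpow, ← map_zpow, ← ofAdd_zsmul, smul_eq_mul, mul_one]

theorem t_pow : D.t ^ D.m = D.emb D.g := by
  rw [← zpow_natCast, D.t_zpow]
  refine (QuotientGroup.eq.2 ?_).symm
  have : (SemidirectProduct.inl D.g : D.Pre)⁻¹ * SemidirectProduct.inr (Multiplicative.ofAdd (D.m : ℤ))
      = D.z := by
    apply SemidirectProduct.ext <;> simp [z]
  rw [this]
  exact subset_normalClosure rfl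

theorem θ_zpow_g (i : ℤ) : (D.θ ^ i) D.g = D.g := by
  induction i using Int.induction_on with
  | zero => simp
  | succ i ih => rw [zpow_add_one, MulAut.mul_apply, D.fix, ih]
  | pred i ih =>
    have hinv : D.θ⁻¹ D.g = D.g := by
      conv_lhs => rw [← D.fix]
      exact MulAut.inv_apply_self _ _ _
    rw [zpow_sub_one, MulAut.mul_apply, hinv, ih]

theorem conj_apply' (x : L) : (D.θ ^ (D.m : ℤ)) x = D.g * x * D.g⁻¹ := by
  rw [zpow_natCast, D.conj, MulAut.conj_apply]

theorem z_central : D.z ∈ center D.Pre := by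
  rw [mem_center_iff]
  rintro ⟨x, v⟩
  apply SemidirectProduct.ext
  · simp only [SemidirectProduct.mul_left, z, zpowersHom_apply, toAdd_ofAdd]
    rw [map_inv, D.θ_zpow_g, D.conj_apply']
    group
  · simp only [SemidirectProduct.mul_right]
    exact mul_comm _ _

theorem normalClosure_eq : normalClosure {D.z} = zpowers D.z := by
  haveI : (zpowers D.z).Normal := ⟨fun n hn g => by
    rw [mem_center_iff.1 (zpowers_le.2 D.z_central hn) g, mul_inv_cancel_right]
    exact hn⟩
  exact le_antisymm (normalClosure_le_normal (Set.singleton_subset_iff.2 (mem_zpowers _)))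
    (zpowers_le.2 (subset_normalClosure rfl))

theorem g_fix_emb (i : ℤ) : Commute (D.t ^ i) (D.emb D.g) := by
  refine (show Commute D.t (D.emb D.g) from ?_).zpow_left i
  rw [commute_iff_eq, ← mul_inv_eq_iff_eq_mul, D.t_conj, D.fix]

theorem emb_mul_t_zpow (x : L) (i : ℤ) :
    D.emb x * D.t ^ i = QuotientGroup.mk' _ (⟨x, Multiplicative.ofAdd i⟩ : D.Pre) := by
  rw [D.t_zpow, emb, MonoidHom.comp_apply, ← map_mul]
  congr 1
  apply SemidirectProduct.ext <;> simp

theorem eq_of_emb_mul_t_zpow {x y : L} {i j : ℤ} (hi : 0 ≤ i) (hi' : i < D.m) (hj : 0 ≤ j)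
    (hj' : j < D.m) (h : D.emb x * D.t ^ i = D.emb y * D.t ^ j) : x = y ∧ i = j := by
  rw [D.emb_mul_t_zpow, D.emb_mul_t_zpow] at h
  have h' := QuotientGroup.eq.1 h
  rw [D.normalClosure_eq] at h'
  obtain ⟨k, hk⟩ := mem_zpowers_iff.1 h'
  have hright : k * (D.m : ℤ) = j - i := by
    have := congrArg (fun p : D.Pre => Multiplicative.toAdd (SemidirectProduct.rightHom p)) hk
    simp only [map_zpow, map_mul, map_inv] at this
    simp only [z, SemidirectProduct.rightHom_eq_right, toAdd_zpow, toAdd_ofAdd, toAdd_mul,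
      toAdd_inv, smul_eq_mul] at this
    linarith
  have hk0 : k = 0 := by
    by_contra hk0
    rcases lt_or_gt_of_ne hk0 with hneg | hpos
    · have : k * D.m ≤ -(D.m : ℤ) := by nlinarith
      omega
    · have : (D.m : ℤ) ≤ k * D.m := by nlinarith
      omega
  rw [hk0, zpow_zero, eq_comm, inv_mul_eq_one] at hk
  have h1 := congrArg SemidirectProduct.left hk
  have h2 := congrArg (fun p : D.Pre => Multiplicative.toAdd p.right) hk
  simp only [toAdd_ofAdd] at h2
  exact ⟨h1, h2⟩

theorem exists_emb_mul_t_zpow (q : D.Ext) :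
    ∃ (x : L) (i : ℕ), i < D.m ∧ D.emb x * D.t ^ (i : ℤ) = q := by
  obtain ⟨⟨x, v⟩, rfl⟩ := QuotientGroup.mk'_surjective _ q
  set i := Multiplicative.toAdd v with hi
  have hm : (0 : ℤ) < D.m := by exact_mod_cast D.pos
  have hr := Int.emod_nonneg i hm.ne'
  have hr' := Int.emod_lt_of_pos i hm
  refine ⟨x * D.g ^ (i / D.m), (i % D.m).toNat, by omega, ?_⟩
  rw [Int.toNat_of_nonneg hr, map_mul, map_zpow, ← D.t_pow, ← zpow_natCast, ← zpow_mul,
    mul_assoc, ← zpow_add, Int.mul_ediv_add_emod, D.emb_mul_t_zpow]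
  simp [hi]

/-- Every element is `x t ^ i` with `i < m`, uniquely. -/
theorem bijective : Function.Bijective (fun p : L × Fin D.m => D.emb p.1 * D.t ^ (p.2 : ℤ)) := by
  constructor
  · rintro ⟨x, i⟩ ⟨y, j⟩ h
    obtain ⟨h1, h2⟩ := D.eq_of_emb_mul_t_zpow (Int.natCast_nonneg _) (by exact_mod_cast i.2)
      (Int.natCast_nonneg _) (by exact_mod_cast j.2) h
    exact Prod.ext h1 (Fin.ext (by exact_mod_cast h2))
  · intro q
    obtain ⟨x, i, hi, hq⟩ := D.exists_emb_mul_t_zpow q
    exact ⟨⟨x, ⟨i, hi⟩⟩, hq⟩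

theorem emb_injective : Function.Injective D.emb := by
  intro x y h
  have hm : (0 : ℤ) < D.m := by exact_mod_cast D.pos
  exact (D.eq_of_emb_mul_t_zpow le_rfl hm le_rfl hm (by rw [h])).1

theorem card_ext [Finite L] : Nat.card D.Ext = Nat.card L * D.m := by
  rw [← Nat.card_eq_of_bijective _ D.bijective, Nat.card_prod, Nat.card_fin]

theorem finite_ext [Finite L] : Finite D.Ext :=
  Finite.of_surjective _ D.bijective.surjective

theorem t_zpow_mem {i : ℤ} (h : D.t ^ i ∈ D.emb.range) : (D.m : ℤ) ∣ i := by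
  obtain ⟨x, hx⟩ := h
  have hm : (0 : ℤ) < D.m := by exact_mod_cast D.pos
  have hr := Int.emod_nonneg i hm.ne'
  have hr' := Int.emod_lt_of_pos i hm
  have hi : D.t ^ i = D.emb (D.g ^ (i / D.m)) * D.t ^ (i % D.m) := by
    rw [map_zpow, ← D.t_pow, ← zpow_natCast, ← zpow_mul, ← zpow_add, Int.mul_ediv_add_emod]
  rw [hi] at hx
  have := (D.eq_of_emb_mul_t_zpow le_rfl hm hr hr' (x := x)
    (y := D.g ^ (i / D.m)) (by rw [zpow_zero, mul_one, hx])).2
  exact Int.dvd_of_emod_eq_zero this.symm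

end Datum

end Cfsg.Agent.BicyclicFusion.CyclicExt
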