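import Cfsg.Agent.Lib.BicyclicFusion.Structure
import Cfsg.Agent.Lib.AbelianTwoFactor.Basic

/-!
# The involutions of a noncyclic derived group

For a bicyclic, not metacyclic 2-group `G` with noncyclic derived group: the four group `W` of the
elements of order at most two of `G'`, and the commutators `[g, b]` for a generator `b` with central
square.
-/

set_option autoImplicit false
set_option linter.style.haveILetI false
set_option linter.unusedSectionVars false

namespace Cfsg.Agent.BicyclicFusion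

open Subgroup
open scoped commutatorElement

variable {X : Type*} [Group X] [Finite X]

/-- The elements of an elementary subgroup of order at most four. -/
theorem four_cases {V : Subgroup X} (hexp : ∀ v ∈ V, v * v = 1) (hcard : Nat.card V ≤ 4)
    {z v : X} (hz : z ∈ V) (hv : v ∈ V) (hz1 : z ≠ 1) (hv1 : v ≠ 1) (hzv : z ≠ v) :
    ∀ y ∈ V, y = 1 ∨ y = z ∨ y = v ∨ y = z * v := by
  have hzvne : z * v ≠ 1 := fun h => hzv (by
    rw [← inv_eq_of_mul_eq_one_right h, eq_comm]
    exact inv_eq_of_mul_eq_one_right (hexp z hz))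
  have h1 : z * v ≠ z := fun h => hv1 (mul_left_cancel (h.trans (mul_one z).symm))
  have h2 : z * v ≠ v := fun h => hz1 (mul_right_cancel (h.trans (one_mul v).symm))
  have hsub : ({1, z, v, z * v} : Set X) ⊆ V := by
    simp only [Set.insert_subset_iff, Set.singleton_subset_iff]
    exact ⟨one_mem V, hz, hv, mul_mem hz hv⟩
  have hc : ({1, z, v, z * v} : Set X).ncard = 4 := by
    rw [Set.ncard_insert_of_notMem (by
        simp only [Set.mem_insert_iff, Set.mem_singleton_iff, not_or]
        exact ⟨hz1.symm, hv1.symm, hzvne.symm⟩),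
      Set.ncard_insert_of_notMem (by
        simp only [Set.mem_insert_iff, Set.mem_singleton_iff, not_or]
        exact ⟨hzv, h1.symm⟩),
      Set.ncard_pair h2.symm]
  have heq : ({1, z, v, z * v} : Set X) = V :=
    Set.eq_of_subset_of_ncard_le hsub (by rw [hc, ← Nat.card_coe_set_eq]; exact hcard) (Set.toFinite _)
  intro y hy
  have : y ∈ ({1, z, v, z * v} : Set X) := heq ▸ hy
  simpa using this

/-- Squares act trivially on a normal elementary subgroup of order at most four. -/
theorem sq_comm_of_card_le (hX : IsPGroup 2 X) {V : Subgroup X} [V.Normal]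
    (hexp : ∀ v ∈ V, v * v = 1) (hcard : Nat.card V ≤ 4) {v : X} (hv : v ∈ V) (x : X) :
    x ^ 2 * v = v * x ^ 2 := by
  haveI : Fact (Nat.Prime 2) := ⟨Nat.prime_two⟩
  by_cases hv1 : v = 1
  · simp [hv1]
  have hV : V ≠ ⊥ := fun h => hv1 (by simpa [h] using hv)
  obtain ⟨z, hzV, hzc, hz⟩ : ∃ z, z ∈ V ∧ z ∈ center X ∧ z ≠ 1 := by
    obtain ⟨⟨z, hz⟩, hne⟩ := ne_bot_iff_exists_ne_one.1 (PGroup.inf_center_ne_bot hX hV)
    exact ⟨z, hz.1, hz.2, fun h => hne (Subtype.ext h)⟩
  by_cases hzv : z = v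
  · subst hzv; exact (mem_center_iff.1 hzc _)
  have hzz : z * z = 1 := hexp z hzV
  have hc : ∀ y, x * y * x⁻¹ = 1 → y = 1 := fun y h => by simpa using h
  rcases four_cases hexp hcard hzV hv hz hv1 hzv (x * v * x⁻¹)
    (Normal.conj_mem inferInstance v hv x) with h | h | h | h
  · exact absurd (hc v h) hv1
  · exfalso
    have : x * v * x⁻¹ = x * z * x⁻¹ := by
      rw [h, mem_center_iff.1 hzc x, mul_inv_cancel_right]
    exact hzv (by simpa using this.symm)
  · rw [mul_inv_eq_iff_eq_mul] at h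
    rw [pow_two, mul_assoc, h, ← mul_assoc, h, mul_assoc]
  · rw [mul_inv_eq_iff_eq_mul] at h
    calc x ^ 2 * v = x * (x * v) := by rw [pow_two, mul_assoc]
      _ = z * (x * v) * x := by
          rw [h, ← mul_assoc x (z * v) x, ← mul_assoc x z v, mem_center_iff.1 hzc x, mul_assoc z x v, h]
      _ = z * z * (v * x ^ 2) := by rw [h, pow_two]; group
      _ = v * x ^ 2 := by rw [hzz, one_mul]

variable {G : Type*} [Group G] [Finite G]

/-- The standing hypotheses. -/
structure Hyp (G : Type*) [Group G] : Prop where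
  pg : IsPGroup 2 G
  basis : Nonempty (Basis G)
  comm : ∀ d ∈ _root_.commutator G, ∀ e ∈ _root_.commutator G, d * e = e * d
  ncyc : ¬ IsCyclic (_root_.commutator G)

namespace Hyp

variable (hy : Hyp G)
include hy

theorem meta_of_le_frattini {K : Subgroup G} (hK : K ≤ frattini G) : Cfsg.IsMetacyclic K :=
  hy.basis.elim fun B =>
    RankTwo.isMetacyclic_of_injective (inclusion hK) (inclusion_injective _) B.meta_frattini

theorem derived_le_frattini : _root_.commutator G ≤ frattini G := by
  haveI : Fact (Nat.Prime 2) := ⟨Nat.prime_two⟩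
  exact PGroup.commutator_le_frattini hy.pg

/-- An elementary subgroup of the Frattini subgroup has order at most four. -/
theorem card_le_four {K : Subgroup G} (hK : K ≤ frattini G) (hexp : ∀ x ∈ K, x ^ 2 = 1) :
    Nat.card K ≤ 4 := by
  haveI : Fact (Nat.Prime 2) := ⟨Nat.prime_two⟩
  exact RankTwo.card_le_sq_of_exponent (p := 2) (hy.meta_of_le_frattini hK)
    fun x => Subtype.ext (by simpa using hexp x x.2)

/-- The elements of order at most two of the derived group. -/
def W : Subgroup G where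
  carrier := {h | h ∈ _root_.commutator G ∧ h * h = 1}
  one_mem' := ⟨one_mem _, one_mul 1⟩
  mul_mem' {u v} hu hv := ⟨mul_mem hu.1 hv.1, by
    rw [show u * v * (u * v) = u * (v * u) * v by group, ← hy.comm u hu.1 v hv.1,
      show u * (u * v) * v = (u * u) * (v * v) by group, hu.2, hv.2, one_mul]⟩
  inv_mem' {u} hu := ⟨inv_mem hu.1, by rw [← mul_inv_rev, hu.2, inv_one]⟩

theorem mem_W {h : G} : h ∈ hy.W ↔ h ∈ _root_.commutator G ∧ h * h = 1 := Iff.rfl

theorem W_normal : hy.W.Normal := by
  refine ⟨fun h hh g => ⟨Normal.conj_mem inferInstance h hh.1 g, ?_⟩⟩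
  rw [show g * h * g⁻¹ * (g * h * g⁻¹) = g * (h * h) * g⁻¹ by group, hh.2]
  group

theorem W_le_frattini : hy.W ≤ frattini G := fun _ hh => hy.derived_le_frattini hh.1

theorem card_W_le : Nat.card hy.W ≤ 4 :=
  hy.card_le_four hy.W_le_frattini fun x hx => by rw [pow_two]; exact hx.2

/-- Two distinct nontrivial elements of `W`. -/
theorem exists_pair : ∃ u ∈ hy.W, ∃ v ∈ hy.W, u ≠ 1 ∧ v ≠ 1 ∧ u ≠ v := by
  by_contra hno
  push Not at hno
  refine hy.ncyc ?_
  by_cases hex : ∃ u ∈ hy.W, u ≠ 1
  · obtain ⟨u, hu, hu1⟩ := hex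
    refine AbelianTwoFactor.isCyclic_of_unique_involution (hy.pg.to_subgroup _)
      (fun a b => Subtype.ext (hy.comm a a.2 b b.2)) (v := ⟨u, hu.1⟩) fun a ha => ?_
    by_cases ha1 : a = 1
    · exact Or.inl ha1
    · exact Or.inr (Subtype.ext (hno u hu a ⟨a.2, congrArg Subtype.val ha⟩ hu1
        (fun h => ha1 (Subtype.ext h))).symm)
  · push Not at hex
    exact AbelianTwoFactor.isCyclic_of_unique_involution (hy.pg.to_subgroup _)
      (fun a b => Subtype.ext (hy.comm a a.2 b b.2)) (v := 1) fun a ha =>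
        Or.inl (Subtype.ext (hex a ⟨a.2, congrArg Subtype.val ha⟩))

theorem W_cases {u v : G} (hu : u ∈ hy.W) (hv : v ∈ hy.W) (hu1 : u ≠ 1) (hv1 : v ≠ 1) (huv : u ≠ v) :
    ∀ y ∈ hy.W, y = 1 ∨ y = u ∨ y = v ∨ y = u * v :=
  four_cases (fun _ h => (hy.mem_W.1 h).2) hy.card_W_le hu hv hu1 hv1 huv

/-- The Frattini subgroup centralises `W`. -/
theorem comm_frattini {f w : G} (hf : f ∈ frattini G) (hw : w ∈ hy.W) : f * w = w * f := by
  haveI : Fact (Nat.Prime 2) := ⟨Nat.prime_two⟩
  have hle : frattini G ≤ centralizer (hy.W : Set G) := by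
    rw [PGroup.frattini_eq hy.pg]
    haveI := hy.W_normal
    refine sup_le ?_ ((closure_le _).2 ?_)
    · exact fun d hd => mem_centralizer_iff.2 fun w hw => hy.comm w hw.1 d hd
    · rintro _ ⟨x, rfl⟩
      exact mem_centralizer_iff.2 fun w hw =>
        (sq_comm_of_card_le hy.pg (fun _ h => (hy.mem_W.1 h).2) hy.card_W_le hw x).symm
  exact (mem_centralizer_iff.1 (hle hf) w hw).symm

/-- Every involution of the Frattini subgroup lies in `W`. -/
theorem mem_W_of_sq {x : G} (hx : x ∈ frattini G) (hx2 : x * x = 1) : x ∈ hy.W := by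
  by_contra hxW
  haveI : Fact (Nat.Prime 2) := ⟨Nat.prime_two⟩
  let K : Subgroup G :=
    { carrier := {k | k ∈ hy.W ∨ ∃ w ∈ hy.W, k = x * w}
      one_mem' := Or.inl (one_mem _)
      mul_mem' := by
        rintro k l (hk | ⟨k, hk, rfl⟩) (hl | ⟨l, hl, rfl⟩)
        · exact Or.inl (mul_mem hk hl)
        · exact Or.inr ⟨k * l, mul_mem hk hl, by
            rw [← mul_assoc, ← hy.comm_frattini hx hk, mul_assoc]⟩
        · exact Or.inr ⟨k * l, mul_mem hk hl, by rw [mul_assoc]⟩
        · exact Or.inl (by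
            rw [mul_assoc, ← mul_assoc k, ← hy.comm_frattini hx hk, mul_assoc x k, ← mul_assoc x x,
              hx2, one_mul]
            exact mul_mem hk hl)
      inv_mem' := by
        rintro k (hk | ⟨k, hk, rfl⟩)
        · exact Or.inl (inv_mem hk)
        · exact Or.inr ⟨k⁻¹, inv_mem hk, by
            rw [mul_inv_rev, inv_eq_of_mul_eq_one_right hx2, ← hy.comm_frattini hx (inv_mem hk)]⟩ }
  have hKΦ : K ≤ frattini G := by
    rintro k (hk | ⟨k, hk, rfl⟩)
    · exact hy.W_le_frattini hk
    · exact mul_mem hx (hy.W_le_frattini hk)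
  have hexp : ∀ k ∈ K, k ^ 2 = 1 := by
    rintro k (hk | ⟨k, hk, rfl⟩) <;> rw [pow_two]
    · exact hk.2
    · rw [show x * k * (x * k) = x * (k * x) * k by group, ← hy.comm_frattini hx hk,
        show x * (x * k) * k = x * x * (k * k) by group, hx2, hk.2, one_mul]
  have h4 := hy.card_le_four hKΦ hexp
  obtain ⟨u, hu, v, hv, hu1, hv1, huv⟩ := hy.exists_pair
  have := four_cases (fun k hk => by rw [← pow_two]; exact hexp k hk) h4
    (Or.inl hu : u ∈ K) (Or.inl hv : v ∈ K) hu1 hv1 huv x (Or.inr ⟨1, one_mem _, (mul_one x).symm⟩)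
  rcases this with h | h | h | h <;> refine hxW ?_ <;> rw [h]
  exacts [one_mem _, hu, hv, mul_mem hu hv]

theorem exists_central : ∃ z ∈ hy.W, z ∈ center G ∧ z ≠ 1 := by
  haveI : Fact (Nat.Prime 2) := ⟨Nat.prime_two⟩
  haveI := hy.W_normal
  obtain ⟨u, hu, -, -, hu1, -⟩ := hy.exists_pair
  have hne : hy.W ≠ ⊥ := fun h => hu1 (by simpa [h] using hu)
  obtain ⟨⟨z, hz⟩, hne⟩ := ne_bot_iff_exists_ne_one.1 (PGroup.inf_center_ne_bot hy.pg hne)
  exact ⟨z, hz.1, hz.2, fun h => hne (Subtype.ext h)⟩

/-- A generator with central square inverts the derived group. -/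
theorem inverts {a b : G} (hgen : closure {a, b} = ⊤) (hz : b * b ∈ center G) :
    ∀ h ∈ _root_.commutator G, b * h * b⁻¹ = h⁻¹ := by
  let N : Subgroup G :=
    { carrier := {h | h ∈ _root_.commutator G ∧ b * h * b⁻¹ = h⁻¹}
      one_mem' := ⟨one_mem _, by simp⟩
      mul_mem' := by
        rintro u v ⟨hu, eu⟩ ⟨hv, ev⟩
        exact ⟨mul_mem hu hv, by
          rw [show b * (u * v) * b⁻¹ = b * u * b⁻¹ * (b * v * b⁻¹) by group, eu, ev,
            mul_inv_rev, hy.comm _ (inv_mem hu) _ (inv_mem hv)]⟩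
      inv_mem' := by
        rintro u ⟨hu, eu⟩
        exact ⟨inv_mem hu, by rw [← conj_inv, eu]⟩ }
  haveI : N.Normal := by
    refine ⟨fun u hu g => ⟨Normal.conj_mem inferInstance u hu.1 g, ?_⟩⟩
    have hs : ⁅b⁻¹, g⁻¹⁆ ∈ _root_.commutator G := commutator_mem_commutator (mem_top _) (mem_top _)
    calc b * (g * u * g⁻¹) * b⁻¹
        = g * (b * (⁅b⁻¹, g⁻¹⁆ * u * ⁅b⁻¹, g⁻¹⁆⁻¹) * b⁻¹) * g⁻¹ := by
          rw [commutatorElement_def]; group
      _ = g * u⁻¹ * g⁻¹ := by rw [hy.comm _ hs _ hu.1, mul_inv_cancel_right, hu.2]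
      _ = (g * u * g⁻¹)⁻¹ := conj_inv.symm
  refine fun h hh => (commutator_le_of_gen hgen (N := N) ⟨?_, ?_⟩ hh).2
  · exact commutator_mem_commutator (mem_top _) (mem_top _)
  · refine eq_inv_of_mul_eq_one_left ?_
    calc b * ⁅b, a⁆ * b⁻¹ * ⁅b, a⁆ = b * b * a * (b * b)⁻¹ * a⁻¹ := by
          rw [commutatorElement_def]; group
      _ = 1 := by rw [← mem_center_iff.1 hz a]; group

/-- An element with square in `W` centralises `W`, if it generates `G` with another one. -/
theorem comm_W_of_sq {a b : G} (hgen : closure {a, b} = ⊤) (hb : b * b ∈ hy.W) :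
    ∀ w ∈ hy.W, b * w = w * b := by
  intro w hw
  by_cases hz : b * b ∈ center G
  · have := hy.inverts hgen hz w hw.1
    rw [inv_eq_of_mul_eq_one_right hw.2] at this
    rwa [← mul_inv_eq_iff_eq_mul]
  · obtain ⟨z0, hz0, hz0c, hz01⟩ := hy.exists_central
    have hne : z0 ≠ b * b := fun h => hz (h ▸ hz0c)
    have h1 : Commute b z0 := (mem_center_iff.1 hz0c b)
    have h2 : Commute b (b * b) := (Commute.refl b).mul_right (Commute.refl b)
    rcases hy.W_cases hz0 hb hz01 (fun h => hz (h ▸ one_mem _)) hne w hw with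
      rfl | rfl | rfl | rfl
    exacts [Commute.one_right b, h1, h2, h1.mul_right h2]

/-- Every element of the derived group is a commutator `[g, b]`. -/
theorem exists_commutator_eq {a b : G} (hgen : closure {a, b} = ⊤) (hz : b * b ∈ center G)
    {e : G} (he : e ∈ _root_.commutator G) : ∃ g : G, ⁅g, b⁆ = e := by
  haveI : Fact (Nat.Prime 2) := ⟨Nat.prime_two⟩
  have hinv := hy.inverts hgen hz
  set D := _root_.commutator G with hD
  -- the elements of `sqDer` are squares
  have hsq : ∀ m ∈ sqDer G, ∃ s ∈ D, s * s = m := by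
    intro m hm
    induction hm using closure_induction with
    | mem x hx => obtain ⟨d, hd, rfl⟩ := hx; exact ⟨d, hd, (pow_two d).symm⟩
    | one => exact ⟨1, one_mem _, one_mul 1⟩
    | mul u v _ _ hu hv =>
      obtain ⟨s, hs, rfl⟩ := hu
      obtain ⟨t, ht, rfl⟩ := hv
      exact ⟨s * t, mul_mem hs ht, by
        rw [show s * t * (s * t) = s * (t * s) * t by group, ← hy.comm s hs t ht]; group⟩
    | inv u _ hu =>
      obtain ⟨s, hs, rfl⟩ := hu
      exact ⟨s⁻¹, inv_mem hs, (mul_inv_rev s s).symm⟩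
  let q := QuotientGroup.mk' (sqDer G)
  -- values form a union of cosets
  have hcoset : ∀ g e : G, q e = q ⁅g, b⁆ → ∃ g' : G, ⁅g', b⁆ = e := by
    intro g e heq
    have hm : g⁻¹ * (e * ⁅g, b⁆⁻¹) * g⁻¹⁻¹ ∈ sqDer G := by
      refine sqDer_normal.conj_mem _ ?_ g⁻¹
      rw [← QuotientGroup.eq_one_iff]
      show q (e * ⁅g, b⁆⁻¹) = 1
      rw [map_mul, map_inv, heq, mul_inv_cancel]
    obtain ⟨s, hs, hss⟩ := hsq _ hm
    refine ⟨g * s, ?_⟩
    calc ⁅g * s, b⁆ = g * (s * (b * s * b⁻¹)⁻¹) * g⁻¹ * ⁅g, b⁆ := by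
          rw [commutatorElement_def, commutatorElement_def]; group
      _ = g * (s * s) * g⁻¹ * ⁅g, b⁆ := by rw [hinv s hs, inv_inv]
      _ = e := by rw [hss]; group
  -- the quotient `G' / ℧(G')` has order at most four
  set V := D.map q with hV
  have hcard : Nat.card V ≤ 4 := by
    have hle : frattini D ≤ (q.comp D.subtype).ker := by
      rw [PGroup.frattini_eq (hy.pg.to_subgroup D)]
      refine sup_le ?_ ((closure_le _).2 ?_)
      · rw [commutator_def, commutator_le]
        intro u _ v _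
        rw [MonoidHom.mem_ker, map_commutatorElement, commutatorElement_eq_one_iff_mul_comm,
          ← map_mul, ← map_mul]
        exact congrArg _ (Subtype.ext (hy.comm u u.2 v v.2))
      · rintro _ ⟨u, rfl⟩
        exact (QuotientGroup.eq_one_iff _).2 (sq_mem_sqDer u.2)
    have h1 := RankTwo.index_frattini_le (hy.pg.to_subgroup D)
      (hy.meta_of_le_frattini hy.derived_le_frattini)
    have h2 : (q.comp D.subtype).ker.index ≤ (frattini D).index :=
      index_antitone hle
    rw [index_ker, MonoidHom.range_comp, range_subtype] at h2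
    exact h2.trans h1
  have hexp : ∀ v ∈ V, v * v = 1 := by
    rintro _ ⟨d, hd, rfl⟩
    rw [← map_mul, ← pow_two]
    exact (QuotientGroup.eq_one_iff _).2 (sq_mem_sqDer hd)
  haveI : V.Normal := Normal.map inferInstance q (QuotientGroup.mk'_surjective _)
  set c := ⁅a, b⁆ with hc
  have hcD : c ∈ D := commutator_mem_commutator (mem_top _) (mem_top _)
  set d := a * c * a⁻¹ with hd
  have hdD : d ∈ D := Normal.conj_mem inferInstance c hcD a
  have hcd : q c ≠ q d := by
    intro heq
    refine hy.ncyc ?_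
    have hca : Commute (q c) (q a) := by
      rw [hd, map_mul, map_mul, map_inv, eq_mul_inv_iff_mul_eq] at heq
      exact heq
    have hcb : Commute (q c) (q b) := by
      have e : q b * q c * (q b)⁻¹ = q c := by
        rw [← map_inv, ← map_mul, ← map_mul, hinv c hcD, map_inv]
        exact inv_eq_of_mul_eq_one_right (hexp _ (mem_map_of_mem q hcD))
      rw [mul_inv_eq_iff_eq_mul] at e
      exact e.symm
    have hcen : q c ∈ center (G ⧸ sqDer G) := by
      rw [mem_center_iff]
      intro z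
      obtain ⟨z, rfl⟩ := QuotientGroup.mk'_surjective _ z
      have hz : z ∈ closure {a, b} := hgen ▸ mem_top z
      induction hz using closure_induction with
      | mem y hy => rcases hy with rfl | rfl; exacts [hca.symm, hcb.symm]
      | one => simp
      | mul u v _ _ hu hv => rw [map_mul, mul_assoc, hv, ← mul_assoc, hu, mul_assoc]
      | inv u _ hu => rw [map_inv]; exact (Commute.inv_left hu : _)
    haveI := PGroup.zpowers_normal_of_mem_center hcen
    have hle : D ≤ (zpowers (q c)).comap q := by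
      refine commutator_le_of_gen hgen ?_
      rw [mem_comap, show ⁅b, a⁆ = c⁻¹ from (commutatorElement_inv a b).symm, map_inv]
      exact inv_mem (mem_zpowers _)
    refine PGroup.isCyclic_of_sup_frattini (x := (⟨c, hcD⟩ : D)) (eq_top_iff.2 fun u _ => ?_)
    obtain ⟨i, hi⟩ := mem_zpowers_iff.1 (hle u.2)
    rw [← map_zpow] at hi
    obtain ⟨s, hs, hss⟩ := hsq _ (QuotientGroup.eq.1 hi)
    have : u = (⟨c, hcD⟩ : D) ^ i * ⟨s, hs⟩ ^ 2 := Subtype.ext (by
      push_cast
      rw [pow_two, hss, mul_inv_cancel_left])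
    rw [this]
    exact mul_mem (mem_sup_left (zpow_mem (mem_zpowers _) i))
      (mem_sup_right (PGroup.pow_mem_frattini (hy.pg.to_subgroup D) _))
  have hc1 : q c ≠ 1 := fun h => hcd (by rw [hd, map_mul, map_mul, h, map_inv]; group)
  have hd1 : q d ≠ 1 := fun h => hc1 (by
    rw [hd, map_mul, map_mul, map_inv, mul_inv_eq_one, mul_eq_left] at h
    exact h)
  have h2 : ⁅a * a, b⁆ = d * c := by
    rw [hd, hc, commutatorElement_def, commutatorElement_def]; group
  have h3 : ⁅a * a * a, b⁆ = a ^ 2 * c * (a ^ 2)⁻¹ * (d * c) := by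
    rw [hd, hc, commutatorElement_def, commutatorElement_def]
    rw [pow_two]
    group
  have hcc : q (a ^ 2 * c * (a ^ 2)⁻¹) = q c := by
    rw [map_mul, map_mul, map_inv, map_pow,
      sq_comm_of_card_le (hy.pg.to_quotient _) hexp hcard (mem_map_of_mem q hcD) (q a),
      mul_inv_cancel_right]
  have hcomm : q d * q c = q c * q d := by
    rw [← map_mul, ← map_mul, hy.comm d hdD c hcD]
  rcases four_cases hexp hcard (mem_map_of_mem q hcD) (mem_map_of_mem q hdD) hc1 hd1 hcd (q e)
    (mem_map_of_mem q he) with h | h | h | h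
  · exact hcoset 1 e (by rw [h, commutatorElement_one_left, map_one])
  · exact hcoset a e h
  · refine hcoset (a * a * a) e ?_
    rw [h3, map_mul, hcc, map_mul, hcomm, ← mul_assoc, hexp _ (mem_map_of_mem q hcD), one_mul, h]
  · exact hcoset (a * a) e (by rw [h, h2, ← hcomm]; exact (map_mul q d c).symm)

end Hyp

end Cfsg.Agent.BicyclicFusion
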