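import Cfsg.Agent.Lib.BicyclicFusion.CoprimeTwo
import Cfsg.Agent.Lib.Involution.BaerSuzuki

/-!
# Local data at an essential subgroup

`Ess E` records what an essential subgroup `E` of a saturated fusion system on `G` gives.
`Ess.exists_pair` produces an automorphism `θ` of order three of `E` inverted by conjugation with an
element `w` normalising `E`, with `w ∉ E` and `w² ∈ E`.
-/

set_option autoImplicit false
set_option linter.style.haveILetI false
set_option linter.unusedSectionVars false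

namespace Cfsg.Agent.BicyclicFusion

open Subgroup
open scoped commutatorElement

variable {G : Type*} [Group G]

/-- Conjugation by a normalising element, as an automorphism of the subgroup. -/
def cj {E : Subgroup G} {g : G} (hg : g ∈ normalizer (E : Set G)) : MulAut E :=
  E.normalizerMonoidHom ⟨g, hg⟩

@[simp] theorem cj_apply {E : Subgroup G} {g : G} (hg : g ∈ normalizer (E : Set G)) (x : E) :
    ((cj hg x : E) : G) = g * x * g⁻¹ := rfl

/-- The data at an essential subgroup. -/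
structure Ess (E : Subgroup G) where
  A : Subgroup (MulAut E)
  M : Subgroup (MulAut E)
  ne_top : E ≠ ⊤
  cent : centralizer (E : Set G) ≤ E
  cj_mem : ∀ (g : G) (hg : g ∈ normalizer (E : Set G)), cj hg ∈ A
  cj_mem_M : ∀ (g : G) (hg : g ∈ normalizer (E : Set G)), cj hg ∈ M
  radical : ∀ K : Subgroup (MulAut E), K ≤ A → IsPGroup 2 K →
    (∀ h ∈ A, ∀ k ∈ K, h * k * h⁻¹ ∈ K) → ∀ k ∈ K, ∃ e : E, k = MulAut.conj e
  M_le : M ≤ A
  M_ne : M ≠ A
  strong : ∀ g ∈ A, g ∉ M → ∀ x ∈ M, g⁻¹ * x * g ∈ M → x * x = 1 → ∃ e : E, x = MulAut.conj e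

theorem map_frattini_mem {X : Type*} [Group X] (α : MulAut X) {x : X} (hx : x ∈ frattini X) :
    α x ∈ frattini X :=
  (characteristic_iff_map_eq.1 (inferInstance : (frattini X).Characteristic) α) ▸
    mem_map_of_mem α.toMonoidHom hx

/-- An automorphism of odd prime order of an elementary group of order at most eight inverted by an
automorphism of order two has order three. -/
theorem eq_three_of_inverted {V : Type*} [Group V] [Finite V] (hexp : ∀ v : V, v * v = 1)
    (hcard : Nat.card V ≤ 8) {f g : MulAut V} {p : ℕ} [Fact p.Prime] (hp : p ≠ 2) (hf : f ^ p = 1)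
    (hf1 : f ≠ 1) (hg : g ^ 2 = 1) (hinv : g * f * g⁻¹ = f⁻¹) : p = 3 := by
  have h2 : IsPGroup 2 V := fun v => ⟨1, by rw [pow_one, pow_two]; exact hexp v⟩
  haveI : Fact (Nat.Prime 2) := ⟨Nat.prime_two⟩
  haveI : Finite (MulAut V) := Finite.of_injective (fun α : MulAut V => (α : V → V))
    DFunLike.coe_injective
  have hP : IsPGroup p (zpowers f) := by
    intro x
    refine ⟨1, Subtype.ext ?_⟩
    obtain ⟨i, hi⟩ := mem_zpowers_iff.1 x.2
    rw [pow_one, Subgroup.coe_pow, ← hi, ← zpow_natCast, ← zpow_mul, mul_comm, zpow_mul,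
      zpow_natCast, hf, one_zpow, Subgroup.coe_one]
  obtain ⟨n, hn⟩ := IsPGroup.iff_card.1 h2
  have hn3 : n ≤ 3 := (Nat.pow_le_pow_iff_right one_lt_two).1 (by rw [← hn]; exact hcard)
  obtain ⟨v, hv⟩ : ∃ v, f v ≠ v := by
    by_contra h
    push Not at h
    exact hf1 (MulEquiv.ext h)
  have hord : orderOf f = p := orderOf_eq_prime hf hf1
  -- the orbit of a moved point has `p` elements
  have hinj : ∀ i j : ℕ, i < p → j < p → (f ^ i) v = (f ^ j) v → i = j := by
    intro i j hi hj hij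
    wlog hle : i ≤ j generalizing i j
    · exact (this j i hj hi hij.symm (by omega)).symm
    by_contra hne
    obtain ⟨d, rfl⟩ : ∃ d, j = i + d := ⟨j - i, by omega⟩
    rw [pow_add, MulAut.mul_apply] at hij
    have hd : (f ^ d) v = v := ((f ^ i).injective hij).symm
    have hcop : Nat.Coprime d p := by
      refine ((Fact.out : p.Prime).coprime_iff_not_dvd.2 fun hdvd => ?_).symm
      have := Nat.le_of_dvd (by omega) hdvd
      omega
    obtain ⟨m, hm⟩ := exists_pow_eq_self_of_coprime (x := f) (n := d) (hord.symm ▸ hcop)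
    refine hv ?_
    conv_lhs => rw [← hm]
    clear hm
    induction m with
    | zero => simp
    | succ m ih => rw [pow_succ, MulAut.mul_apply, hd, ih]
  have hv1 : ∀ i : ℕ, (f ^ i) v ≠ 1 := fun i h => hv (by
    have : v = 1 := (f ^ i).injective (h.trans (map_one _).symm)
    rw [this, map_one])
  classical
  cases nonempty_fintype V
  set O : Finset V := (Finset.range p).image (fun i => (f ^ i) v) with hO
  have hOcard : O.card = p := by
    rw [hO, Finset.card_image_of_injOn, Finset.card_range]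
    intro i hi j hj e
    exact hinj i j (Finset.mem_range.1 hi) (Finset.mem_range.1 hj) e
  have hO1 : (1 : V) ∉ O := by
    simp only [hO, Finset.mem_image, not_exists, not_and]
    exact fun i _ => hv1 i
  have hle : p + 1 ≤ Nat.card V := by
    rw [Nat.card_eq_fintype_card, ← hOcard, ← Finset.card_insert_of_notMem hO1]
    exact Finset.card_le_univ _
  have hp8 : p ≤ 7 := by omega
  have hfix := hP.card_modEq_card_fixedPoints (α := V)
  let F : Subgroup V := fixed f
  have hF : MulAction.fixedPoints (zpowers f) V = (F : Set V) := by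
    ext x
    refine ⟨fun h => h ⟨f, mem_zpowers f⟩, fun h m => ?_⟩
    show (m : MulAut V) x = x
    obtain ⟨i, hi⟩ := mem_powers_iff_mem_zpowers.2 m.2
    rw [← hi]
    show (f ^ i) x = x
    clear hi
    induction i with
    | zero => simp
    | succ i ih => rw [pow_succ, MulAut.mul_apply, show f x = x from h, ih]
  rw [hF] at hfix
  obtain ⟨k, hk⟩ := IsPGroup.iff_card.1 (h2.to_subgroup F)
  have hkF : Nat.card (F : Set V) = 2 ^ k := hk
  rw [hkF, hn] at hfix
  have hkn : k < n := by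
    have hlt : Nat.card F < Nat.card V := by
      refine lt_of_le_of_ne (Subgroup.card_le_card_group F) fun e => hv ?_
      have : F = ⊤ := eq_top_of_card_eq F e
      exact mem_fixed.1 (this ▸ mem_top v : v ∈ F)
    rw [hk, hn] at hlt
    exact (Nat.pow_lt_pow_iff_right one_lt_two).1 hlt
  have hp2 := (Fact.out : p.Prime).two_le
  rw [hn] at hle
  have hprime : p.Prime := Fact.out
  have hcases : p = 3 ∨ (p = 7 ∧ n = 3) := by
    interval_cases p <;> interval_cases n <;> interval_cases k <;>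
      first
        | omega
        | (exfalso; revert hfix; decide)
        | exact absurd hprime (by norm_num)
  rcases hcases with h | ⟨rfl, rfl⟩
  · exact h
  -- a transitive automorphism of order seven is not inverted
  exfalso
  let G2 : Subgroup V := fixed g
  have hcomm : ∀ a b : V, a * b = b * a := fun a b => by
    have := hexp (a * b)
    calc a * b = a * (a * b * (a * b)) * b := by rw [this, mul_one]
      _ = (a * a) * (b * a) * (b * b) := by group
      _ = b * a := by rw [hexp, hexp, one_mul, mul_one]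
  let d : V →* V :=
    { toFun := fun x => x * g x
      map_one' := by simp
      map_mul' := fun a b => by
        rw [map_mul g, mul_assoc, ← mul_assoc b, hcomm b (g a)]
        group }
  have hgg : ∀ x, g (g x) = x := fun x => by
    have := DFunLike.congr_fun hg x
    rwa [pow_two, MulAut.mul_apply] at this
  have hr : d.range ≤ G2 := by
    rintro _ ⟨x, rfl⟩
    show g (x * g x) = x * g x
    rw [map_mul, hgg, hcomm]
  have hker : d.ker ≤ G2 := by
    intro x hx
    have h1 : x * g x = 1 := hx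
    show g x = x
    exact (inv_eq_of_mul_eq_one_right h1).symm.trans (inv_eq_of_mul_eq_one_right (hexp x))
  have hG2 : 3 ≤ Nat.card G2 := by
    have h1 := Subgroup.card_le_of_le hr
    have h2' := Subgroup.card_le_of_le hker
    have h3 := d.ker.card_mul_index
    rw [index_ker, hn] at h3
    nlinarith
  obtain ⟨a, b, ha, hb, ha1, hb1, hab⟩ :
      ∃ a b : V, g a = a ∧ g b = b ∧ a ≠ 1 ∧ b ≠ 1 ∧ a ≠ b := by
    by_contra hno
    push Not at hno
    have : Nat.card G2 ≤ 2 := by
      by_cases hex : ∃ a ∈ G2, a ≠ 1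
      · obtain ⟨a, ha, ha1⟩ := hex
        calc Nat.card G2 = (G2 : Set V).ncard := Nat.card_coe_set_eq _
          _ ≤ ({1, a} : Set V).ncard := Set.ncard_le_ncard (fun b hb => by
              by_cases hb1 : b = 1
              · exact Or.inl hb1
              · exact Or.inr (hno a b ha hb ha1 hb1).symm) (Set.toFinite _)
          _ ≤ 2 := (Set.ncard_insert_le _ _).trans (by rw [Set.ncard_singleton])
      · push Not at hex
        have : G2 = ⊥ := (eq_bot_iff_forall _).2 hex
        rw [this, Subgroup.card_bot]; norm_num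
    omega
  have hOall : ∀ x : V, x ≠ 1 → x ∈ O := by
    intro x hx
    have : insert 1 O = Finset.univ := Finset.eq_univ_of_card _ (by
      rw [Finset.card_insert_of_notMem hO1, hOcard, ← Nat.card_eq_fintype_card, hn]; norm_num)
    have := this.symm ▸ Finset.mem_univ x
    exact (Finset.mem_insert.1 this).resolve_left hx
  obtain ⟨i, -, rfl⟩ := Finset.mem_image.1 (hOall a ha1)
  obtain ⟨j, -, rfl⟩ := Finset.mem_image.1 (hOall b hb1)
  refine hab ?_
  -- `b = f ^ m a` with `m` inverted by `g`, so `f ^ (2 m)` fixes `a`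
  set m : ℤ := (j : ℤ) - i with hm
  have hab' : (f ^ m) ((f ^ i) v) = (f ^ j) v := by
    rw [← MulAut.mul_apply, ← zpow_natCast f i, ← zpow_add, hm, sub_add_cancel, zpow_natCast]
  have e : g * f ^ m * g⁻¹ = f ^ (-m) := by rw [← conj_zpow, hinv, inv_zpow, zpow_neg]
  have h1 : (f ^ (-m)) ((f ^ i) v) = (f ^ j) v := by
    rw [← e, MulAut.mul_apply, MulAut.mul_apply]
    have hgi : g⁻¹ ((f ^ i) v) = (f ^ i) v := by
      conv_lhs => rw [← ha]
      exact MulAut.inv_apply_self _ _ _
    rw [hgi, hab', hb]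
  have h2m : (f ^ (2 * m)) ((f ^ i) v) = (f ^ i) v := by
    rw [two_mul, zpow_add, MulAut.mul_apply, hab']
    rw [← h1, ← MulAut.mul_apply, ← zpow_add, add_neg_cancel, zpow_zero, MulAut.one_apply]
  have h7 : f ^ (7 * m) = 1 := by
    rw [zpow_mul, show (7 : ℤ) = ((7 : ℕ) : ℤ) from rfl, zpow_natCast, hf, one_zpow]
  have hm4 : f ^ m = (f ^ (2 * m)) ^ 4 := by
    rw [← zpow_natCast (f ^ (2 * m)) 4, ← zpow_mul,
      show 2 * m * ((4 : ℕ) : ℤ) = m + 7 * m by push_cast; ring, zpow_add, h7, mul_one]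
  rw [← hab', hm4]
  simp only [pow_succ, pow_zero, one_mul, MulAut.mul_apply, h2m]

namespace Ess

variable [Finite G] {E : Subgroup G} (D : Ess E)
include D

theorem finite_aut : Finite (MulAut E) :=
  Finite.of_injective (fun α : MulAut E => (α : E → E)) DFunLike.coe_injective

theorem conj_mem (e : E) : (MulAut.conj e : MulAut E) ∈ D.A := by
  have h := D.cj_mem e (le_normalizer e.2)
  convert h using 1
  exact MulEquiv.ext fun x => Subtype.ext rfl

theorem mem_of_eq_conj {g : G} (hg : g ∈ normalizer (E : Set G)) {e : E}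
    (h : cj hg = MulAut.conj e) : g ∈ E := by
  have hc : (e : G)⁻¹ * g ∈ centralizer (E : Set G) := mem_centralizer_iff.2 fun x hx => by
    have := congrArg (fun y : E => (y : G)) (DFunLike.congr_fun h ⟨x, hx⟩)
    simp only [cj_apply, MulAut.conj_apply, Subgroup.coe_mul, Subgroup.coe_inv] at this
    calc x * ((e : G)⁻¹ * g) = (e : G)⁻¹ * (e * x * (e : G)⁻¹) * g := by group
      _ = (e : G)⁻¹ * (g * x * g⁻¹) * g := by rw [this]
      _ = (e : G)⁻¹ * g * x := by group
  have : g = e * ((e : G)⁻¹ * g) := by group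
  rw [this]
  exact mul_mem e.2 (D.cent hc)

/-- Automorphisms stabilising an invariant chain `Φ(E) ≤ L ≤ E` are inner. -/
theorem inner_of_chain (hE : IsPGroup 2 E) {L : Subgroup E}
    (hinv : ∀ α ∈ D.A, ∀ x ∈ L, α x ∈ L) {β : MulAut E} (hβ : β ∈ D.A)
    (h : ∀ x, x⁻¹ * β x ∈ L) (h' : ∀ x ∈ L, x⁻¹ * β x ∈ frattini E) :
    ∃ e : E, β = MulAut.conj e := by
  haveI := D.finite_aut
  let K : Subgroup (MulAut E) :=
    { carrier := {α | α ∈ D.A ∧ (∀ x, x⁻¹ * α x ∈ L) ∧ ∀ x ∈ L, x⁻¹ * α x ∈ frattini E}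
      one_mem' := ⟨one_mem _, fun x => by simp, fun x _ => by simp⟩
      mul_mem' := by
        rintro a b ⟨ha, ha', ha''⟩ ⟨hb, hb', hb''⟩
        have key : ∀ x, x⁻¹ * (a * b) x = x⁻¹ * b x * ((b x)⁻¹ * a (b x)) := fun x => by
          rw [MulAut.mul_apply]; group
        exact ⟨mul_mem ha hb, fun x => key x ▸ mul_mem (hb' x) (ha' _),
          fun x hx => key x ▸ mul_mem (hb'' x hx) (ha'' _ (hinv b hb x hx))⟩
      inv_mem' := by
        rintro a ⟨ha, ha', ha''⟩
        refine ⟨inv_mem ha, fun x => ?_, fun x hx => ?_⟩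
        · simpa using inv_mem (ha' (a⁻¹ x))
        · simpa using inv_mem (ha'' (a⁻¹ x) (hinv _ (inv_mem ha) x hx)) }
  refine D.radical K (fun α hα => hα.1) ?_ ?_ β ⟨hβ, h, h'⟩
  · refine FusionChain.isPGroup_of_coprime_trivial (p := 2) fun ⟨α, hα, hα', hL⟩ hodd => ?_
    refine Subtype.ext (eq_one_of_frattini hE (by rwa [← Subgroup.orderOf_coe] at hodd) fun x => ?_)
    rw [← Subgroup.orderOf_coe] at hodd
    haveI : Fact (Nat.Prime 2) := ⟨Nat.prime_two⟩
    -- `x⁻¹ α^i x ≡ d ^ i` modulo `Φ(E)`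
    let q := QuotientGroup.mk' (frattini E)
    set d := x⁻¹ * α x with hd
    have key : ∀ i : ℕ, q (x⁻¹ * (α ^ i) x) = q d ^ i := by
      intro i
      induction i with
      | zero => simp
      | succ i ih =>
        have hy : x⁻¹ * (α ^ i) x ∈ L := inv_mul_aut_pow_mem (hinv α hα) (hα' x) i
        have e : q (α (x⁻¹ * (α ^ i) x)) = q (x⁻¹ * (α ^ i) x) :=
          (QuotientGroup.eq.2 (hL _ hy)).symm
        calc q (x⁻¹ * (α ^ (i + 1)) x) = q (d * α (x⁻¹ * (α ^ i) x)) := by
              congr 1; rw [pow_succ', MulAut.mul_apply, hd, map_mul α, map_inv α]; group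
          _ = q d ^ (i + 1) := by rw [map_mul, e, ih, pow_succ']
    have h1 := key (orderOf α)
    rw [pow_orderOf_eq_one, MulAut.one_apply, inv_mul_cancel, map_one] at h1
    have h2 : q d ^ 2 = 1 := by
      rw [← map_pow]; exact (QuotientGroup.eq_one_iff _).2 (PGroup.pow_mem_frattini hE d)
    refine (QuotientGroup.eq_one_iff _).1 (orderOf_eq_one_iff.1 (Nat.eq_one_of_dvd_coprimes hodd
      (orderOf_dvd_of_pow_eq_one h1.symm) (orderOf_dvd_of_pow_eq_one h2)))
  · rintro g hg k ⟨hk, hk', hk''⟩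
    refine ⟨mul_mem (mul_mem hg hk) (inv_mem hg), fun x => ?_, fun x hx => ?_⟩
    · simpa using hinv g hg _ (hk' (g⁻¹ x))
    · simpa using map_frattini_mem g (hk'' (g⁻¹ x) (hinv _ (inv_mem hg) x hx))

theorem mem_of_chain (hE : IsPGroup 2 E) {L : Subgroup E}
    (hinv : ∀ α ∈ D.A, ∀ x ∈ L, α x ∈ L) {g : G} (hg : g ∈ normalizer (E : Set G))
    (h : ∀ x, x⁻¹ * cj hg x ∈ L) (h' : ∀ x ∈ L, x⁻¹ * cj hg x ∈ frattini E) : g ∈ E :=
  let ⟨_, he⟩ := D.inner_of_chain hE hinv (D.cj_mem g hg) h h'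
  D.mem_of_eq_conj hg he

/-- An automorphism induces the identity on `L / Φ(E)` if this quotient has order at most two. -/
theorem trivial_on_small {L : Subgroup E} (hsmall : (frattini E).relIndex L ≤ 2) {α : MulAut E}
    (hinv : ∀ β ∈ D.A, ∀ x ∈ L, β x ∈ L) (hα : α ∈ D.A) {x : E} (hx : x ∈ L) :
    x⁻¹ * α x ∈ frattini E := by
  let αL : MulAut L :=
    { toFun := fun u => ⟨α (u : E), hinv α hα u u.2⟩
      invFun := fun u => ⟨α⁻¹ (u : E), hinv α⁻¹ (inv_mem hα) u u.2⟩
      left_inv := fun u => Subtype.ext (MulAut.inv_apply_self _ _ _)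
      right_inv := fun u => Subtype.ext (MulAut.apply_inv_self _ _ _)
      map_mul' := fun a b => Subtype.ext (map_mul α (a : E) (b : E)) }
  exact mem_subgroupOf.1 (mem_of_index_le_two (α := αL) (N := (frattini E).subgroupOf L)
    (fun n hn => map_frattini_mem α (mem_subgroupOf.1 hn)) hsmall ⟨x, hx⟩)

theorem mem_of_stable (hE : IsPGroup 2 E) {L : Subgroup E}
    (hinv : ∀ α ∈ D.A, ∀ x ∈ L, α x ∈ L)
    (hsmall : (frattini E).relIndex L ≤ 2) {g : G} (hg : g ∈ normalizer (E : Set G))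
    (h : ∀ x, x⁻¹ * cj hg x ∈ L) : g ∈ E :=
  D.mem_of_chain hE hinv hg h fun _ hx => D.trivial_on_small hsmall hinv (D.cj_mem g hg) hx

/-- A normalising element trivial on the Frattini quotient lies in `E`. -/
theorem mem_of_frattini (hE : IsPGroup 2 E) {g : G} (hg : g ∈ normalizer (E : Set G))
    (h : ∀ x, x⁻¹ * cj hg x ∈ frattini E) : g ∈ E :=
  D.mem_of_stable hE (fun α _ _ hx => map_frattini_mem α hx)
    (by rw [relIndex_self]; norm_num) hg h

theorem exists_normalizing (hG : IsPGroup 2 G) :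
    ∃ w : G, w ∈ normalizer (E : Set G) ∧ w ∉ E ∧ w * w ∈ E := by
  haveI : Fact (Nat.Prime 2) := ⟨Nat.prime_two⟩
  obtain ⟨g, hg, hgE⟩ := PGroup.exists_mem_normalizer_not_mem hG D.ne_top
  obtain ⟨n, hn⟩ := hG g
  classical
  have hex : ∃ i, g ^ 2 ^ i ∈ E := ⟨n, hn ▸ one_mem E⟩
  have h0 : Nat.find hex ≠ 0 := fun e => hgE (by simpa [e] using Nat.find_spec hex)
  refine ⟨g ^ 2 ^ (Nat.find hex - 1), pow_mem hg _, Nat.find_min hex (by omega), ?_⟩
  rw [← pow_add, ← two_mul, ← pow_succ', Nat.sub_add_cancel (Nat.one_le_iff_ne_zero.2 h0)]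
  exact Nat.find_spec hex

/-- An automorphism of odd prime order inverted by an element of the normaliser. -/
theorem exists_inverted (hG : IsPGroup 2 G) :
    ∃ (p : ℕ) (_ : Fact p.Prime) (w : G) (hw : w ∈ normalizer (E : Set G)) (θ : MulAut E),
      p ≠ 2 ∧ w ∉ E ∧ w * w ∈ E ∧ θ ∈ D.A ∧ θ ^ p = 1 ∧ θ ≠ 1 ∧
        cj hw * θ * (cj hw)⁻¹ = θ⁻¹ := by
  haveI : Fact (Nat.Prime 2) := ⟨Nat.prime_two⟩
  haveI := D.finite_aut
  obtain ⟨w0, hw0, hw0E, hw02⟩ := D.exists_normalizing hG
  have hE : IsPGroup 2 E := hG.to_subgroup E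
  let c : E →* D.A := (MulAut.conj (G := E)).codRestrict D.A D.conj_mem
  haveI hnI : c.range.Normal := by
    refine ⟨fun n hn g => ?_⟩
    obtain ⟨e, rfl⟩ := hn
    refine ⟨(g : MulAut E) e, Subtype.ext ?_⟩
    ext x
    simp [c, MulAut.conj_apply]
  let π := QuotientGroup.mk' c.range
  have hπ : ∀ a : D.A, π a = 1 ↔ ∃ e : E, (a : MulAut E) = MulAut.conj e := fun a =>
    (QuotientGroup.eq_one_iff a).trans
      ⟨fun ⟨e, he⟩ => ⟨e, (congrArg Subtype.val he).symm⟩, fun ⟨e, he⟩ => ⟨e, Subtype.ext he.symm⟩⟩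
  set ω : D.A := ⟨cj hw0, D.cj_mem w0 hw0⟩ with hω
  have hω2 : ω * ω = c ⟨w0 * w0, hw02⟩ := by
    refine Subtype.ext (MulEquiv.ext fun x => Subtype.ext ?_)
    simp only [hω, c, Subgroup.coe_mul, MulAut.mul_apply, cj_apply,
      MonoidHom.codRestrict_apply, MulAut.conj_apply, Subgroup.coe_inv]
    group
  have hωord : orderOf (π ω) = 2 := by
    refine orderOf_eq_prime ?_ fun h => ?_
    · rw [pow_two, ← map_mul, hω2, hπ]
      exact ⟨_, rfl⟩
    · obtain ⟨e, he⟩ := (hπ ω).1 h
      exact hw0E (D.mem_of_eq_conj hw0 he)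
  obtain ⟨h, hh1, hhodd, hhinv⟩ := Involution.exists_inverted_odd hωord (by
    intro N hN hNp hmem
    have hK : IsPGroup 2 (N.comap π) := hNp.comap_of_ker_isPGroup π (by
      rw [QuotientGroup.ker_mk']
      exact hE.of_surjective c.rangeRestrict c.rangeRestrict_surjective)
    obtain ⟨e, he⟩ := D.radical ((N.comap π).map D.A.subtype) (by
        rintro _ ⟨a, -, rfl⟩; exact a.2) (hK.map _) (by
        rintro g hg _ ⟨a, ha, rfl⟩
        exact ⟨⟨g, hg⟩ * a * ⟨g, hg⟩⁻¹, (hN.comap π).conj_mem a ha ⟨g, hg⟩, rfl⟩)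
      (cj hw0) ⟨ω, hmem, rfl⟩
    exact hw0E (D.mem_of_eq_conj hw0 he))
  have hord1 : orderOf h ≠ 1 := fun e => hh1 (orderOf_eq_one_iff.1 e)
  obtain ⟨p, hp, hdvd⟩ := Nat.exists_prime_and_dvd hord1
  haveI : Fact p.Prime := ⟨hp⟩
  have hp2 : p ≠ 2 := fun e => by
    subst e
    exact Nat.not_even_iff_odd.2 hhodd (even_iff_two_dvd.2 hdvd)
  set r := h ^ (orderOf h / p) with hr
  have hrord : orderOf r = p := orderOf_pow_orderOf_div (orderOf_pos h).ne' hdvd
  have hrinv : π ω * r * (π ω)⁻¹ = r⁻¹ := by rw [hr, ← conj_pow, hhinv, inv_pow]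
  -- a lift of order `p`
  obtain ⟨a0, ha0⟩ := QuotientGroup.mk'_surjective c.range r
  have hIp : IsPGroup 2 c.range := hE.of_surjective c.rangeRestrict c.rangeRestrict_surjective
  have ha0p : a0 ^ p ∈ c.range := by
    rw [← QuotientGroup.eq_one_iff]
    show π (a0 ^ p) = 1
    rw [map_pow]
    show (π a0) ^ p = 1
    rw [show π a0 = r from ha0, ← hrord, pow_orderOf_eq_one]
  obtain ⟨s, hs⟩ := hIp ⟨a0 ^ p, ha0p⟩
  have hs' : (a0 ^ p) ^ 2 ^ s = 1 := congrArg Subtype.val hs
  set θ0 := a0 ^ 2 ^ s with hθ0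
  have hθ0p : θ0 ^ p = 1 := by rw [hθ0, ← pow_mul, mul_comm, pow_mul, hs']
  have hπθ : π θ0 = r ^ 2 ^ s := by rw [hθ0, map_pow]; exact congrArg (· ^ 2 ^ s) ha0
  set r' := r ^ 2 ^ s with hr'
  have hr'1 : r' ≠ 1 := fun e => by
    have h1 := orderOf_dvd_of_pow_eq_one e
    rw [hrord] at h1
    exact hp2 ((Nat.prime_dvd_prime_iff_eq hp Nat.prime_two).1 (hp.dvd_of_dvd_pow h1))
  have hr'inv : π ω * r' * (π ω)⁻¹ = r'⁻¹ := by rw [hr', ← conj_pow, hrinv, inv_pow]
  have hθord : orderOf θ0 = p := orderOf_eq_prime hθ0p fun e => hr'1 (by rw [← hπθ, e, map_one])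
  have hr'ord : orderOf r' = p := orderOf_eq_prime (by rw [← hπθ, ← map_pow, hθ0p, map_one]) hr'1
  -- adjust by an inner automorphism
  set K := (zpowers r').comap π with hK
  set θ1 := ω * θ0 * ω⁻¹ with hθ1
  have hθ0K : θ0 ∈ K := mem_comap.2 (hπθ ▸ mem_zpowers _)
  have hθ1K : θ1 ∈ K := by
    rw [hK, mem_comap, hθ1, map_mul, map_mul, map_inv, hπθ, hr'inv]
    exact inv_mem (mem_zpowers _)
  have hKcard : Nat.card K = Nat.card c.range * p := by
    refine Nat.eq_of_mul_eq_mul_right (Nat.pos_of_ne_zero K.index_ne_zero_of_finite) ?_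
    rw [K.card_mul_index, hK, index_comap_of_surjective _ (QuotientGroup.mk'_surjective c.range),
      mul_assoc, ← hr'ord, ← Nat.card_zpowers, (zpowers r').card_mul_index, ← index_eq_card,
      c.range.card_mul_index]
  obtain ⟨t, ht⟩ := IsPGroup.iff_card.1 hIp
  have hfac : (Nat.card K).factorization p = 1 := by
    rw [hKcard, ht, Nat.factorization_mul (by positivity) hp.ne_zero, Finsupp.add_apply,
      hp.factorization_self, Nat.factorization_pow, Finsupp.smul_apply,
      Nat.prime_two.factorization, Finsupp.single_apply, if_neg (Ne.symm hp2)]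
    simp
  have hsy : ∀ x : D.A, x ∈ K → orderOf x = p →
      ∃ P : Sylow p K, (P : Subgroup K) = (zpowers x).subgroupOf K := by
    intro x hx hxo
    refine ⟨Sylow.ofCard ((zpowers x).subgroupOf K) ?_, rfl⟩
    rw [hfac, pow_one, Nat.card_congr (Subgroup.subgroupOfEquivOfLe (zpowers_le.2 hx)).toEquiv,
      Nat.card_zpowers, hxo]
  obtain ⟨P0, hP0⟩ := hsy θ0 hθ0K hθord
  obtain ⟨P1, hP1⟩ := hsy θ1 hθ1K (by rw [hθ1]; exact ((MulAut.conj ω).orderOf_eq θ0).trans hθord)
  obtain ⟨k, hk⟩ := MulAction.exists_smul_eq K P1 P0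
  have hkmem : (k : D.A) * θ1 * (k : D.A)⁻¹ ∈ zpowers θ0 := by
    have h1 : (⟨θ1, hθ1K⟩ : K) ∈ (P1 : Subgroup K) := hP1 ▸ mem_subgroupOf.2 (mem_zpowers _)
    have h2 : k * ⟨θ1, hθ1K⟩ * k⁻¹ ∈ ((k • P1 : Sylow p K) : Subgroup K) := by
      rw [Sylow.coe_subgroup_smul, Subgroup.mem_smul_pointwise_iff_exists]
      exact ⟨_, h1, rfl⟩
    rw [hk, hP0, mem_subgroupOf] at h2
    exact h2
  -- split `k` as an inner part times a power of `θ0`
  obtain ⟨m, hm⟩ := mem_zpowers_iff.1 (mem_comap.1 k.2)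
  set i0 := (θ0 ^ m)⁻¹ * (k : D.A) with hi0
  have hi0I : π i0 = 1 := by
    rw [hi0, map_mul, map_inv, map_zpow, hπθ, hm, inv_mul_cancel]
  obtain ⟨e, he⟩ := (hπ i0).1 hi0I
  have hi0mem : i0 * θ1 * i0⁻¹ ∈ zpowers θ0 := by
    have : i0 * θ1 * i0⁻¹ = (θ0 ^ m)⁻¹ * ((k : D.A) * θ1 * (k : D.A)⁻¹) * θ0 ^ m := by
      rw [hi0]; group
    rw [this]
    exact mul_mem (mul_mem (inv_mem (zpow_mem (mem_zpowers _) m)) hkmem)
      (zpow_mem (mem_zpowers _) m)
  obtain ⟨j, hj⟩ := mem_zpowers_iff.1 hi0mem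
  have hπj : r' ^ j = r'⁻¹ := by
    rw [← hπθ, ← map_zpow, hj, map_mul, map_mul, map_inv, hi0I, one_mul, inv_one, mul_one, hθ1,
      map_mul, map_mul, map_inv, hπθ, hr'inv]
  have hinj : θ0 ^ j = θ0⁻¹ := by
    have h1 : r' ^ (j + 1) = 1 := by rw [zpow_add_one, hπj, inv_mul_cancel]
    rw [← orderOf_dvd_iff_zpow_eq_one, hr'ord, ← hθord, orderOf_dvd_iff_zpow_eq_one,
      zpow_add_one] at h1
    exact eq_inv_of_mul_eq_one_left h1
  have hw : (e : G) * w0 ∈ normalizer (E : Set G) := mul_mem (le_normalizer e.2) hw0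
  refine ⟨p, inferInstance, (e : G) * w0, hw, θ0, hp2, ?_, ?_, θ0.2, ?_, ?_, ?_⟩
  · exact fun h => hw0E ((mul_mem_cancel_left e.2).1 h)
  · have : (e : G) * w0 * (e * w0) = e * (w0 * e * w0⁻¹) * (w0 * w0) := by group
    rw [this]
    exact mul_mem (mul_mem e.2 ((mem_normalizer_iff.1 hw0 _).1 e.2)) hw02
  · exact congrArg Subtype.val hθ0p
  · exact fun h => by
      rw [show θ0 = 1 from Subtype.ext h, orderOf_one] at hθord
      exact hp.ne_one hθord.symm
  · have hcj : cj hw = ((i0 * ω : D.A) : MulAut E) := by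
      rw [Subgroup.coe_mul, he]
      refine MulEquiv.ext fun x => Subtype.ext ?_
      simp only [cj_apply, MulAut.mul_apply, MulAut.conj_apply, Subgroup.coe_mul,
        Subgroup.coe_inv, hω]
      group
    have := congrArg Subtype.val (hj.symm.trans hinj)
    rw [hcj]
    have e1 : i0 * ω * θ0 * (i0 * ω)⁻¹ = i0 * θ1 * i0⁻¹ := by rw [hθ1]; group
    exact (congrArg Subtype.val e1).trans this

/-- An automorphism of order three inverted by an element of the normaliser. -/
theorem exists_pair (hG : IsPGroup 2 G) (h8 : (frattini E).index ≤ 8) :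
    ∃ (w : G) (hw : w ∈ normalizer (E : Set G)) (θ : MulAut E),
      w ∉ E ∧ w * w ∈ E ∧ θ ∈ D.A ∧ θ ^ 3 = 1 ∧ θ ≠ 1 ∧ cj hw * θ * (cj hw)⁻¹ = θ⁻¹ := by
  haveI : Fact (Nat.Prime 2) := ⟨Nat.prime_two⟩
  haveI := D.finite_aut
  obtain ⟨p, hp, w, hw, θ, hp2, hwE, hw2, hθA, hθp, hθ1, hinv⟩ := D.exists_inverted hG
  have hE : IsPGroup 2 E := hG.to_subgroup E
  let bar : MulAut E →* MulAut (E ⧸ frattini E) :=
    { toFun := fun α => QuotientGroup.congr (frattini E) (frattini E) α
        (characteristic_iff_map_eq.1 inferInstance α)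
      map_one' := by
        ext x; induction x using QuotientGroup.induction_on; rfl
      map_mul' := fun a b => by
        ext x; induction x using QuotientGroup.induction_on; rfl }
  have hbar : ∀ (α : MulAut E) (x : E), bar α x = (α x : E ⧸ frattini E) := fun α x => rfl
  have hp3 : p = 3 := by
    refine eq_three_of_inverted (V := E ⧸ frattini E) (f := bar θ) (g := bar (cj hw)) ?_ ?_ hp2
      ?_ ?_ ?_ ?_
    · intro v
      induction v using QuotientGroup.induction_on with
      | H x =>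
        rw [← QuotientGroup.mk_mul, QuotientGroup.eq_one_iff, ← pow_two]
        exact PGroup.pow_mem_frattini hE x
    · rwa [← index_eq_card]
    · rw [← map_pow, hθp, map_one]
    · intro h
      refine hθ1 (eq_one_of_frattini hE ?_ fun x => ?_)
      · rw [orderOf_eq_prime hθp hθ1]
        exact (Nat.coprime_primes hp.out Nat.prime_two).2 hp2
      · refine QuotientGroup.eq.1 ?_
        rw [← hbar, h]; rfl
    · ext v
      induction v using QuotientGroup.induction_on with
      | H x =>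
        rw [pow_two, MulAut.mul_apply, hbar, hbar, MulAut.one_apply]
        refine (QuotientGroup.eq.2 ?_).symm
        have : x⁻¹ * cj hw (cj hw x) = ⁅x⁻¹, (⟨w * w, hw2⟩ : E)⁆ := by
          apply Subtype.ext
          simp only [commutatorElement_def, Subgroup.coe_mul, Subgroup.coe_inv, cj_apply]
          group
        rw [this]
        exact PGroup.commutatorElement_mem_frattini hE _ _
    · rw [← map_inv, ← map_mul, ← map_mul, hinv, map_inv]
  subst hp3
  exact ⟨w, hw, θ, hwE, hw2, hθA, hθp, hθ1, hinv⟩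

end Ess

end Cfsg.Agent.BicyclicFusion
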