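import Cfsg.Agent.Lib.BicyclicFusion.Structure
import Cfsg.Agent.Lib.BicyclicFusion.CoprimeTwo

/-!
# 2-groups with a fixed-point-free automorphism of order three and metacyclic Frattini subgroup

Such a group, with Frattini quotient of order at most eight, is homocyclic abelian of rank two, or
nonabelian with all elements outside the Frattini subgroup of order four (the quaternion group).
-/

set_option autoImplicit false
set_option linter.style.haveILetI false
set_option linter.unusedSectionVars false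
set_option linter.unusedSimpArgs false

namespace Cfsg.Agent.BicyclicFusion

open Subgroup
open scoped commutatorElement

variable {T : Type*} [Group T]

/-- A 2-element is a power of each of its odd powers. -/
theorem mem_zpowers_zpow_odd (hT : IsPGroup 2 T) (c : T) {i : ℤ} (hi : Odd i) :
    c ∈ zpowers (c ^ i) := by
  obtain ⟨n, hn⟩ := hT c
  have hcop : IsCoprime i ((2 : ℤ) ^ n) := by
    have h2 : ¬ (2 : ℤ) ∣ i := fun h => Int.not_even_iff_odd.2 hi (even_iff_two_dvd.2 h)
    exact ((Int.prime_two.coprime_iff_not_dvd).2 h2).symm.pow_right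
  obtain ⟨u, v, huv⟩ := hcop
  refine mem_zpowers_iff.2 ⟨u, ?_⟩
  calc (c ^ i) ^ u = c ^ (u * i + v * (2 : ℤ) ^ n) := by
        rw [zpow_add, mul_comm v, zpow_mul c ((2 : ℤ) ^ n),
          show ((2 : ℤ) ^ n) = ((2 ^ n : ℕ) : ℤ) by push_cast; rfl, zpow_natCast, hn, one_zpow,
          mul_one, ← zpow_mul, mul_comm]
    _ = c := by rw [huv, zpow_one]

/-- Hypotheses on the pair `(T, θ)`. -/
structure Fpf (θ : MulAut T) : Prop where
  pg : IsPGroup 2 T
  cube : θ ^ 3 = 1
  fpf : ∀ x, x⁻¹ * θ x ∈ frattini T → x ∈ frattini T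
  nt : Nontrivial T
  eight : (frattini T).index ≤ 8
  meta_frattini : Cfsg.IsMetacyclic ↥(frattini T)

/-- The homocyclic conclusion. -/
structure Homo (T : Type*) [Group T] (k : ℕ) : Prop where
  pos : 1 ≤ k
  comm : ∀ x y : T, x * y = y * x
  pow_eq_one : ∀ x : T, x ^ 2 ^ k = 1
  mem_frattini : ∀ x : T, x ^ 2 ^ (k - 1) = 1 ↔ x ∈ frattini T
  exists_root : ∀ x : T, x * x = 1 → ∃ y : T, y ^ 2 ^ (k - 1) = x

/-- The quaternion conclusion. -/
structure Quat (T : Type*) [Group T] (z : T) : Prop where
  ne_one : z ≠ 1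
  sq : z * z = 1
  central : ∀ x : T, x * z = z * x
  frattini_eq : frattini T = zpowers z
  sq_eq : ∀ x : T, x ∉ frattini T → x * x = z

namespace Fpf

variable {θ : MulAut T} [Finite T] (h : Fpf θ)
include h

theorem map_frattini {x : T} (hx : x ∈ frattini T) : θ x ∈ frattini T :=
  (characteristic_iff_map_eq.1 (inferInstance : (frattini T).Characteristic) θ) ▸
    mem_map_of_mem θ.toMonoidHom hx

theorem apply_cube (x : T) : θ (θ (θ x)) = x := DFunLike.congr_fun h.cube x

theorem apply_notMem {x : T} (hx : x ∉ frattini T) : θ x ∉ frattini T := fun hm => hx (by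
  have := h.map_frattini (h.map_frattini hm)
  rwa [h.apply_cube] at this)

theorem frattini_ne_top : frattini T ≠ ⊤ := fun e => by
  haveI := h.nt
  have : (⊥ : Subgroup T) = ⊤ := frattini_nongenerating (by rw [bot_sup_eq]; exact e)
  exact bot_ne_top this

theorem index_frattini : (frattini T).index = 4 := by
  rcases index_of_fpf h.cube (fun _ => h.map_frattini) h.pg h.eight h.fpf with e | e
  · exact absurd (index_eq_one.1 e) h.frattini_ne_top
  · exact e

theorem exists_notMem : ∃ x : T, x ∉ frattini T := by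
  by_contra hall
  push Not at hall
  exact h.frattini_ne_top (eq_top_iff.2 fun x _ => hall x)

theorem gen {x : T} (hx : x ∉ frattini T) : closure {x, θ x} = ⊤ := by
  haveI : Fact (Nat.Prime 2) := ⟨Nat.prime_two⟩
  refine frattini_nongenerating ?_
  set K := closure {x, θ x} ⊔ frattini T
  have h1 : frattini T < zpowers x ⊔ frattini T :=
    lt_of_le_of_ne le_sup_right fun e => hx (e ▸ mem_sup_left (mem_zpowers x))
  have h2 : zpowers x ⊔ frattini T < K := by
    refine lt_of_le_of_ne (sup_le_sup_right (zpowers_le.2 (subset_closure (by simp))) _) fun e => ?_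
    have hm : θ x ∈ zpowers x ⊔ frattini T := e ▸ mem_sup_left (subset_closure (by simp))
    rw [← SetLike.mem_coe, mul_normal] at hm
    obtain ⟨u, hu, f, hf, e2⟩ := hm
    obtain ⟨i, rfl⟩ := mem_zpowers_iff.1 hu
    have hsq : ∀ j : ℤ, x ^ (2 * j) ∈ frattini T := fun j => by
      rw [zpow_mul]; exact zpow_mem (by simpa using PGroup.pow_mem_frattini h.pg x) j
    rcases Int.even_or_odd' i with ⟨j, rfl | rfl⟩
    · exact h.apply_notMem hx (by rw [← e2]; exact mul_mem (hsq j) hf)
    · refine hx (h.fpf x ?_)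
      rw [← e2]
      have : x⁻¹ * (x ^ (2 * j + 1) * f) = x ^ (2 * j) * f := by group
      rw [this]
      exact mul_mem (hsq j) hf
  have k1 := PGroup.mul_card_le_of_lt h.pg h1
  have k2 := PGroup.mul_card_le_of_lt h.pg h2
  refine eq_top_of_le_card _ ?_
  rw [← (frattini T).card_mul_index, h.index_frattini]
  omega

theorem map_commutator {d : T} (hd : d ∈ _root_.commutator T) : θ d ∈ _root_.commutator T :=
  (characteristic_iff_map_eq.1 (inferInstance : (_root_.commutator T).Characteristic) θ) ▸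
    mem_map_of_mem θ.toMonoidHom hd

theorem norm_mem (a : T) : a * θ a * θ (θ a) ∈ _root_.commutator T := by
  let q := Abelianization.of (G := T)
  have hq : ∀ g, q g = 1 ↔ g ∈ _root_.commutator T := fun g => by
    rw [← MonoidHom.mem_ker, Abelianization.ker_of]
  let S : Subgroup T :=
    { carrier := {a | q (a * θ a * θ (θ a)) = 1}
      one_mem' := by simp
      mul_mem' := by
        intro a b ha hb
        simp only [Set.mem_ofPred_eq, map_mul] at ha hb ⊢
        calc q a * q b * (q (θ a) * q (θ b)) * (q (θ (θ a)) * q (θ (θ b)))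
            = (q a * q (θ a) * q (θ (θ a))) * (q b * q (θ b) * q (θ (θ b))) := by
              simp only [mul_comm, mul_assoc, mul_left_comm]
          _ = 1 := by rw [ha, hb, one_mul]
      inv_mem' := by
        intro a ha
        simp only [Set.mem_ofPred_eq, map_mul, map_inv] at ha ⊢
        rw [← mul_inv, ← mul_inv, ha, inv_one] }
  obtain ⟨x, hx⟩ := h.exists_notMem
  have hd : x⁻¹ * θ x ∉ frattini T := fun hm => hx (h.fpf x hm)
  have htop : S = ⊤ := by
    refine top_le_iff.1 (h.gen hd ▸ (closure_le _).2 ?_)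
    rintro y (rfl | rfl) <;>
    · show q _ = 1
      rw [← map_one q]
      congr 1
      simp only [map_mul, map_inv, h.apply_cube]
      group
  exact (hq _).1 (htop ▸ mem_top a : a ∈ S)

theorem mem_commutator_of_fixed {a : T} (ha : a⁻¹ * θ a ∈ _root_.commutator T) :
    a ∈ _root_.commutator T := by
  let q := Abelianization.of (G := T)
  have hq : ∀ g, q g = 1 ↔ g ∈ _root_.commutator T := fun g => by
    rw [← MonoidHom.mem_ker, Abelianization.ker_of]
  have e : q (θ a) = q a := by
    have := (hq _).2 ha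
    rwa [map_mul, map_inv, inv_mul_eq_one, eq_comm] at this
  have e2 : q (θ (θ a)) = q a := by
    have := (hq _).2 (h.map_commutator ha)
    rw [map_mul θ, map_inv θ, map_mul, map_inv, inv_mul_eq_one] at this
    rw [← this, e]
  have h3 := (hq _).2 (h.norm_mem a)
  rw [map_mul, map_mul, e, e2, ← pow_two, ← pow_succ] at h3
  obtain ⟨n, hn⟩ := (h.pg.of_surjective q (QuotientGroup.mk'_surjective _)) (q a)
  refine (hq a).1 (orderOf_eq_one_iff.1 (Nat.eq_one_of_dvd_coprimes ?_ (orderOf_dvd_of_pow_eq_one h3)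
    (orderOf_dvd_of_pow_eq_one hn)))
  exact Nat.Coprime.pow_right _ (by norm_num)

/-- The exponent of the abelianization. -/
theorem exists_exponent : ∃ k, 1 ≤ k ∧ (∀ a : T, a ^ 2 ^ k ∈ _root_.commutator T) ∧
    ∀ a : T, a ∉ frattini T → a ^ 2 ^ (k - 1) ∉ _root_.commutator T := by
  haveI : Fact (Nat.Prime 2) := ⟨Nat.prime_two⟩
  have hex : ∃ k, ∀ a : T, a ^ 2 ^ k ∈ _root_.commutator T := by
    obtain ⟨n, hn⟩ := IsPGroup.iff_card.1 h.pg
    exact ⟨n, fun a => by rw [← hn, pow_card_eq_one']; exact one_mem _⟩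
  classical
  refine ⟨Nat.find hex, ?_, Nat.find_spec hex, ?_⟩
  · by_contra hk
    have hk0 := Nat.find_spec hex
    rw [show Nat.find hex = 0 by omega] at hk0
    obtain ⟨x, hx⟩ := h.exists_notMem
    exact hx (PGroup.commutator_le_frattini h.pg (by simpa using hk0 x))
  · intro a ha hpow
    by_cases hk : Nat.find hex = 0
    · rw [hk] at hpow
      exact ha (PGroup.commutator_le_frattini h.pg (by simpa using hpow))
    refine Nat.find_min hex (show Nat.find hex - 1 < Nat.find hex by omega) fun y => ?_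
    let q := Abelianization.of (G := T)
    have hq : ∀ g, q g = 1 ↔ g ∈ _root_.commutator T := fun g => by
      rw [← MonoidHom.mem_ker, Abelianization.ker_of]
    let S : Subgroup T :=
      ((powMonoidHom (2 ^ (Nat.find hex - 1)) : Abelianization T →* Abelianization T).comp q).ker
    have hS : closure {a, θ a} ≤ S := by
      refine (closure_le _).2 ?_
      rintro z (rfl | rfl)
      · show q z ^ _ = 1
        rw [← map_pow, hq]; exact hpow
      · show q (θ a) ^ _ = 1
        rw [← map_pow, hq, ← map_pow θ]; exact h.map_commutator hpow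
    rw [h.gen ha] at hS
    have := hS (mem_top y)
    rw [← hq, map_pow]
    exact this

/-- Squares commute modulo the subgroup `N` if `N` contains `R T`. -/
theorem commute_sq {N : Subgroup T} [N.Normal] (hN : sqDer T ≤ N)
    (hc : ∀ d ∈ _root_.commutator T, ∀ g : T, ⁅d, g⁆ ∈ N) (x y : T) :
    Commute (QuotientGroup.mk' N (x ^ 2)) (QuotientGroup.mk' N y) := by
  set q := QuotientGroup.mk' N
  have hd : ⁅x, y⁆ ∈ _root_.commutator T := commutator_mem_commutator (mem_top _) (mem_top _)
  have hcx : Commute (q ⁅x, y⁆) (q x) := by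
    rw [commute_iff_eq, ← commutatorElement_eq_one_iff_mul_comm, ← map_commutatorElement]
    exact (QuotientGroup.eq_one_iff _).2 (hc _ hd x)
  have e : q ⁅x ^ 2, y⁆ = q x * q ⁅x, y⁆ * (q x)⁻¹ * q ⁅x, y⁆ := by
    rw [← map_inv, ← map_mul, ← map_mul, ← map_mul, commutatorElement_def, commutatorElement_def]
    congr 1; rw [pow_two]; group
  rw [← hcx.eq, mul_inv_cancel_right, ← map_mul, ← pow_two,
    show q (⁅x, y⁆ ^ 2) = 1 from (QuotientGroup.eq_one_iff _).2 (hN (sq_mem_sqDer hd)),
    map_commutatorElement, commutatorElement_eq_one_iff_mul_comm] at e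
  exact e

theorem isMetacyclic : Cfsg.IsMetacyclic T := by
  haveI : Fact (Nat.Prime 2) := ⟨Nat.prime_two⟩
  by_contra hm
  obtain ⟨k, hk1, hkall, hkmax⟩ := h.exists_exponent
  obtain ⟨x, hx⟩ := h.exists_notMem
  have hgen := h.gen hx
  set c := ⁅θ x, x⁆ with hc
  have hcD : c ∈ _root_.commutator T := commutator_mem_commutator (mem_top _) (mem_top _)
  let q := QuotientGroup.mk' (R T)
  have hbad : ∀ {g g' : T}, closure {g, g'} = ⊤ → ∀ i : ℤ, q (g ^ i) ≠ q c :=
    fun hg i e => hm (isMetacyclic_of_mem' h.pg hgen hg i (QuotientGroup.eq.1 e))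
  have hc2 : q c * q c = 1 := by
    rw [← map_mul, ← pow_two]; exact (QuotientGroup.eq_one_iff _).2 (sq_mem_R hcD)
  have hD : ∀ d ∈ _root_.commutator T, q d = 1 ∨ q d = q c := by
    intro d hd
    obtain ⟨m, hm'⟩ := commutator_mod_R hgen hd
    have e : q d = q c ^ m := by rw [← map_zpow]; exact (QuotientGroup.eq.2 hm').symm
    rcases Int.even_or_odd m with ⟨t, rfl⟩ | ⟨t, rfl⟩
    · exact Or.inl (by rw [e, zpow_add, ← (Commute.refl _).mul_zpow, hc2, one_zpow])
    · exact Or.inr (by
        rw [e, zpow_add, two_mul, zpow_add, ← (Commute.refl _).mul_zpow, hc2, one_zpow, one_mul,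
          zpow_one])
  have hcen : ∀ y : T, Commute (q c) (q y) := fun y => by
    rw [commute_iff_eq, ← commutatorElement_eq_one_iff_mul_comm, ← map_commutatorElement]
    exact (QuotientGroup.eq_one_iff _).2 (comm_mem_R hcD y)
  rcases Nat.lt_or_ge k 2 with hk | hk
  · -- exponent two
    have hk' : k = 1 := by omega
    have hsq : ∀ g : T, q (g ^ 2) = 1 ∨ q (g ^ 2) = q c := fun g =>
      hD _ (by simpa [hk'] using hkall g)
    have hx2 : q (x ^ 2) = 1 := (hsq x).resolve_right fun e =>
      hbad hgen 2 (by rw [zpow_ofNat]; exact e)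
    have hy2 : q (θ x ^ 2) = 1 := (hsq (θ x)).resolve_right fun e =>
      hbad (g' := x) (by rw [Set.pair_comm]; exact hgen) 2 (by rw [zpow_ofNat]; exact e)
    have hxy : q ((x * θ x) ^ 2) = q c := by
      have e : q (θ x) * q x = q c * q x * q (θ x) := by
        rw [← map_mul, ← map_mul, ← map_mul, hc, commutatorElement_def]; congr 1; group
      rw [map_pow, map_mul, pow_two,
        show q x * q (θ x) * (q x * q (θ x)) = q x * (q (θ x) * q x) * q (θ x) by group, e,
        show q x * (q c * q x * q (θ x)) * q (θ x) = q x * q c * q x * (q (θ x) * q (θ x)) by group,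
        ← pow_two (q (θ x)), ← map_pow, hy2, mul_one, ← (hcen x).eq, mul_assoc, ← map_mul,
        ← pow_two, hx2, mul_one]
    refine hbad (g := x * θ x) (g' := x) (gen_of_mem hgen (mem_sup_left (subset_closure (by simp))) ?_)
      2 (by rw [zpow_ofNat]; exact hxy)
    have : θ x = x⁻¹ * (x * θ x) := by group
    rw [this]
    exact mem_sup_left (mul_mem (inv_mem (subset_closure (by simp))) (subset_closure (by simp)))
  · -- higher exponent: an elementary group of order eight in the image of the Frattini subgroup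
    obtain ⟨l, rfl⟩ : ∃ l, k = l + 2 := ⟨k - 2, by omega⟩
    set u := x ^ 2 ^ (l + 1) with hu
    have hu2 : u ^ 2 = x ^ 2 ^ (l + 2) := by rw [hu, ← pow_mul, ← pow_succ]
    have hucen : ∀ (g y : T), Commute (q (g ^ 2 ^ (l + 1))) (q y) := fun g y => by
      rw [pow_succ', pow_mul, map_pow]
      exact (h.commute_sq (N := R T) le_sup_left (fun d hd g => comm_mem_R hd g) g y).pow_left _
    have huD : u ∉ _root_.commutator T := hkmax x hx
    have hθu : θ u = (θ x) ^ 2 ^ (l + 1) := map_pow θ x _
    have hu21 : q u * q u = 1 := by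
      rw [← map_mul, ← pow_two, hu2]
      refine (hD _ (hkall x)).resolve_right fun e => hbad hgen ((2 ^ (l + 2) : ℕ) : ℤ) ?_
      rw [zpow_natCast]; exact e
    have hθu21 : q (θ u) * q (θ u) = 1 := by
      rw [← map_mul, ← pow_two, hθu, ← pow_mul, ← pow_succ]
      refine (hD _ (hkall _)).resolve_right fun e =>
        hbad (g := θ x) (g' := x) (by rw [Set.pair_comm]; exact hgen) ((2 ^ (l + 2) : ℕ) : ℤ) ?_
      rw [zpow_natCast]; exact e
    set E : Subgroup (T ⧸ R T) := closure {q c, q u, q (θ u)} with hE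
    have hEc : E ≤ center (T ⧸ R T) := by
      rw [hE, closure_le]
      simp only [Set.insert_subset_iff, Set.singleton_subset_iff, SetLike.mem_coe, mem_center_iff]
      refine ⟨fun z => ?_, fun z => ?_, fun z => ?_⟩ <;>
        obtain ⟨z, rfl⟩ := QuotientGroup.mk'_surjective _ z
      · exact (hcen z).eq.symm
      · exact (hucen x z).eq.symm
      · rw [hθu]; exact (hucen (θ x) z).eq.symm
    have hexp : ∀ v ∈ E, v ^ 2 = 1 := by
      intro v hv
      induction hv using closure_induction with
      | mem z hz =>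
        simp only [Set.mem_insert_iff, Set.mem_singleton_iff] at hz
        rcases hz with rfl | rfl | rfl <;> rw [pow_two] <;> assumption
      | one => simp
      | mul v w hv hw ihv ihw =>
        rw [(show Commute v w from mem_center_iff.1 (hEc hw) v).mul_pow, ihv, ihw, mul_one]
      | inv v _ ih => rw [inv_pow, ih, inv_one]
    let f : ↥(frattini T) →* T ⧸ R T := q.comp (Subgroup.subtype _)
    have hfE : E ≤ f.range := by
      rw [hE, closure_le]
      simp only [Set.insert_subset_iff, Set.singleton_subset_iff]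
      have hm : ∀ g : T, g ^ 2 ^ (l + 1) ∈ frattini T := fun g => by
        rw [pow_succ', pow_mul]; exact pow_mem (PGroup.pow_mem_frattini h.pg g) _
      exact ⟨⟨⟨c, PGroup.commutator_le_frattini h.pg hcD⟩, rfl⟩, ⟨⟨u, hm x⟩, rfl⟩,
        ⟨⟨θ u, hθu ▸ hm (θ x)⟩, rfl⟩⟩
    have h4 : Nat.card E ≤ 4 := RankTwo.card_le_sq_of_exponent (p := 2)
      (RankTwo.isMetacyclic_of_injective (inclusion hfE) (inclusion_injective _)
        (RankTwo.isMetacyclic_of_surjective f.rangeRestrict f.rangeRestrict_surjective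
          h.meta_frattini))
      fun v => Subtype.ext (by simpa using hexp v v.2)
    have hQ : IsPGroup 2 (T ⧸ R T) := h.pg.to_quotient _
    have hc1 : q c ≠ 1 := fun e => hbad hgen 0 (by rw [zpow_zero, map_one, e])
    have hlift : ∀ {g : T} {N : Subgroup T}, R T ≤ N → q g ∈ N.map q → g ∈ N := by
      intro g N hN hg
      rw [← mem_comap, comap_map_eq, QuotientGroup.ker_mk', sup_eq_left.2 hN] at hg
      exact hg
    have h1 : (⊥ : Subgroup (T ⧸ R T)) < zpowers (q c) :=
      bot_lt_iff_ne_bot.2 (by simpa using hc1)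
    set E2 : Subgroup (T ⧸ R T) := closure {q c, q u} with hE2
    have h2 : zpowers (q c) < E2 := by
      refine lt_of_le_of_ne (zpowers_le.2 (subset_closure (by simp))) fun e => huD ?_
      refine hlift R_le ?_
      exact (zpowers_le.2 (mem_map_of_mem q hcD)) (e ▸ subset_closure (by simp))
    have h3 : E2 < E := by
      refine lt_of_le_of_ne (closure_mono (by simp [Set.insert_subset_iff])) fun e => huD ?_
      have hle : E2 ≤ (zpowers u ⊔ _root_.commutator T).map q := by
        rw [hE2, closure_le]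
        simp only [Set.insert_subset_iff, Set.singleton_subset_iff]
        exact ⟨mem_map_of_mem _ (mem_sup_right hcD), mem_map_of_mem _ (mem_sup_left (mem_zpowers u))⟩
      have hm := hlift (R_le.trans le_sup_right) (hle (e ▸ subset_closure (by simp) : q (θ u) ∈ E2))
      rw [← SetLike.mem_coe, mul_normal] at hm
      obtain ⟨w, hw, d, hd, e2⟩ := hm
      obtain ⟨i, rfl⟩ := mem_zpowers_iff.1 hw
      have hsq : ∀ j : ℤ, u ^ (2 * j) ∈ _root_.commutator T := fun j => by
        rw [zpow_mul, zpow_ofNat, hu2]; exact zpow_mem (hkall x) j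
      rcases Int.even_or_odd' i with ⟨j, rfl | rfl⟩
      · have := h.map_commutator (h.map_commutator
          (e2 ▸ mul_mem (hsq j) hd : θ u ∈ _root_.commutator T))
        rwa [h.apply_cube] at this
      · refine h.mem_commutator_of_fixed ?_
        rw [← e2]
        have : u⁻¹ * (u ^ (2 * j + 1) * d) = u ^ (2 * j) * d := by group
        rw [this]
        exact mul_mem (hsq j) hd
    have k1 := PGroup.mul_card_le_of_lt hQ h1
    have k2 := PGroup.mul_card_le_of_lt hQ h2
    have k3 := PGroup.mul_card_le_of_lt hQ h3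
    rw [Subgroup.card_bot] at k1
    omega

/-- Abelian case. -/
theorem homo (hcomm : ∀ x y : T, x * y = y * x) : ∃ k, Homo T k := by
  haveI : Fact (Nat.Prime 2) := ⟨Nat.prime_two⟩
  haveI : IsMulCommutative T := ⟨⟨hcomm⟩⟩
  obtain ⟨k, hk1, hkall, hkmax⟩ := h.exists_exponent
  have hD : _root_.commutator T = ⊥ := by
    rw [eq_bot_iff, _root_.commutator_def, commutator_le]
    intro a _ b _
    rw [mem_bot, commutatorElement_eq_one_iff_mul_comm]; exact hcomm a b
  simp only [hD, mem_bot] at hkall hkmax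
  letI : CommGroup T := { (inferInstance : Group T) with mul_comm := hcomm }
  have hΦsq : frattini T = (powMonoidHom 2 : T →* T).range := by
    rw [PGroup.frattini_eq h.pg, hD, bot_sup_eq]
    refine le_antisymm ((closure_le _).2 ?_) ?_
    · rintro _ ⟨g, rfl⟩; exact ⟨g, rfl⟩
    · rintro _ ⟨g, rfl⟩; exact subset_closure ⟨g, rfl⟩
  have hmem : ∀ x : T, x ^ 2 ^ (k - 1) = 1 ↔ x ∈ frattini T := by
    intro x
    refine ⟨fun e => by_contra fun hx => hkmax x hx e, fun hx => ?_⟩
    obtain ⟨g, rfl⟩ : ∃ g, g ^ 2 = x := by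
      rw [hΦsq] at hx; exact hx
    rw [← pow_mul, ← pow_succ', Nat.sub_add_cancel hk1, hkall]
  refine ⟨k, hk1, hcomm, hkall, hmem, fun x hx => ?_⟩
  set P : T →* T := powMonoidHom (2 ^ (k - 1)) with hP
  have hker : P.ker = frattini T := by ext y; exact hmem y
  have hle : P.range ≤ (powMonoidHom 2 : T →* T).ker := by
    rintro _ ⟨y, rfl⟩
    show (y ^ 2 ^ (k - 1)) ^ 2 = 1
    rw [← pow_mul, ← pow_succ, Nat.sub_add_cancel hk1, hkall]
  have hcard : Nat.card (powMonoidHom 2 : T →* T).ker ≤ Nat.card P.range := by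
    rw [← index_ker P, hker, hΦsq]
    refine le_of_eq (Nat.eq_of_mul_eq_mul_right
      (Nat.card_pos (α := (powMonoidHom 2 : T →* T).range)) ?_)
    rw [index_mul_card, ← index_ker, card_mul_index]
  have heq := eq_of_le_of_card_ge hle hcard
  have : x ∈ P.range := by rw [heq]; show x ^ 2 = 1; rw [pow_two, hx]
  exact this

/-- The dichotomy. -/
theorem cases : (∃ k, Homo T k) ∨ ∃ z, Quat T z := by
  haveI : Fact (Nat.Prime 2) := ⟨Nat.prime_two⟩
  obtain ⟨N, hN, hNc, hNq⟩ := h.isMetacyclic
  haveI := hN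
  haveI := hNc
  haveI := hNq
  have hDN : _root_.commutator T ≤ N :=
    Subgroup.Normal.quotient_commutative_iff_commutator_le.1 (show IsMulCommutative (T ⧸ N) from
      ⟨⟨fun a b => by
        obtain ⟨g, hg⟩ := hNq.exists_generator
        obtain ⟨i, rfl⟩ := mem_zpowers_iff.1 (hg a)
        obtain ⟨j, rfl⟩ := mem_zpowers_iff.1 (hg b)
        rw [← zpow_add, ← zpow_add, add_comm]⟩⟩)
  haveI hDc : IsCyclic (_root_.commutator T) :=
    isCyclic_of_injective (inclusion hDN) (inclusion_injective _)
  by_cases hD : _root_.commutator T = ⊥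
  · refine Or.inl (h.homo fun a b => ?_)
    have : ⁅a, b⁆ ∈ _root_.commutator T := commutator_mem_commutator (mem_top a) (mem_top b)
    rwa [hD, mem_bot, commutatorElement_eq_one_iff_mul_comm] at this
  refine Or.inr ?_
  obtain ⟨⟨c, hcD⟩, hcgen⟩ := hDc.exists_generator
  have hDz : ∀ d ∈ _root_.commutator T, ∃ i : ℤ, c ^ i = d := fun d hd => by
    obtain ⟨i, hi⟩ := mem_zpowers_iff.1 (hcgen ⟨d, hd⟩)
    exact ⟨i, congrArg Subtype.val hi⟩
  -- `θ` fixes `D` pointwise
  have hθD : ∀ d ∈ _root_.commutator T, θ d = d := by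
    let e : MulAut (_root_.commutator T : Subgroup T) :=
      { toFun := fun d => ⟨θ (d : T), h.map_commutator d.2⟩
        invFun := fun d => ⟨θ (θ (d : T)), h.map_commutator (h.map_commutator d.2)⟩
        left_inv := fun d => Subtype.ext (h.apply_cube (d : T))
        right_inv := fun d => Subtype.ext (h.apply_cube (d : T))
        map_mul' := fun a b => Subtype.ext (map_mul θ (a : T) (b : T)) }
    have he : e ^ 3 = 1 := by ext d; exact h.apply_cube d
    have he1 := eq_one_of_isCyclic (h.pg.to_subgroup _) (α := e)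
      (Nat.Coprime.coprime_dvd_left (orderOf_dvd_of_pow_eq_one he) (by norm_num))
    intro d hd
    exact congrArg Subtype.val (DFunLike.congr_fun he1 ⟨d, hd⟩)
  -- modulo the squares of `D`
  let q := QuotientGroup.mk' (sqDer T)
  have hcs : c ∉ sqDer T := by
    intro hcs
    refine hD (eq_bot_iff.2 ?_)
    have htop : (frattini (_root_.commutator T : Subgroup T)) = ⊤ := by
      refine eq_top_iff.2 fun d _ => ?_
      have hle : sqDer T ≤ (frattini (_root_.commutator T : Subgroup T)).map
          (_root_.commutator T).subtype := (closure_le _).2 fun _ ⟨e, he, heq⟩ =>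
        ⟨⟨e, he⟩ ^ 2, PGroup.pow_mem_frattini (h.pg.to_subgroup _) _, by simpa using heq⟩
      obtain ⟨i, hi⟩ := hDz d d.2
      obtain ⟨f, hf, hfe⟩ := hle hcs
      have : d = f ^ i := Subtype.ext (by rw [← hi, ← hfe]; rfl)
      rw [this]; exact zpow_mem hf i
    have hbot : (⊥ : Subgroup (_root_.commutator T : Subgroup T)) = ⊤ :=
      frattini_nongenerating (by rw [bot_sup_eq]; exact htop)
    intro d hd
    have : (⟨d, hd⟩ : (_root_.commutator T : Subgroup T)) ∈ (⊥ : Subgroup _) := hbot ▸ mem_top _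
    simpa using this
  have hqc1 : q c ≠ 1 := fun e => hcs ((QuotientGroup.eq_one_iff _).1 e)
  have hqc2 : q c * q c = 1 := by
    rw [← map_mul, ← pow_two]; exact (QuotientGroup.eq_one_iff _).2 (sq_mem_sqDer hcD)
  have hcl : ∀ i : ℤ, q (c ^ i) = 1 ∧ Even i ∨ q (c ^ i) = q c ∧ Odd i := by
    intro i
    rcases Int.even_or_odd i with ⟨t, rfl⟩ | ⟨t, rfl⟩
    · exact Or.inl ⟨by rw [map_zpow, zpow_add, ← (Commute.refl _).mul_zpow, hqc2, one_zpow], ⟨t, rfl⟩⟩
    · exact Or.inr ⟨by rw [map_zpow, zpow_add, two_mul, zpow_add, ← (Commute.refl _).mul_zpow, hqc2,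
        one_zpow, one_mul, zpow_one], ⟨t, rfl⟩⟩
  have hcen : ∀ d ∈ _root_.commutator T, ∀ g : T, Commute (q d) (q g) := by
    have key : ∀ g : T, Commute (q c) (q g) := by
      intro g
      obtain ⟨i, hi⟩ := hDz _ (Normal.conj_mem inferInstance c hcD g)
      have hne : q (g * c * g⁻¹) ≠ 1 := fun e => hqc1 (by simpa using e)
      have e : q (g * c * g⁻¹) = q c := by
        rw [← hi] at hne ⊢
        rcases hcl i with ⟨e, -⟩ | ⟨e, -⟩
        · exact absurd e hne
        · exact e
      rw [map_mul, map_mul, map_inv, mul_inv_eq_iff_eq_mul] at e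
      exact e.symm
    intro d hd g
    obtain ⟨i, rfl⟩ := hDz d hd
    rw [map_zpow]; exact (key g).zpow_left i
  have hcomm_sq : ∀ g y : T, Commute (q (g ^ 2)) (q y) :=
    h.commute_sq le_rfl fun d hd g => by
      rw [← QuotientGroup.eq_one_iff]
      show q ⁅d, g⁆ = 1
      rw [map_commutatorElement, commutatorElement_eq_one_iff_mul_comm]
      exact hcen d hd g
  have hθq : ∀ g : T, q g = 1 → q (θ g) = 1 := fun g hg => by
    have := (QuotientGroup.eq_one_iff g).1 hg
    exact (QuotientGroup.eq_one_iff _).2 (by rw [hθD g (sqDer_le this)]; exact this)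
  obtain ⟨k, hk1, hkall, hkmax⟩ := h.exists_exponent
  obtain ⟨x, hx⟩ := h.exists_notMem
  have hk : k = 1 := by
    by_contra hkne
    obtain ⟨l, rfl⟩ : ∃ l, k = l + 2 := ⟨k - 2, by omega⟩
    have hf1 : ∀ g : T, q (g ^ 2 ^ (l + 2)) = 1 := by
      intro g
      have hfD : ∀ d ∈ _root_.commutator T, q (d ^ 2 ^ (l + 2)) = 1 := fun d hd => by
        rw [pow_succ', pow_mul, map_pow,
          show q (d ^ 2) = 1 from (QuotientGroup.eq_one_iff _).2 (sq_mem_sqDer hd), one_pow]
      have hmul : ∀ a b : T,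
          q ((a * b) ^ 2 ^ (l + 2)) = q (a ^ 2 ^ (l + 2)) * q (b ^ 2 ^ (l + 2)) := by
        intro a b
        have hd : ⁅b, a⁆ ∈ _root_.commutator T := commutator_mem_commutator (mem_top _) (mem_top _)
        have hc : ∀ y, Commute (q ⁅b, a⁆) (q y) := hcen _ hd
        have e0 : q b * q a = q ⁅b, a⁆ * (q a * q b) := by
          rw [← map_mul, ← map_mul, ← map_mul, commutatorElement_def]; congr 1; group
        have e : q ((a * b) ^ 2) = q (a ^ 2) * q (b ^ 2) * q ⁅b, a⁆ := by
          calc q ((a * b) ^ 2) = q a * (q b * q a) * q b := by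
                rw [map_pow, map_mul, pow_two]; group
            _ = q a * q ⁅b, a⁆ * q a * (q b * q b) := by rw [e0]; group
            _ = q ⁅b, a⁆ * (q (a ^ 2) * q (b ^ 2)) := by
                rw [← (hc a).eq, map_pow, map_pow, pow_two, pow_two]; group
            _ = _ := ((hc (a ^ 2)).mul_right (hc (b ^ 2))).eq
        have hd1 : q ⁅b, a⁆ ^ 2 ^ (l + 1) = 1 := by
          rw [pow_succ', pow_mul, ← map_pow q ⁅b, a⁆ 2,
            show q (⁅b, a⁆ ^ 2) = 1 from (QuotientGroup.eq_one_iff _).2 (sq_mem_sqDer hd), one_pow]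
        rw [pow_succ', pow_mul (a * b), pow_mul a, pow_mul b, map_pow, e,
          ((hc (a ^ 2)).mul_right (hc (b ^ 2))).symm.mul_pow, (hcomm_sq a (b ^ 2)).mul_pow, hd1,
          mul_one]
        simp only [map_pow]
      have hfix : ∀ a : T, q (θ a ^ 2 ^ (l + 2)) = q (a ^ 2 ^ (l + 2)) := fun a => by
        rw [← map_pow θ, hθD _ (hkall a)]
      obtain ⟨i, hi⟩ := hDz _ (hkall g)
      rcases hcl i with ⟨e, -⟩ | ⟨e, -⟩
      · rwa [hi] at e
      · exfalso
        rw [hi] at e
        have h3 := hfD _ (h.norm_mem g)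
        rw [hmul, hmul, hfix (θ g), hfix g, e, hqc2, one_mul] at h3
        exact hqc1 h3
    obtain ⟨⟨n, hnN⟩, hngen⟩ := hNc.exists_generator
    have hn : n ∉ frattini T := by
      intro hn
      obtain ⟨g, hg⟩ := hNq.exists_generator
      obtain ⟨g, rfl⟩ := QuotientGroup.mk_surjective g
      have htop : zpowers g ⊔ frattini T = ⊤ := by
        refine eq_top_iff.2 fun y _ => ?_
        obtain ⟨i, hi⟩ := mem_zpowers_iff.1 (hg y)
        rw [← QuotientGroup.mk_zpow, QuotientGroup.eq] at hi
        obtain ⟨j, hj⟩ := mem_zpowers_iff.1 (hngen ⟨_, hi⟩)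
        have hj' : n ^ j = (g ^ i)⁻¹ * y := congrArg Subtype.val hj
        have : y = g ^ i * n ^ j := by rw [hj']; group
        rw [this]
        exact mul_mem (mem_sup_left (zpow_mem (mem_zpowers g) i))
          (mem_sup_right (zpow_mem hn j))
      haveI := PGroup.isCyclic_of_sup_frattini htop
      refine hD (eq_bot_iff.2 ?_)
      rw [_root_.commutator_def, commutator_le]
      intro a _ b _
      rw [mem_bot, commutatorElement_eq_one_iff_mul_comm]
      exact mul_comm' a b
    obtain ⟨i, hi⟩ := mem_zpowers_iff.1 (hngen ⟨c, hDN hcD⟩)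
    have hi' : n ^ i = c := congrArg Subtype.val hi
    have hord : orderOf (Abelianization.of n) = 2 ^ (l + 2) := by
      refine orderOf_eq_prime_pow ?_ ?_
      · rw [← map_pow, ← MonoidHom.mem_ker, Abelianization.ker_of]
        simpa using hkmax n hn
      · rw [← map_pow, ← MonoidHom.mem_ker, Abelianization.ker_of]
        exact hkall n
    have hdvd : ((2 ^ (l + 2) : ℕ) : ℤ) ∣ i := by
      rw [← hord, orderOf_dvd_iff_zpow_eq_one, ← map_zpow, hi', ← MonoidHom.mem_ker,
        Abelianization.ker_of]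
      exact hcD
    obtain ⟨j, rfl⟩ := hdvd
    exact hqc1 (by rw [← hi', zpow_mul, zpow_natCast, map_zpow, hf1, one_zpow])
  subst hk
  have hsqD : ∀ g : T, g ^ 2 ∈ _root_.commutator T := fun g => by simpa using hkall g
  have hΦ : frattini T = _root_.commutator T := by
    rw [PGroup.frattini_eq h.pg]
    exact sup_eq_left.2 ((closure_le _).2 (by rintro _ ⟨g, rfl⟩; exact hsqD g))
  have hmain : ∀ x : T, x ∉ frattini T → ∃ i : ℤ, Odd i ∧ c ^ i = x ^ 2 := by
    intro x hx
    obtain ⟨i, hi⟩ := hDz _ (hsqD x)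
    rcases hcl i with ⟨e, -⟩ | ⟨-, e⟩
    swap
    · exact ⟨i, e, hi⟩
    exfalso
    rw [hi] at e
    set y := θ x with hy
    have hgen := h.gen hx
    have ey : q (y ^ 2) = 1 := by rw [hy, ← map_pow θ]; exact hθq _ e
    have hxy : q ((x * y) ^ 2) = 1 := by
      have hd := h.norm_mem x
      have e3 : q (θ y ^ 2) = 1 := by rw [← map_pow θ]; exact hθq _ ey
      rw [← hy] at hd
      have : x * y = x * y * θ y * (θ y)⁻¹ := by group
      rw [this, map_pow, map_mul, ((hcen _ hd _)).mul_pow, ← map_pow, ← map_pow,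
        show q ((x * y * θ y) ^ 2) = 1 from (QuotientGroup.eq_one_iff _).2 (sq_mem_sqDer hd),
        one_mul, inv_pow, map_inv, e3, inv_one]
    have hcomm : q x * q y = q y * q x := by
      rw [map_pow, pow_two] at e ey hxy
      rw [map_mul] at hxy
      rw [eq_inv_of_mul_eq_one_left hxy, mul_inv_rev, inv_eq_of_mul_eq_one_right e,
        inv_eq_of_mul_eq_one_right ey]
    have hle : _root_.commutator T ≤ sqDer T := by
      refine commutator_le_of_gen hgen ?_
      rw [← QuotientGroup.eq_one_iff]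
      show q ⁅y, x⁆ = 1
      rw [map_commutatorElement, commutatorElement_eq_one_iff_mul_comm]
      exact hcomm.symm
    exact hcs (hle hcD)
  have hgenD : ∀ x : T, x ∉ frattini T → c ∈ zpowers (x ^ 2) := fun x hx => by
    obtain ⟨i, hi, e⟩ := hmain x hx
    exact e ▸ mem_zpowers_zpow_odd h.pg c hi
  have hccen : ∀ g : T, g * c = c * g := by
    intro g
    have hfix : ∀ x : T, x ∉ frattini T → x * c = c * x := fun x hx => by
      obtain ⟨j, hj⟩ := mem_zpowers_iff.1 (hgenD x hx)
      rw [← hj]; exact (((Commute.refl x).pow_right 2).zpow_right j).eq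
    by_cases hg : g ∈ frattini T
    · obtain ⟨i, rfl⟩ := hDz g (hΦ ▸ hg)
      exact ((Commute.refl c).zpow_left i).eq
    · exact hfix g hg
  have hc2 : c * c = 1 := by
    have hgen := h.gen hx
    set d := ⁅θ x, x⁆ with hd
    have hdD : d ∈ _root_.commutator T := commutator_mem_commutator (mem_top _) (mem_top _)
    have hz : zpowers c ≤ center T := zpowers_le.2 (mem_center_iff.2 hccen)
    have hdc : ∀ g : T, g * d = d * g := by
      obtain ⟨i, hi⟩ := hDz d hdD
      exact mem_center_iff.1 (hz (hi ▸ zpow_mem (mem_zpowers c) i))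
    have hd2 : d * d = 1 := by
      obtain ⟨i, hi⟩ := hDz _ (hsqD x)
      have hxc : θ x * x ^ 2 = x ^ 2 * θ x :=
        mem_center_iff.1 (hz (hi ▸ zpow_mem (mem_zpowers c) i)) (θ x)
      calc d * d = θ x * x * (θ x)⁻¹ * x⁻¹ * d := by rw [hd, commutatorElement_def]
        _ = θ x * x * (θ x)⁻¹ * (d * x⁻¹) := by rw [mul_assoc, hdc]
        _ = θ x * x ^ 2 * (θ x)⁻¹ * (x ^ 2)⁻¹ := by rw [hd, commutatorElement_def, pow_two]; group
        _ = 1 := by rw [hxc]; group
    have : _root_.commutator T ≤ zpowers d := by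
      haveI : (zpowers d).Normal :=
        PGroup.zpowers_normal_of_mem_center (mem_center_iff.2 hdc)
      exact commutator_le_of_gen hgen (mem_zpowers d)
    obtain ⟨i, hi⟩ := mem_zpowers_iff.1 (this hcD)
    rw [← hi, ← (Commute.refl d).mul_zpow, hd2, one_zpow]
  refine ⟨c, fun e => hcs (e ▸ one_mem _), hc2, hccen, ?_, ?_⟩
  · rw [hΦ]
    refine le_antisymm (fun d hd => ?_) (zpowers_le.2 hcD)
    obtain ⟨i, rfl⟩ := hDz d hd
    exact zpow_mem (mem_zpowers c) i
  · intro g hg
    obtain ⟨i, ⟨t, rfl⟩, e⟩ := hmain g hg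
    rw [← pow_two, ← e, zpow_add, two_mul, zpow_add, ← (Commute.refl c).mul_zpow, hc2, one_zpow,
      one_mul, zpow_one]

end Fpf

end Cfsg.Agent.BicyclicFusion
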