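import Cfsg.Agent.Lib.BicyclicFusion.Derived
import Cfsg.Agent.Lib.BicyclicFusion.TStructure
import Cfsg.Agent.Lib.BicyclicFusion.Local

/-!
# The setting at an essential subgroup of a bicyclic 2-group with noncyclic derived group

`Cx G` bundles an essential subgroup `E`, an automorphism `θ` of order three of `E` and `w`
inverting it; `T = [E, θ]` and `C = C_E(θ)`.
-/

set_option autoImplicit false
set_option linter.style.haveILetI false
set_option linter.unusedSectionVars false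

namespace Cfsg.Agent.BicyclicFusion

open Subgroup
open scoped commutatorElement

/-- The image of the Frattini subgroup of a 2-group lies in the Frattini subgroup. -/
theorem map_frattini_le {X Y : Type*} [Group X] [Finite X] [Group Y] [Finite Y] (hX : IsPGroup 2 X)
    (hY : IsPGroup 2 Y) (f : X →* Y) : (frattini X).map f ≤ frattini Y := by
  haveI : Fact (Nat.Prime 2) := ⟨Nat.prime_two⟩
  rw [map_le_iff_le_comap, PGroup.frattini_eq hX]
  refine sup_le ?_ ((closure_le _).2 ?_)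
  · rw [_root_.commutator_def, commutator_le]
    intro a _ b _
    rw [mem_comap, map_commutatorElement]
    exact PGroup.commutatorElement_mem_frattini hY _ _
  · rintro _ ⟨a, rfl⟩
    show f (a ^ 2) ∈ frattini Y
    rw [map_pow]
    exact PGroup.pow_mem_frattini hY _

/-- In a finite group an element conjugating a subgroup into itself normalises it. -/
theorem mem_normalizer_of_conj {Y : Type*} [Group Y] [Finite Y] {H : Subgroup Y} {g : Y}
    (hg : ∀ x ∈ H, g * x * g⁻¹ ∈ H) : g ∈ normalizer (H : Set Y) := by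
  refine mem_normalizer_iff.2 fun x => ⟨hg x, fun hx => ?_⟩
  have hsurj : Function.Surjective (fun y : H => (⟨g * y * g⁻¹, hg y y.2⟩ : H)) :=
    Finite.surjective_of_injective fun a b e => Subtype.ext (by
      simpa using congrArg Subtype.val e)
  obtain ⟨y, hy⟩ := hsurj ⟨g * x * g⁻¹, hx⟩
  have : (y : Y) = x := by simpa using congrArg Subtype.val hy
  exact this ▸ y.2

namespace Hyp

variable {G : Type*} [Group G] [Finite G] (hy : Hyp G)
include hy

theorem index_frattini_le_four : (frattini G).index ≤ 4 := by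
  obtain ⟨B⟩ := hy.basis
  have hsurj : Function.Surjective
      (fun i : Fin 4 => (QuotientGroup.mk (![1, B.a, B.b, B.a * B.b] i) : G ⧸ frattini G)) := by
    intro q
    obtain ⟨g, rfl⟩ := QuotientGroup.mk_surjective q
    rcases B.cases hy.pg g with h | h | h | h
    · exact ⟨0, QuotientGroup.eq.2 (by simpa using h)⟩
    · exact ⟨1, QuotientGroup.eq.2 h⟩
    · exact ⟨2, QuotientGroup.eq.2 h⟩
    · exact ⟨3, QuotientGroup.eq.2 h⟩
  rw [index_eq_card]
  exact (Nat.card_le_card_of_surjective _ hsurj).trans (by simp)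

/-- Two elements in different nontrivial cosets of the Frattini subgroup generate. -/
theorem gen_pair {u v : G} (hu : u ∉ frattini G) (hv : v ∉ frattini G)
    (huv : u⁻¹ * v ∉ frattini G) : closure {u, v} = ⊤ := by
  haveI : Fact (Nat.Prime 2) := ⟨Nat.prime_two⟩
  refine frattini_nongenerating ?_
  set K := closure {u, v} ⊔ frattini G
  have h1 : frattini G < zpowers u ⊔ frattini G :=
    lt_of_le_of_ne le_sup_right fun e => hu (e ▸ mem_sup_left (mem_zpowers u))
  have h2 : zpowers u ⊔ frattini G < K := by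
    refine lt_of_le_of_ne (sup_le_sup_right (zpowers_le.2 (subset_closure (by simp))) _) fun e => ?_
    have hm : v ∈ zpowers u ⊔ frattini G := e ▸ mem_sup_left (subset_closure (by simp))
    rw [← SetLike.mem_coe, mul_normal] at hm
    obtain ⟨x, hx, f, hf, e2⟩ := hm
    obtain ⟨i, rfl⟩ := mem_zpowers_iff.1 hx
    rcases Int.even_or_odd' i with ⟨j, rfl | rfl⟩
    · exact hv (by
        rw [← e2]; exact mul_mem (zpow_even_mem_frattini hy.pg u (even_two_mul j)) hf)
    · refine huv ?_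
      rw [← e2]
      have : u⁻¹ * (u ^ (2 * j + 1) * f) = u ^ (2 * j) * f := by group
      rw [this]
      exact mul_mem (zpow_even_mem_frattini hy.pg u (even_two_mul j)) hf
  have k1 := PGroup.mul_card_le_of_lt hy.pg h1
  have k2 := PGroup.mul_card_le_of_lt hy.pg h2
  have k3 := (frattini G).card_mul_index
  have k4 := hy.index_frattini_le_four
  refine eq_top_of_le_card _ ?_
  rw [← k3]
  nlinarith

/-- A proper subgroup meets at most one nontrivial coset of the Frattini subgroup. -/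
theorem same_coset {K : Subgroup G} (hK : K ≠ ⊤) {u v : G} (hu : u ∈ K) (hv : v ∈ K)
    (hu' : u ∉ frattini G) (hv' : v ∉ frattini G) : u⁻¹ * v ∈ frattini G := by
  by_contra h
  refine hK (top_le_iff.1 (hy.gen_pair hu' hv' h ▸ (closure_le _).2 ?_))
  rintro x (rfl | rfl) <;> assumption

/-- Frattini index at most eight and metacyclic Frattini subgroup, for groups embedded properly. -/
theorem of_injective {X : Type*} [Group X] [Finite X] (f : X →* G) (hf : Function.Injective f)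
    (hne : f.range ≠ ⊤) :
    (frattini X).index ≤ 8 ∧ Cfsg.IsMetacyclic ↥(frattini X) := by
  haveI : Fact (Nat.Prime 2) := ⟨Nat.prime_two⟩
  have hX : IsPGroup 2 X := hy.pg.of_injective f hf
  have hmeta : ∀ (K : Subgroup X), K ≤ (frattini G).comap f → Cfsg.IsMetacyclic K := by
    intro K hK
    obtain ⟨B⟩ := hy.basis
    exact RankTwo.isMetacyclic_of_injective
      ((f.comp K.subtype).codRestrict (frattini G) fun k => hK k.2)
      (fun a b e => Subtype.ext (hf (congrArg Subtype.val e))) B.meta_frattini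
  refine ⟨?_, hmeta _ (map_le_iff_le_comap.1 (map_frattini_le hX hy.pg f))⟩
  set N := (frattini G).comap f with hN
  have hN2 : N.index ≤ 2 := by
    by_cases hall : ∀ x, x ∈ N
    · rw [show N = ⊤ from eq_top_iff.2 fun x _ => hall x, index_top]; norm_num
    push Not at hall
    obtain ⟨u, hu⟩ := hall
    have hsurj : Function.Surjective
        (fun i : Fin 2 => (QuotientGroup.mk (![1, u] i) : X ⧸ N)) := by
      intro q
      obtain ⟨x, rfl⟩ := QuotientGroup.mk_surjective q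
      by_cases hx : x ∈ N
      · exact ⟨0, QuotientGroup.eq.2 (by simpa using hx)⟩
      · refine ⟨1, QuotientGroup.eq.2 ?_⟩
        show u⁻¹ * x ∈ N
        rw [hN, mem_comap, map_mul, map_inv]
        exact hy.same_coset hne ⟨u, rfl⟩ ⟨x, rfl⟩ hu hx
    rw [index_eq_card]
    exact (Nat.card_le_card_of_surjective _ hsurj).trans (by simp)
  have h4 := RankTwo.index_frattini_le (hX.to_subgroup N) (hmeta N le_rfl)
  have hle := Subgroup.card_le_of_le (map_frattini_le (hX.to_subgroup N) hX N.subtype)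
  rw [card_map_of_injective N.subtype_injective] at hle
  refine Nat.le_of_mul_le_mul_left ?_ (Nat.card_pos (α := frattini X))
  rw [(frattini X).card_mul_index, ← N.card_mul_index, ← (frattini N).card_mul_index]
  calc Nat.card (frattini N) * (frattini N).index * N.index
      ≤ Nat.card (frattini X) * 2 ^ 2 * 2 := Nat.mul_le_mul (Nat.mul_le_mul hle h4) hN2
    _ = Nat.card (frattini X) * 8 := by ring

end Hyp

/-- An essential subgroup with an automorphism of order three inverted in the normaliser. -/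
structure Cx (G : Type*) [Group G] where
  hy : Hyp G
  E : Subgroup G
  D : Ess E
  w : G
  hw : w ∈ normalizer (E : Set G)
  θ : MulAut E
  w_notMem : w ∉ E
  w_sq : w * w ∈ E
  θ_mem : θ ∈ D.A
  cube : θ ^ 3 = 1
  θ_ne : θ ≠ 1
  inverted : cj hw * θ * (cj hw)⁻¹ = θ⁻¹

namespace Cx

variable {G : Type*} [Group G] [Finite G] (X : Cx G)

theorem pgE : IsPGroup 2 X.E := X.hy.pg.to_subgroup _

theorem finite_aut : Finite (MulAut X.E) :=
  Finite.of_injective (fun α : MulAut X.E => (α : X.E → X.E)) DFunLike.coe_injective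

theorem θ3 (x : X.E) : X.θ (X.θ (X.θ x)) = x := DFunLike.congr_fun X.cube x

/-- Conjugation by `w`. -/
def ω : MulAut X.E := cj X.hw

theorem coe_ω (x : X.E) : ((X.ω x : X.E) : G) = X.w * x * X.w⁻¹ := rfl

theorem ω_θ (x : X.E) : X.ω (X.θ x) = X.θ (X.θ (X.ω x)) := by
  have h : X.ω * X.θ = X.θ⁻¹ * X.ω := mul_inv_eq_iff_eq_mul.1 X.inverted
  have h2 : X.θ⁻¹ = X.θ * X.θ := inv_eq_of_mul_eq_one_right (by
    rw [← pow_two, ← pow_succ', X.cube])
  rw [h2] at h
  exact DFunLike.congr_fun h x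

theorem θ_ω (x : X.E) : X.θ (X.ω x) = X.ω (X.θ (X.θ x)) := by
  rw [X.ω_θ, X.ω_θ, X.θ3]

/-- `w * w` as an element of `E`. -/
def e2 : X.E := ⟨X.w * X.w, X.w_sq⟩

theorem ω_ω (x : X.E) : X.ω (X.ω x) = X.e2 * x * X.e2⁻¹ := by
  apply Subtype.ext
  simp only [coe_ω, e2, Subgroup.coe_mul, Subgroup.coe_inv]
  group

theorem central_e2 : X.e2⁻¹ * X.θ X.e2 ∈ center X.E := by
  rw [mem_center_iff]
  intro x
  have h := congrArg X.θ (X.ω_ω (X.θ (X.θ x)))
  rw [map_mul, map_mul, map_inv, X.θ3, X.ω_θ (X.θ x), X.ω_θ x, X.θ3, X.ω_θ, X.θ3, X.ω_ω] at h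
  calc x * (X.e2⁻¹ * X.θ X.e2) = X.e2⁻¹ * (X.e2 * x * X.e2⁻¹) * X.θ X.e2 := by group
    _ = X.e2⁻¹ * (X.θ X.e2 * x * (X.θ X.e2)⁻¹) * X.θ X.e2 := by rw [h]
    _ = X.e2⁻¹ * X.θ X.e2 * x := by group

/-- `T = [E, θ]`. -/
def T : Subgroup X.E := closure (Set.range fun x : X.E => x⁻¹ * X.θ x)

/-- `C = C_E(θ)`. -/
def C : Subgroup X.E := fixed X.θ

theorem mem_C {x : X.E} : x ∈ X.C ↔ X.θ x = x := Iff.rfl

theorem comm_mem_T (x : X.E) : x⁻¹ * X.θ x ∈ X.T := subset_closure ⟨x, rfl⟩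

theorem map_T_of_mem (α : X.E →* X.E) (hα : ∀ x, α (x⁻¹ * X.θ x) ∈ X.T) {t : X.E} (ht : t ∈ X.T) :
    α t ∈ X.T := by
  have : X.T ≤ X.T.comap α := (closure_le _).2 (by rintro _ ⟨x, rfl⟩; exact hα x)
  exact this ht

theorem θ_T {t : X.E} (ht : t ∈ X.T) : X.θ t ∈ X.T :=
  X.map_T_of_mem X.θ.toMonoidHom (fun x => by
    show X.θ (x⁻¹ * X.θ x) ∈ X.T
    rw [map_mul, map_inv]; exact X.comm_mem_T (X.θ x)) ht

theorem ω_T {t : X.E} (ht : t ∈ X.T) : X.ω t ∈ X.T :=
  X.map_T_of_mem X.ω.toMonoidHom (fun x => by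
    show X.ω (x⁻¹ * X.θ x) ∈ X.T
    have h := inv_mem (X.comm_mem_T (X.θ (X.θ (X.ω x))))
    rw [X.θ3, mul_inv_rev, inv_inv, ← X.ω_θ, ← map_inv, ← map_mul] at h
    exact h) ht

theorem T_normal : X.T.Normal := by
  refine ⟨fun t ht z => X.map_T_of_mem (MulAut.conj z).toMonoidHom (fun x => ?_) ht⟩
  show z * (x⁻¹ * X.θ x) * z⁻¹ ∈ X.T
  have : z * (x⁻¹ * X.θ x) * z⁻¹ =
      ((x * z⁻¹)⁻¹ * X.θ (x * z⁻¹)) * ((z⁻¹)⁻¹ * X.θ z⁻¹)⁻¹ := by
    rw [map_mul]; group
  rw [this]
  exact mul_mem (X.comm_mem_T _) (inv_mem (X.comm_mem_T _))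

theorem ω_C {c : X.E} (hc : c ∈ X.C) : X.ω c ∈ X.C := by
  rw [mem_C, X.θ_ω, X.mem_C.1 hc, X.mem_C.1 hc]

theorem decomp (x : X.E) : ∃ c ∈ X.C, ∃ t ∈ X.T, x = c * t := by
  haveI : Fact (Nat.Prime 3) := ⟨Nat.prime_three⟩
  obtain ⟨n, hn, hfix⟩ := exists_fixed_mul X.pgE (by norm_num) X.cube (fun _ h => X.θ_T h)
    (X.comm_mem_T x)
  exact ⟨x * n, hfix, n⁻¹, inv_mem hn, by group⟩

/-- The restriction of `θ` to `T`. -/
def θT : MulAut X.T :=
  { toFun := fun t => ⟨X.θ (t : X.E), X.θ_T t.2⟩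
    invFun := fun t => ⟨X.θ (X.θ (t : X.E)), X.θ_T (X.θ_T t.2)⟩
    left_inv := fun t => Subtype.ext (X.θ3 (t : X.E))
    right_inv := fun t => Subtype.ext (X.θ3 (t : X.E))
    map_mul' := fun a b => Subtype.ext (map_mul X.θ (a : X.E) (b : X.E)) }

theorem coe_θT (t : X.T) : ((X.θT t : X.T) : X.E) = X.θ (t : X.E) := rfl

/-- The inclusion of `T` into `G`. -/
def ι : X.T →* G := X.E.subtype.comp X.T.subtype

theorem ι_injective : Function.Injective X.ι := fun a b h => Subtype.ext (Subtype.ext h)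

theorem T_ne_bot : X.T ≠ ⊥ := by
  intro h
  refine X.θ_ne (MulEquiv.ext fun x => ?_)
  have := X.comm_mem_T x
  rw [h, mem_bot, inv_mul_eq_one] at this
  exact this.symm

theorem fpf : Fpf X.θT := by
  haveI : Fact (Nat.Prime 2) := ⟨Nat.prime_two⟩
  have hT : IsPGroup 2 X.T := X.pgE.to_subgroup _
  have hne : X.ι.range ≠ ⊤ := by
    intro h
    refine X.D.ne_top (eq_top_iff.2 fun g _ => ?_)
    obtain ⟨t, rfl⟩ : g ∈ X.ι.range := h ▸ mem_top g
    exact (t : X.E).2
  obtain ⟨h8, hm⟩ := X.hy.of_injective X.ι X.ι_injective hne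
  refine ⟨hT, MulEquiv.ext fun t => Subtype.ext (X.θ3 (t : X.E)), ?_,
    X.T.nontrivial_iff_ne_bot.2 X.T_ne_bot, h8, hm⟩
  -- `v ↦ v⁻¹ θ v` is a surjective endomorphism of `T / Φ(T)`
  intro x hx
  set V := X.T ⧸ frattini X.T
  let q := QuotientGroup.mk' (frattini X.T)
  have hVc : ∀ a b : V, a * b = b * a := fun a b => BurnsideBasis.quotient_mul_comm hT a b
  let δ : X.T →* V :=
    { toFun := fun t => q (t⁻¹ * X.θT t)
      map_one' := by simp
      map_mul' := fun a b => by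
        simp only [map_mul, map_inv, mul_inv_rev]
        rw [hVc (q b)⁻¹ (q a)⁻¹, mul_assoc, ← mul_assoc (q b)⁻¹, hVc (q b)⁻¹ (q (X.θT a))]
        simp only [mul_assoc] }
  have hker : frattini X.T ≤ δ.ker := fun t ht =>
    (QuotientGroup.eq_one_iff _).2 (mul_mem (inv_mem ht) (map_frattini_mem X.θT ht))
  let δ' : V →* V := QuotientGroup.lift (frattini X.T) δ hker
  have hsurj : Function.Surjective δ' := by
    intro v
    obtain ⟨⟨t, ht⟩, rfl⟩ := QuotientGroup.mk'_surjective _ v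
    show q ⟨t, ht⟩ ∈ δ'.range
    suffices key : ∀ t (ht : t ∈ X.T), q ⟨t, ht⟩ ∈ δ'.range from key t ht
    intro t ht
    induction ht using closure_induction with
    | mem y hy =>
      obtain ⟨x, rfl⟩ := hy
      obtain ⟨c, hc, n, hn, rfl⟩ := X.decomp x
      refine ⟨q ⟨n, hn⟩, ?_⟩
      show q (⟨n, hn⟩⁻¹ * X.θT ⟨n, hn⟩) = _
      refine congrArg q (Subtype.ext ?_)
      show n⁻¹ * X.θ n = (c * n)⁻¹ * X.θ (c * n)
      rw [map_mul, X.mem_C.1 hc]; group
    | one => exact one_mem _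
    | mul a b ha hb iha ihb =>
      have : q ⟨a * b, mul_mem ha hb⟩ = q ⟨a, ha⟩ * q ⟨b, hb⟩ := (map_mul q ⟨a, ha⟩ ⟨b, hb⟩)
      rw [this]; exact mul_mem iha ihb
    | inv a ha iha =>
      have : q ⟨a⁻¹, inv_mem ha⟩ = (q ⟨a, ha⟩)⁻¹ := map_inv q ⟨a, ha⟩
      rw [this]; exact inv_mem iha
  have hinj : Function.Injective δ' := Finite.injective_iff_surjective.2 hsurj
  refine (QuotientGroup.eq_one_iff x).1 (hinj (a₁ := q x) (a₂ := 1) ?_)
  rw [map_one]
  exact (QuotientGroup.eq_one_iff _).2 hx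

theorem fixed_mem_frattini {t : X.T} (h : (t : X.E) ∈ X.C) : t ∈ frattini X.T :=
  X.fpf.fpf t (by
    have : X.θT t = t := Subtype.ext (X.mem_C.1 h)
    rw [this, inv_mul_cancel]; exact one_mem _)

theorem fixed_eq_one {k : ℕ} (hk : Homo X.T k) {t : X.E} (ht : t ∈ X.T) (hc : t ∈ X.C) : t = 1 := by
  have h := X.fpf.mem_commutator_of_fixed (a := ⟨t, ht⟩) (by
    have : X.θT ⟨t, ht⟩ = ⟨t, ht⟩ := Subtype.ext (X.mem_C.1 hc)
    rw [this, inv_mul_cancel]; exact one_mem _)
  have hD : _root_.commutator X.T = ⊥ := by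
    rw [eq_bot_iff, _root_.commutator_def, commutator_le]
    intro a _ b _
    rw [mem_bot, commutatorElement_eq_one_iff_mul_comm]; exact hk.comm a b
  rw [hD, mem_bot] at h
  exact congrArg Subtype.val h

theorem gen_wE {v : G} (hv : v ∈ X.E) (hv' : v ∉ frattini G)
    (hmiss : ∀ e ∈ X.E, X.w * e ∉ frattini G) : closure {v, X.w} = ⊤ := by
  have hw : X.w ∉ frattini G := by simpa using hmiss 1 (one_mem _)
  refine X.hy.gen_pair hv' hw fun h => hmiss v⁻¹ (inv_mem hv) ?_
  have : X.w * v⁻¹ = v * (v⁻¹ * X.w) * v⁻¹ := by group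
  rw [this]
  exact (inferInstance : (frattini G).Normal).conj_mem _ h v

end Cx

end Cfsg.Agent.BicyclicFusion
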