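import Cfsg.Agent.Lib.BicyclicFusion.CyclicExt
import Cfsg.Agent.Lib.BicyclicFusion.Setup
import Cfsg.Agent.Lib.Fusion.Realized
import Cfsg.Agent.Lib.FusionMetaTwo.Systems

/-!
# Realising a system that is not the inner one

`SData` describes a 2-group `⟨c, b⟩⟨a⟩` with `b` inverting `c`; `LData` a finite group `L` with a
Sylow 2-subgroup of type `⟨c, b⟩`, an automorphism `θ` acting on it like `a`, and an element taking a
power of `c` to `b`. The extension of `L` by `θ` realises a system that is not the inner one.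
-/

set_option autoImplicit false
set_option linter.style.haveILetI false
set_option linter.unusedSectionVars false
set_option linter.unusedSimpArgs false

namespace Cfsg.Agent.BicyclicFusion.Realize

open Subgroup

/-- The relations of `⟨c, b⟩`. -/
structure Rel {G : Type*} [Group G] (c b : G) (n : ℕ) (e : ℤ) : Prop where
  ord : orderOf c = 2 ^ n
  inv : b * c * b⁻¹ = c⁻¹
  nmem : b ∉ zpowers c
  sq : b * b = c ^ e

namespace Rel

variable {G : Type*} [Group G] {c b : G} {n : ℕ} {e : ℤ} (h : Rel c b n e)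
include h

theorem swap (i : ℤ) : b * c ^ i = c ^ (-i) * b := by
  rw [← mul_inv_eq_iff_eq_mul, ← conj_zpow, h.inv, inv_zpow, zpow_neg]

theorem cases {x : G} (hx : x ∈ closure {c, b}) :
    ∃ i : ℤ, x = c ^ i ∨ x = c ^ i * b := by
  induction hx using closure_induction with
  | mem x hx =>
    rcases hx with rfl | rfl
    · exact ⟨1, Or.inl (zpow_one _).symm⟩
    · exact ⟨0, Or.inr (by simp)⟩
  | one => exact ⟨0, Or.inl (by simp)⟩
  | mul x y _ _ hx hy =>
    obtain ⟨i, hx⟩ := hx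
    obtain ⟨j, hy⟩ := hy
    rcases hx with rfl | rfl <;> rcases hy with rfl | rfl
    · exact ⟨i + j, Or.inl (zpow_add _ _ _).symm⟩
    · exact ⟨i + j, Or.inr (by rw [zpow_add, mul_assoc])⟩
    · exact ⟨i + -j, Or.inr (by rw [mul_assoc, h.swap, zpow_add, mul_assoc])⟩
    · exact ⟨i + -j + e, Or.inl (by
        rw [mul_assoc (c ^ i), ← mul_assoc b, h.swap, mul_assoc _ b b, h.sq, zpow_add, zpow_add,
          mul_assoc])⟩
  | inv x _ hx =>
    obtain ⟨i, rfl | rfl⟩ := hx
    · exact ⟨-i, Or.inl (zpow_neg _ _).symm⟩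
    · refine ⟨i - e, Or.inr (inv_eq_of_mul_eq_one_left ?_)⟩
      rw [mul_assoc, ← mul_assoc b, h.swap, mul_assoc _ b b, h.sq, ← zpow_add, ← zpow_add,
        show i - e + (-i + e) = 0 by ring, zpow_zero]

theorem zpow_eq_one_iff {G' : Type*} [Group G'] {c' : G'} (h' : orderOf c' = 2 ^ n) (i : ℤ) :
    c ^ i = 1 ↔ c' ^ i = 1 := by
  rw [← orderOf_dvd_iff_zpow_eq_one, ← orderOf_dvd_iff_zpow_eq_one, h.ord, h']

theorem zpow_mul_ne_one (i : ℤ) : c ^ i * b ≠ 1 := fun h' =>
  h.nmem ((inv_eq_of_mul_eq_one_right h') ▸ inv_mem (zpow_mem (mem_zpowers c) i))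

theorem prod {L : Type*} [Group L] {C B : L} (h' : Rel C B n e) : Rel (c, C) (b, B) n e where
  ord := by rw [Prod.orderOf, h.ord, h'.ord, Nat.lcm_self]
  inv := Prod.ext h.inv h'.inv
  nmem hm := by
    obtain ⟨i, hi⟩ := mem_zpowers_iff.1 hm
    exact h.nmem ⟨i, congrArg Prod.fst hi⟩
  sq := Prod.ext h.sq h'.sq

theorem eq_one_iff {L : Type*} [Group L] {C B : L} (h' : Rel C B n e) {x : G × L}
    (hx : x ∈ closure {(c, C), (b, B)}) : x.1 = 1 ↔ x.2 = 1 := by
  obtain ⟨i, rfl | rfl⟩ := (h.prod h').cases hx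
  · exact h.zpow_eq_one_iff h'.ord i
  · exact ⟨fun e1 => (h.zpow_mul_ne_one i e1).elim, fun e2 => (h'.zpow_mul_ne_one i e2).elim⟩

theorem map {X : Type*} [Group X] (f : G →* X) (hf : Function.Injective f) :
    Rel (f c) (f b) n e where
  ord := by rw [orderOf_injective f hf, h.ord]
  inv := by rw [← map_inv, ← map_mul, ← map_mul, h.inv, map_inv]
  nmem hm := by
    obtain ⟨i, hi⟩ := mem_zpowers_iff.1 hm
    rw [← map_zpow] at hi
    exact h.nmem ⟨i, hf hi⟩
  sq := by rw [← map_mul, h.sq, map_zpow]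

end Rel

/-- The data of the 2-group. -/
structure SData (G : Type*) [Group G] (n r : ℕ) (e ρ l : ℤ) where
  a : G
  b : G
  c : G
  rel : Rel c b n e
  conj_c : a * c * a⁻¹ = c ^ ρ
  conj_b : a * b * a⁻¹ = c * b
  a_pow : a ^ (2 ^ r) = c ^ (2 * l)
  a_mem : ∀ i : ℤ, a ^ i ∈ closure {c, b} → ((2 : ℤ) ^ r) ∣ i
  gen : closure {a, b} = ⊤

/-- The data of the model of `⟨c, b⟩`. -/
structure LData (L : Type*) [Group L] (n r : ℕ) (e ρ l : ℤ) where
  C : L
  B : L
  θ : MulAut L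
  rel : Rel C B n e
  θC : θ C = C ^ ρ
  θB : θ B = C * B
  θpow : θ ^ (2 ^ r) = MulAut.conj (C ^ (2 * l))
  card : ∃ u, Odd u ∧ Nat.card L = 2 ^ (n + 1) * u
  witness : ∃ (P : L) (i : ℤ), P * C ^ i * P⁻¹ = B

namespace SData

variable {G : Type*} [Group G] {n r : ℕ} {e ρ l : ℤ} (d : SData G n r e ρ l)
include d

theorem zpowers_normal [Finite G] : (zpowers d.c).Normal := by
  refine normalizer_eq_top_iff.1 (eq_top_iff.2 (d.gen ▸ (closure_le _).2 ?_))
  rintro g (rfl | rfl) <;> refine mem_normalizer_of_conj fun x hx => ?_ <;>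
    obtain ⟨i, rfl⟩ := mem_zpowers_iff.1 hx <;> rw [← conj_zpow]
  · rw [d.conj_c]; exact zpow_mem (zpow_mem (mem_zpowers _) _) _
  · rw [d.rel.inv]; exact zpow_mem (inv_mem (mem_zpowers _)) _

theorem card_le [Finite G] : 2 ^ n * 2 * 2 ^ r ≤ Nat.card G := by
  have h : Function.Injective (fun p : Fin (2 ^ n) × Fin 2 × Fin (2 ^ r) =>
      d.c ^ (p.1 : ℕ) * d.b ^ (p.2.1 : ℕ) * d.a ^ (p.2.2 : ℕ)) := by
    rintro ⟨i, u, j⟩ ⟨i', u', j'⟩ hh
    have hD : ∀ (i : Fin (2 ^ n)) (u : Fin 2), d.c ^ (i : ℕ) * d.b ^ (u : ℕ) ∈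
        closure {d.c, d.b} := fun i u => mul_mem (pow_mem (subset_closure (by simp)) _)
      (pow_mem (subset_closure (by simp)) _)
    have hj : j = j' := by
      have hmem : d.a ^ ((j : ℤ) - (j' : ℤ)) ∈ closure {d.c, d.b} := by
        rw [zpow_sub, zpow_natCast, zpow_natCast, show d.a ^ (j : ℕ) * (d.a ^ (j' : ℕ))⁻¹ =
          (d.c ^ (i : ℕ) * d.b ^ (u : ℕ))⁻¹ * (d.c ^ (i' : ℕ) * d.b ^ (u' : ℕ)) by
            rw [eq_inv_mul_iff_mul_eq, ← mul_assoc, mul_inv_eq_iff_eq_mul]; exact hh]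
        exact mul_mem (inv_mem (hD i u)) (hD i' u')
      have h1 := Int.eq_zero_of_abs_lt_dvd (d.a_mem _ hmem) (by
        have h1 : ((j : ℕ) : ℤ) < 2 ^ r := by exact_mod_cast j.2
        have h2 : ((j' : ℕ) : ℤ) < 2 ^ r := by exact_mod_cast j'.2
        rw [abs_lt]; omega)
      exact Fin.ext (by omega)
    subst hj
    have hh' := mul_right_cancel hh
    have hpow : ∀ {i i' : Fin (2 ^ n)}, d.c ^ (i : ℕ) = d.c ^ (i' : ℕ) → i = i' := fun h =>
      Fin.ext (pow_injOn_Iio_orderOf (by rw [Set.mem_Iio, d.rel.ord]; exact Fin.isLt _)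
        (by rw [Set.mem_Iio, d.rel.ord]; exact Fin.isLt _) h)
    fin_cases u <;> fin_cases u'
    · simp only [Fin.isValue, Fin.val_zero, pow_zero, mul_one] at hh' ⊢
      rw [hpow hh']
    · simp only [Fin.isValue, Fin.val_zero, Fin.val_one, pow_zero, pow_one, mul_one] at hh' ⊢
      refine (d.rel.nmem ?_).elim
      rw [eq_inv_mul_iff_mul_eq.2 hh'.symm]
      exact mul_mem (inv_mem (pow_mem (mem_zpowers _) _)) (pow_mem (mem_zpowers _) _)
    · simp only [Fin.isValue, Fin.val_zero, Fin.val_one, pow_zero, pow_one, mul_one] at hh' ⊢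
      refine (d.rel.nmem ?_).elim
      rw [eq_inv_mul_iff_mul_eq.2 hh']
      exact mul_mem (inv_mem (pow_mem (mem_zpowers _) _)) (pow_mem (mem_zpowers _) _)
    · simp only [Fin.isValue, Fin.val_one, pow_one, mul_left_inj] at hh' ⊢
      rw [hpow hh']
  simpa [mul_assoc] using Nat.card_le_card_of_injective _ h

/-- The embedding into the extension. -/
theorem exists_emb [Finite G] (hG : IsPGroup 2 G) {L : Type*} [Group L] [Finite L]
    (m : LData L n r e ρ l) :
    ∃ (D : CyclicExt.Datum L) (ι : G →* D.Ext), Finite D.Ext ∧ Function.Injective ι ∧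
      ι d.c = D.emb m.C ∧ ι d.b = D.emb m.B ∧
      ∃ T : Sylow 2 D.Ext, (T : Subgroup D.Ext) = ι.range := by
  haveI : Fact (Nat.Prime 2) := ⟨Nat.prime_two⟩
  have hfix : m.θ (m.C ^ (2 * l)) = m.C ^ (2 * l) := by
    have h1 : d.c ^ (ρ * (2 * l)) = d.c ^ (2 * l) := by
      rw [zpow_mul, ← d.conj_c, conj_zpow, ← d.a_pow, (Commute.self_pow d.a _).eq,
        mul_inv_cancel_right]
    rw [map_zpow, m.θC, ← zpow_mul]
    rw [zpow_eq_zpow_iff_modEq, d.rel.ord] at h1
    rw [zpow_eq_zpow_iff_modEq, m.rel.ord]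
    exact h1
  let D : CyclicExt.Datum L :=
    { θ := m.θ
      g := m.C ^ (2 * l)
      m := 2 ^ r
      pos := pow_pos two_pos r
      fix := hfix
      conj := m.θpow }
  have hfin : Finite D.Ext := D.finite_ext
  set cX : G × D.Ext := (d.c, D.emb m.C) with hcX
  set bX : G × D.Ext := (d.b, D.emb m.B) with hbX
  set aX : G × D.Ext := (d.a, D.t) with haX
  have hrelX : Rel (D.emb m.C) (D.emb m.B) n e := m.rel.map D.emb D.emb_injective
  set K : Subgroup (G × D.Ext) := closure {cX, bX} with hK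
  have hKc : ∀ i : ℤ, cX ^ i ∈ K := fun i => zpow_mem (subset_closure (by simp)) i
  have hnorm : aX ∈ normalizer (K : Set (G × D.Ext)) := by
    refine mem_normalizer_of_conj fun x hx => ?_
    have hle : K ≤ K.comap (MulAut.conj aX).toMonoidHom := by
      rw [hK, closure_le]
      rintro z (rfl | rfl)
      · show aX * cX * aX⁻¹ ∈ K
        have : aX * cX * aX⁻¹ = cX ^ ρ := by
          refine Prod.ext d.conj_c ?_
          show D.t * D.emb m.C * D.t⁻¹ = D.emb m.C ^ ρ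
          rw [D.t_conj, ← map_zpow]
          exact congrArg D.emb m.θC
        rw [this]
        exact hKc ρ
      · show aX * bX * aX⁻¹ ∈ K
        have : aX * bX * aX⁻¹ = cX * bX := by
          refine Prod.ext d.conj_b ?_
          show D.t * D.emb m.B * D.t⁻¹ = D.emb m.C * D.emb m.B
          rw [D.t_conj, ← map_mul]
          exact congrArg D.emb m.θB
        rw [this]
        exact mul_mem (subset_closure (by simp)) (subset_closure (by simp))
    exact hle hx
  set M : Subgroup (G × D.Ext) := K ⊔ zpowers aX with hM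
  have hform : ∀ x ∈ M, ∃ k ∈ K, ∃ i : ℤ, x = k * aX ^ i := by
    intro x hx
    rw [hM, ← SetLike.mem_coe, coe_mul_of_right_le_normalizer_left K (zpowers aX)
      (zpowers_le.2 hnorm)] at hx
    obtain ⟨k, hk, y, hy, rfl⟩ := hx
    obtain ⟨i, rfl⟩ := mem_zpowers_iff.1 hy
    exact ⟨k, hk, i, rfl⟩
  have hpowK : ∀ i : ℤ, ((2 : ℤ) ^ r) ∣ i → aX ^ i ∈ K := by
    rintro i ⟨j, rfl⟩
    rw [zpow_mul]
    refine zpow_mem ?_ _
    have : aX ^ ((2 : ℤ) ^ r) = cX ^ (2 * l) := by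
      rw [show ((2 : ℤ) ^ r) = ((2 ^ r : ℕ) : ℤ) by push_cast; rfl, zpow_natCast]
      refine Prod.ext d.a_pow ?_
      show D.t ^ (2 ^ r) = D.emb m.C ^ (2 * l)
      rw [← map_zpow]
      exact D.t_pow
    rw [this]
    exact hKc _
  have hKr : ∀ k ∈ K, k.1 ∈ closure {d.c, d.b} ∧ k.2 ∈ D.emb.range := by
    have : K ≤ (closure {d.c, d.b}).prod D.emb.range := by
      rw [hK, closure_le]
      rintro z (rfl | rfl)
      · exact ⟨subset_closure (Set.mem_insert _ _), m.C, rfl⟩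
      · exact ⟨subset_closure (Set.mem_insert_of_mem _ rfl), m.B, rfl⟩
    exact fun k hk => this hk
  have hiff : ∀ x ∈ M, x.1 = 1 ↔ x.2 = 1 := by
    intro x hx
    obtain ⟨k, hk, i, rfl⟩ := hform x hx
    obtain ⟨hk1, hk2⟩ := hKr k hk
    constructor <;> intro h1
    · have hi : (2 : ℤ) ^ r ∣ i := d.a_mem i (by
        have : d.a ^ i = k.1⁻¹ := eq_inv_of_mul_eq_one_right h1
        rw [this]; exact inv_mem hk1)
      exact (d.rel.eq_one_iff hrelX (mul_mem hk (hpowK i hi))).1 h1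
    · have hi : (2 : ℤ) ^ r ∣ i := by
        have : D.t ^ i = k.2⁻¹ := eq_inv_of_mul_eq_one_right h1
        have := D.t_zpow_mem (i := i) (this ▸ inv_mem hk2)
        exact_mod_cast this
      exact (d.rel.eq_one_iff hrelX (mul_mem hk (hpowK i hi))).2 h1
  let p : ↥M →* G := (MonoidHom.fst G D.Ext).comp M.subtype
  have hpinj : Function.Injective p := by
    refine (injective_iff_map_eq_one p).2 fun x hx => Subtype.ext (Prod.ext hx ?_)
    exact (hiff x x.2).1 hx
  have hpsurj : Function.Surjective p := by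
    refine MonoidHom.range_eq_top.1 (eq_top_iff.2 (d.gen ▸ (closure_le _).2 ?_))
    rintro z (rfl | rfl)
    · exact ⟨⟨aX, mem_sup_right (mem_zpowers _)⟩, rfl⟩
    · exact ⟨⟨bX, mem_sup_left (subset_closure (by simp))⟩, rfl⟩
  let eqv := MulEquiv.ofBijective p ⟨hpinj, hpsurj⟩
  let ι : G →* D.Ext := ((MonoidHom.snd G D.Ext).comp M.subtype).comp eqv.symm.toMonoidHom
  have hι : ∀ x : ↥M, ι (x : G × D.Ext).1 = (x : G × D.Ext).2 := fun x => by
    show ((eqv.symm (p x) : ↥M) : G × D.Ext).2 = _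
    rw [show eqv.symm (p x) = x from eqv.symm_apply_apply x]
  have hinj : Function.Injective ι := by
    refine (injective_iff_map_eq_one ι).2 fun g hg => ?_
    obtain ⟨x, rfl⟩ := hpsurj g
    exact (hiff x x.2).2 ((hι x).symm.trans hg)
  refine ⟨D, ι, hfin, hinj, hι ⟨cX, mem_sup_left (subset_closure (by simp))⟩,
    hι ⟨bX, mem_sup_left (subset_closure (by simp))⟩, ?_⟩
  have hc : Nat.card ι.range = Nat.card G := Nat.card_congr (MonoidHom.ofInjective hinj).symm.toEquiv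
  obtain ⟨u, hu, hL⟩ := m.card
  obtain ⟨k, hk⟩ := IsPGroup.iff_card.1 hG
  have hX : Nat.card D.Ext = 2 ^ (n + 1 + r) * u := by
    rw [D.card_ext, hL]; show 2 ^ (n + 1) * u * 2 ^ r = _; rw [pow_add]; ring
  have hge : n + 1 + r ≤ k := by
    have := d.card_le
    rw [hk, ← pow_succ, ← pow_add, Nat.pow_le_pow_iff_right (by norm_num)] at this
    exact this
  have hu' : ¬ 2 ∣ u := fun h => (Nat.not_even_iff_odd.2 hu) (even_iff_two_dvd.2 h)
  have hle : k ≤ n + 1 + r := by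
    have hdvd : 2 ^ k ∣ 2 ^ (n + 1 + r) * u := by
      rw [← hX, ← hk, ← hc]; exact card_subgroup_dvd_card _
    rw [← Nat.pow_dvd_pow_iff_le_right (x := 2) (by norm_num)]
    exact ((Nat.prime_two.coprime_iff_not_dvd.2 hu').pow_left k).dvd_of_dvd_mul_right hdvd
  refine ⟨Sylow.ofCard ι.range ?_, rfl⟩
  rw [hc, hk, hX, Nat.factorization_mul (by positivity) (by rintro rfl; simp at hu'),
    Finsupp.add_apply, Nat.Prime.factorization_pow Nat.prime_two,
    Nat.factorization_eq_zero_of_not_dvd hu', Finsupp.single_eq_same, Nat.add_zero,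
    le_antisymm hle hge]

end SData

/-- The system realised by the extension is not the inner one. -/
theorem exists_noninner {Ω : Type*} [Group Ω] {S : Subgroup Ω} [Finite S] (hS : IsPGroup 2 S)
    {n r : ℕ} {e ρ l : ℤ} (d : SData S n r e ρ l) {L : Type*} [Group L] [Finite L]
    (m : LData L n r e ρ l) :
    ∃ F : Cfsg.FusionSystem S, F.IsSaturated 2 ∧
      ¬ ∀ P : Subgroup Ω, F.Hom P = (Cfsg.innerFusionSystem S).Hom P := by
  haveI : Fact (Nat.Prime 2) := ⟨Nat.prime_two⟩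
  obtain ⟨D, ι, hfin, hinj, hc, hb, hT⟩ := d.exists_emb hS m
  refine ⟨FusionMetaTwo.realSys ι hinj,
    Fusion.isSaturated_of_realized (FusionMetaTwo.realSys_isRealizedBy ι hinj) hT, fun hall => ?_⟩
  obtain ⟨P, i, hP⟩ := m.witness
  set x : S := d.c ^ i with hx
  set R : Subgroup Ω := (zpowers x).map S.subtype with hR
  have hRS : R ≤ S := map_subtype_le _
  set h : R →* D.Ext := (MulAut.conj (D.emb P)).toMonoidHom.comp (ι.comp (inclusion hRS)) with hh
  have hhx : h ⟨(x : Ω), mem_map_of_mem S.subtype (mem_zpowers x)⟩ = ι d.b := by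
    show D.emb P * ι x * (D.emb P)⁻¹ = ι d.b
    rw [hb, hx, map_zpow, hc, ← map_zpow, ← map_inv, ← map_mul, ← map_mul, hP]
  have hrange : ∀ y : R, h y ∈ ι.range := by
    rintro ⟨_, y, hy, rfl⟩
    obtain ⟨k, rfl⟩ := mem_zpowers_iff.1 hy
    have : (⟨S.subtype (x ^ k), mem_map_of_mem _ hy⟩ : R) =
        ⟨(x : Ω), mem_map_of_mem S.subtype (mem_zpowers x)⟩ ^ k := Subtype.ext (by simp)
    rw [this, map_zpow, hhx]
    exact zpow_mem (⟨d.b, rfl⟩ : ι d.b ∈ ι.range) k
  let φS : R →* S := (MonoidHom.ofInjective hinj).symm.toMonoidHom.comp (h.codRestrict _ hrange)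
  have hφS : ∀ y : R, ι (φS y) = h y := fun y =>
    congrArg Subtype.val ((MonoidHom.ofInjective hinj).apply_symm_apply ⟨h y, hrange y⟩)
  have hmem : S.subtype.comp φS ∈ (FusionMetaTwo.realSys ι hinj).Hom R :=
    ⟨hRS, fun y => (φS y).2, D.emb P, fun y => hφS y⟩
  rw [hall R] at hmem
  obtain ⟨-, g, hg, hconj⟩ := hmem
  set xR : R := ⟨(x : Ω), mem_map_of_mem S.subtype (mem_zpowers x)⟩ with hxR
  have h1 : φS xR = d.b := hinj ((hφS xR).trans hhx)
  have h2 : φS xR = ⟨g, hg⟩ * x * ⟨g, hg⟩⁻¹ := Subtype.ext (hconj xR)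
  exact d.rel.nmem (h1 ▸ h2 ▸ d.zpowers_normal.conj_mem _ (zpow_mem (mem_zpowers _) i) _)

end Cfsg.Agent.BicyclicFusion.Realize
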