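import Cfsg.Agent.Lib.BicyclicFusion.CyclicData
import Cfsg.Agent.Lib.PSL2.Presentation
import Cfsg.Agent.Lib.PSL2.Basic
import Mathlib.RingTheory.ZMod.UnitsCyclic
import Mathlib.FieldTheory.Finite.GaloisField
import Mathlib.FieldTheory.Perfect

/-!
# Models in `SL₂(5^(2^j))` and `PSL₂(5^(2^j))`

The generalised quaternion, respectively dihedral, Sylow 2-subgroup `⟨C, B⟩`, twisted by a field
automorphism followed by a diagonal automorphism.
-/

set_option autoImplicit false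
set_option linter.style.haveILetI false
set_option linter.unusedSectionVars false
set_option linter.unusedSimpArgs false

namespace Cfsg.Agent.BicyclicFusion.Realize

open Subgroup
open scoped MatrixGroups
open Cfsg.Agent.PSL2.Pres (dg wM dg_coe wM_coe)

section arith

theorem five_pow_two_pow (j : ℕ) : ∃ u : ℕ, Odd u ∧ 5 ^ (2 ^ j) = 2 ^ (j + 2) * u + 1 := by
  induction j with
  | zero => exact ⟨1, odd_one, by norm_num⟩
  | succ j ih =>
    obtain ⟨u, hu, e⟩ := ih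
    refine ⟨u * (2 ^ (j + 1) * u + 1), hu.mul ?_, ?_⟩
    · exact ((Nat.even_pow.2 ⟨even_two, by omega⟩).mul_right u).add_one
    · rw [pow_succ 2 j, pow_mul, e]; ring

theorem exists_five_pow (j : ℕ) {ρ : ℤ} (hρ : (4 : ℤ) ∣ ρ - 1) :
    ∃ k : ℕ, (5 : ℤ) ^ k ≡ ρ [ZMOD 2 ^ (j + 2)] := by
  induction j with
  | zero => exact ⟨0, Int.modEq_iff_dvd.2 (by simpa using hρ)⟩
  | succ j ih =>
    obtain ⟨k, hk⟩ := ih
    obtain ⟨w, hw⟩ := Int.modEq_iff_dvd.1 hk
    rcases Int.even_or_odd' w with ⟨t, rfl | rfl⟩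
    · exact ⟨k, Int.modEq_iff_dvd.2 ⟨t, by rw [hw]; ring⟩⟩
    · obtain ⟨u, ⟨v, rfl⟩, e⟩ := five_pow_two_pow j
      obtain ⟨s, hs⟩ : Odd ((5 : ℤ) ^ k) := Odd.pow ⟨2, rfl⟩
      have e' : (5 : ℤ) ^ (2 ^ j : ℕ) = 2 ^ (j + 2) * (2 * (v : ℤ) + 1) + 1 := by exact_mod_cast e
      refine ⟨k + 2 ^ j, Int.modEq_iff_dvd.2 ⟨t - (2 * s * v + s + v), ?_⟩⟩
      rw [pow_add 5 k, e', hs]
      rw [hs] at hw
      linear_combination hw

end arith

section twist

variable {F : Type*} [Field F]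

/-- The field automorphism `σ` followed by the diagonal automorphism `x`. -/
def twHom (σ : RingAut F) (x : Fˣ) : SL(2, F) →* SL(2, F) where
  toFun A := ⟨!![σ (A.1 0 0), (x : F) * σ (A.1 0 1); ((x⁻¹ : Fˣ) : F) * σ (A.1 1 0), σ (A.1 1 1)],
    by
      have h : A.1 0 0 * A.1 1 1 - A.1 0 1 * A.1 1 0 = 1 := by
        rw [← Matrix.det_fin_two]; exact A.2
      rw [Matrix.det_fin_two_of]
      calc σ (A.1 0 0) * σ (A.1 1 1) - (x : F) * σ (A.1 0 1) * (((x⁻¹ : Fˣ) : F) * σ (A.1 1 0))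
          = σ (A.1 0 0) * σ (A.1 1 1) - ((x : F) * ((x⁻¹ : Fˣ) : F)) *
              (σ (A.1 0 1) * σ (A.1 1 0)) := by ring
        _ = σ (A.1 0 0 * A.1 1 1 - A.1 0 1 * A.1 1 0) := by
            rw [Units.mul_inv, one_mul, map_sub, map_mul, map_mul]
        _ = 1 := by rw [h, map_one]⟩
  map_one' := Subtype.ext (by ext i j; fin_cases i <;> fin_cases j <;> simp)
  map_mul' A B := Subtype.ext (by
    show !![σ ((A * B).1 0 0), (x : F) * σ ((A * B).1 0 1);
      ((x⁻¹ : Fˣ) : F) * σ ((A * B).1 1 0), σ ((A * B).1 1 1)] = !![σ (A.1 0 0), (x : F) * σ (A.1 0 1); ((x⁻¹ : Fˣ) : F) * σ (A.1 1 0), σ (A.1 1 1)] *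
      !![σ (B.1 0 0), (x : F) * σ (B.1 0 1); ((x⁻¹ : Fˣ) : F) * σ (B.1 1 0), σ (B.1 1 1)]
    ext i j
    fin_cases i <;> fin_cases j <;>
      simp [Matrix.SpecialLinearGroup.coe_mul, Matrix.mul_apply, Fin.sum_univ_two, map_add,
        map_mul] <;> field_simp)

theorem twHom_coe (σ : RingAut F) (x : Fˣ) (A : SL(2, F)) : (twHom σ x A).1 =
    !![σ (A.1 0 0), (x : F) * σ (A.1 0 1); ((x⁻¹ : Fˣ) : F) * σ (A.1 1 0), σ (A.1 1 1)] := rfl

theorem twHom_comp (σ τ : RingAut F) (x y : Fˣ) (A : SL(2, F)) :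
    twHom σ x (twHom τ y A) = twHom (σ * τ) (x * Units.map (σ : F →* F) y) A := by
  refine Subtype.ext ?_
  ext i j
  fin_cases i <;> fin_cases j <;> simp [twHom_coe, map_mul, mul_assoc, mul_comm, mul_left_comm]

theorem twHom_one (A : SL(2, F)) : twHom (1 : RingAut F) 1 A = A := by
  refine Subtype.ext ?_
  ext i j
  fin_cases i <;> fin_cases j <;> simp [twHom_coe]

theorem twHom_injective (σ : RingAut F) (x : Fˣ) : Function.Injective (twHom σ x) := by
  intro A B h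
  have e : ∀ i j, (twHom σ x A).1 i j = (twHom σ x B).1 i j := fun i j => by rw [h]
  refine Subtype.ext ?_
  ext i j
  have e00 := e 0 0
  have e01 := e 0 1
  have e10 := e 1 0
  have e11 := e 1 1
  simp [twHom_coe] at e00 e01 e10 e11
  fin_cases i <;> fin_cases j <;> assumption

variable [Finite F]

/-- `twHom` as an automorphism. -/
noncomputable def tw (σ : RingAut F) (x : Fˣ) : MulAut SL(2, F) :=
  MulEquiv.ofBijective (twHom σ x)
    ⟨twHom_injective σ x, Finite.surjective_of_injective (twHom_injective σ x)⟩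

theorem tw_apply (σ : RingAut F) (x : Fˣ) (A : SL(2, F)) : tw σ x A = twHom σ x A := rfl

theorem tw_pow {σ : RingAut F} {μ : Fˣ} {ρ : ℤ} (hμ : Units.map (σ : F →* F) μ = μ ^ ρ) (i : ℕ)
    (A : SL(2, F)) : (tw σ μ ^ i) A = twHom (σ ^ i) (μ ^ geom ρ i) A := by
  induction i with
  | zero => simp [geom, twHom_one]
  | succ i ih =>
    rw [pow_succ' (tw σ μ), MulAut.mul_apply, ih, tw_apply, twHom_comp, pow_succ', map_zpow, hμ,
      ← zpow_mul, geom_succ, zpow_add_one, mul_comm μ]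

theorem conj_dg (u : Fˣ) (A : SL(2, F)) :
    MulAut.conj (dg u) A = twHom (1 : RingAut F) (u * u) A := by
  rw [MulAut.conj_apply, mul_inv_eq_iff_eq_mul]
  refine Subtype.ext ?_
  rw [Matrix.SpecialLinearGroup.coe_mul, Matrix.SpecialLinearGroup.coe_mul, dg_coe, twHom_coe]
  ext i j
  fin_cases i <;> fin_cases j <;> simp [Matrix.mul_apply, Fin.sum_univ_two] <;> field_simp

theorem tw_dg (σ : RingAut F) (x u : Fˣ) : tw σ x (dg u) = dg (Units.map (σ : F →* F) u) := by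
  refine Subtype.ext ?_
  rw [tw_apply, twHom_coe, dg_coe, dg_coe]
  ext i j
  fin_cases i <;> fin_cases j <;> simp

theorem tw_wM (σ : RingAut F) (x : Fˣ) : tw σ x wM = dg x * wM := by
  refine Subtype.ext ?_
  rw [tw_apply, twHom_coe, Matrix.SpecialLinearGroup.coe_mul, dg_coe, wM_coe]
  ext i j
  fin_cases i <;> fin_cases j <;> simp [Matrix.mul_apply, Fin.sum_univ_two]

theorem dg_injective : Function.Injective (dg : Fˣ →* SL(2, F)) := by
  intro u v h
  have := congrArg (fun A : SL(2, F) => A.1 0 0) h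
  simpa [dg_coe, Units.ext_iff] using this

theorem wM_conj_dg (u : Fˣ) : (wM : SL(2, F)) * dg u * wM⁻¹ = (dg u)⁻¹ := by
  rw [← map_inv, mul_inv_eq_iff_eq_mul]
  refine Subtype.ext ?_
  rw [Matrix.SpecialLinearGroup.coe_mul, Matrix.SpecialLinearGroup.coe_mul, dg_coe, dg_coe, wM_coe]
  ext i j
  fin_cases i <;> fin_cases j <;> simp [Matrix.mul_apply, Fin.sum_univ_two]

theorem wM_mul_self : (wM : SL(2, F)) * wM = dg (-1) := by
  refine Subtype.ext ?_
  rw [Matrix.SpecialLinearGroup.coe_mul, dg_coe, wM_coe]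
  ext i j
  fin_cases i <;> fin_cases j <;> simp [Matrix.mul_apply, Fin.sum_univ_two]

theorem wM_ne_dg (u : Fˣ) : (wM : SL(2, F)) ≠ dg u := fun h => by
  have := congrArg (fun A : SL(2, F) => A.1 0 0) h
  simp [dg_coe, wM_coe] at this
  exact u.ne_zero this.symm

theorem exists_conj_wM {i : Fˣ} (hi : i * i = -1) (h2 : (2 : F) ≠ 0) :
    ∃ P : SL(2, F), P * dg i * P⁻¹ = wM := by
  have hi' : (i : F) * i = -1 := by simpa using congrArg Units.val hi
  have hinv : ((i⁻¹ : Fˣ) : F) = -(i : F) := by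
    rw [inv_eq_of_mul_eq_one_right (show i * -i = 1 by rw [mul_neg, hi, neg_neg]), Units.val_neg]
  have hdet : (!![1, (i : F) / 2; (i : F), 1 / 2]).det = 1 := by
    rw [Matrix.det_fin_two_of]
    field_simp
    linear_combination -hi'
  obtain ⟨P, hP⟩ : ∃ P : SL(2, F), P.1 = !![1, (i : F) / 2; (i : F), 1 / 2] :=
    ⟨⟨_, hdet⟩, rfl⟩
  refine ⟨P, ?_⟩
  rw [mul_inv_eq_iff_eq_mul]
  refine Subtype.ext ?_
  rw [Matrix.SpecialLinearGroup.coe_mul, Matrix.SpecialLinearGroup.coe_mul, hP, dg_coe, wM_coe, hinv]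
  ext a b
  fin_cases a <;> fin_cases b <;> simp [Matrix.mul_apply, Fin.sum_univ_two] <;>
    (try field_simp) <;> (try linear_combination hi') <;> (try linear_combination -hi')

theorem map_center_tw (θ : MulAut SL(2, F)) :
    (center SL(2, F)).map (θ : SL(2, F) →* SL(2, F)) = center SL(2, F) :=
  characteristic_iff_map_eq.1 inferInstance θ

end twist

/-- The field, the element `μ` and the field automorphism. -/
theorem exists_field (j r : ℕ) {ρ : ℤ} (hρ : (4 : ℤ) ∣ ρ - 1)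
    (hpow : ρ ^ (2 ^ r) ≡ 1 [ZMOD 2 ^ (j + 2)]) :
    ∃ (F : Type) (_ : Field F) (_ : Finite F) (μ : Fˣ) (σ : RingAut F),
      (2 : F) ≠ 0 ∧ orderOf μ = 2 ^ (j + 2) ∧ Units.map (σ : F →* F) μ = μ ^ ρ ∧
      σ ^ (2 ^ r) = 1 ∧ Nat.gcd 2 (Nat.card F - 1) = 2 ∧
      ∃ u, Odd u ∧ Nat.card SL(2, F) = 2 ^ (j + 3) * u := by
  haveI : Fact (Nat.Prime 5) := ⟨by norm_num⟩
  let F := GaloisField 5 (2 ^ j)
  have hcard : Nat.card F = 5 ^ (2 ^ j) := GaloisField.card 5 (2 ^ j) (by positivity)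
  haveI : Finite F := Nat.finite_of_card_ne_zero (by rw [hcard]; positivity)
  letI : Fintype F := Fintype.ofFinite F
  obtain ⟨u, hu, e⟩ := five_pow_two_pow j
  obtain ⟨g, hg⟩ := IsCyclic.exists_ofOrder_eq_natCard (α := Fˣ)
  have hunits : orderOf g = 2 ^ (j + 2) * u := by
    rw [hg, Nat.card_units, hcard, e, Nat.add_sub_cancel]
  have hu0 : u ≠ 0 := hu.pos.ne'
  have hμ : orderOf (g ^ u) = 2 ^ (j + 2) := by
    rw [orderOf_pow' g hu0, hunits, Nat.gcd_eq_right (Dvd.intro_left _ rfl),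
      Nat.mul_div_cancel _ hu.pos]
  obtain ⟨k, hk⟩ := exists_five_pow j hρ
  set σ : RingAut F := (frobeniusEquiv F 5 : RingAut F) ^ k with hσ
  have happly : ∀ (i : ℕ) (x : F), ((frobeniusEquiv F 5 : RingAut F) ^ i) x = x ^ (5 ^ i) := by
    intro i
    induction i with
    | zero => intro x; simp
    | succ i ih =>
      intro x
      rw [pow_succ']
      show frobeniusEquiv F 5 (((frobeniusEquiv F 5 : RingAut F) ^ i) x) = _
      rw [ih, frobeniusEquiv_def, ← pow_mul, ← pow_succ]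
  refine ⟨F, inferInstance, inferInstance, g ^ u, σ, ?_, hμ, ?_, ?_, ?_, ?_⟩
  · intro h
    have h' : ((2 : ℕ) : F) = 0 := by simpa using h
    rw [CharP.cast_eq_zero_iff F 5] at h'
    norm_num at h'
  · have e1 : (g ^ u) ^ ρ = (g ^ u) ^ ((5 ^ k : ℕ) : ℤ) := by
      rw [zpow_eq_zpow_iff_modEq, hμ]
      push_cast
      exact hk.symm
    rw [e1, zpow_natCast]
    refine Units.ext ?_
    rw [Units.coe_map, Units.val_pow_eq_pow_val]
    exact happly k _
  · have hd : 2 ^ j ∣ k * 2 ^ r := by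
      rw [← ZMod.orderOf_five j, orderOf_dvd_iff_pow_eq_one]
      have h1 : ((5 : ℤ) ^ k) ^ (2 ^ r) ≡ 1 [ZMOD ((2 ^ (j + 2) : ℕ) : ℤ)] := by
        push_cast
        exact (hk.pow _).trans hpow
      rw [← ZMod.intCast_eq_intCast_iff] at h1
      push_cast at h1
      rw [pow_mul]
      exact h1
    refine RingEquiv.ext fun x => ?_
    rw [hσ, ← pow_mul, happly]
    obtain ⟨t, ht⟩ := hd
    rw [ht, pow_mul, ← hcard, Nat.card_eq_fintype_card, FiniteField.pow_card_pow]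
    rfl
  · rw [hcard, e, Nat.add_sub_cancel, pow_succ', mul_assoc]
    exact Nat.gcd_eq_left (Dvd.intro _ rfl)
  · refine ⟨5 ^ (2 ^ j) * (2 ^ (j + 1) * u + 1) * u, ?_, ?_⟩
    · exact (((show Odd 5 by decide).pow).mul
        (((Nat.even_pow.2 ⟨even_two, by omega⟩).mul_right u).add_one)).mul hu
    · rw [GLOrder.card_SL_two', hcard, e, Nat.add_sub_cancel]; ring

/-- The model in `SL₂`. -/
theorem exists_model_SL {n r : ℕ} {ρ l : ℤ} (hn : 2 ≤ n) (hρ : (4 : ℤ) ∣ ρ - 1)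
    (hpow : ρ ^ (2 ^ r) ≡ 1 [ZMOD 2 ^ n]) (hgeom : geom ρ (2 ^ r) ≡ 4 * l [ZMOD 2 ^ n]) :
    ∃ (L : Type) (_ : Group L) (_ : Finite L), Nonempty (LData L n r (2 ^ (n - 1)) ρ l) := by
  obtain ⟨j, rfl⟩ : ∃ j, n = j + 2 := ⟨n - 2, by omega⟩
  obtain ⟨F, _, _, μ, σ, h2, hμ, hσμ, hσ, -, hcard⟩ := exists_field j r hρ hpow
  have hhalf : (μ ^ 2 ^ (j + 1) : Fˣ) = -1 := by
    have h1 : ((μ ^ 2 ^ (j + 1) : Fˣ) : F) * ((μ ^ 2 ^ (j + 1) : Fˣ) : F) = 1 := by
      rw [← Units.val_mul, ← pow_add, ← two_mul, ← pow_succ', ← hμ, pow_orderOf_eq_one,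
        Units.val_one]
    rcases mul_self_eq_one_iff.1 h1 with h | h
    · have h' : μ ^ 2 ^ (j + 1) = 1 := Units.ext h
      rw [← orderOf_dvd_iff_pow_eq_one, hμ, Nat.pow_dvd_pow_iff_le_right (by norm_num)] at h'
      omega
    · exact Units.ext (by simpa using h)
  have hi : (μ ^ 2 ^ j : Fˣ) * μ ^ 2 ^ j = -1 := by rw [← pow_add, ← two_mul, ← pow_succ', hhalf]
  refine ⟨SL(2, F), inferInstance, inferInstance,
    ⟨{ C := dg μ, B := wM, θ := tw σ μ, rel := ⟨?_, wM_conj_dg μ, ?_, ?_⟩, θC := ?_, θB := tw_wM σ μ,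
       θpow := ?_, card := hcard, witness := ?_ }⟩⟩
  · rw [orderOf_injective _ dg_injective, hμ]
  · intro hm
    obtain ⟨i, hi⟩ := mem_zpowers_iff.1 hm
    rw [← map_zpow] at hi
    exact wM_ne_dg _ hi.symm
  · rw [show ((2 : ℤ) ^ (j + 2 - 1)) = ((2 ^ (j + 1) : ℕ) : ℤ) by push_cast; rfl, zpow_natCast,
      ← map_pow, hhalf, wM_mul_self]
  · rw [tw_dg, hσμ, map_zpow]
  · refine MulEquiv.ext fun A => ?_
    rw [tw_pow hσμ, hσ, ← map_zpow, conj_dg, ← zpow_add,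
      zpow_eq_zpow_iff_modEq.2 (by
        rw [hμ]; push_cast; rw [show 2 * l + 2 * l = 4 * l by ring]; exact hgeom :
        geom ρ (2 ^ r) ≡ 2 * l + 2 * l [ZMOD (orderOf μ : ℤ)])]
  · obtain ⟨P, hP⟩ := exists_conj_wM hi h2
    exact ⟨P, ((2 ^ j : ℕ) : ℤ), by rw [zpow_natCast, ← map_pow]; exact hP⟩

/-- The model in `PSL₂`. -/
theorem exists_model_PSL {n r : ℕ} {ρ l : ℤ} (hn : 1 ≤ n) (hρ : (4 : ℤ) ∣ ρ - 1)
    (hpow : ρ ^ (2 ^ r) ≡ 1 [ZMOD 2 ^ (n + 1)])
    (hgeom : geom ρ (2 ^ r) ≡ 4 * l [ZMOD 2 ^ (n + 1)]) :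
    ∃ (L : Type) (_ : Group L) (_ : Finite L), Nonempty (LData L n r 0 ρ l) := by
  obtain ⟨j, rfl⟩ : ∃ j, n = j + 1 := ⟨n - 1, by omega⟩
  obtain ⟨F, _, _, μ, σ, h2, hμ, hσμ, hσ, hgcd, u, hu, hcard⟩ := exists_field j r hρ hpow
  set π := QuotientGroup.mk' (center SL(2, F)) with hπ
  have hone : ((-1 : SL(2, F))) = dg (-1) := by
    refine Subtype.ext ?_
    rw [dg_coe]
    ext a b
    fin_cases a <;> fin_cases b <;> simp
  have hker : ∀ x : Fˣ, π (dg x) = 1 ↔ x * x = 1 := by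
    intro x
    rw [hπ, QuotientGroup.mk'_apply, QuotientGroup.eq_one_iff, PSL2.mem_center_iff', hone,
      dg_injective.eq_iff, ← map_one (dg : Fˣ →* SL(2, F)), dg_injective.eq_iff, Units.ext_iff,
      Units.ext_iff, Units.ext_iff, Units.val_mul, Units.val_neg, Units.val_one,
      mul_self_eq_one_iff]
  have hhalf : (μ ^ 2 ^ (j + 1) : Fˣ) = -1 := by
    have h1 : ((μ ^ 2 ^ (j + 1) : Fˣ) : F) * ((μ ^ 2 ^ (j + 1) : Fˣ) : F) = 1 := by
      rw [← Units.val_mul, ← pow_add, ← two_mul, ← pow_succ', ← hμ, pow_orderOf_eq_one,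
        Units.val_one]
    rcases mul_self_eq_one_iff.1 h1 with h | h
    · have h' : μ ^ 2 ^ (j + 1) = 1 := Units.ext h
      rw [← orderOf_dvd_iff_pow_eq_one, hμ, Nat.pow_dvd_pow_iff_le_right (by norm_num)] at h'
      omega
    · exact Units.ext (by simpa using h)
  have hi : (μ ^ 2 ^ j : Fˣ) * μ ^ 2 ^ j = -1 := by rw [← pow_add, ← two_mul, ← pow_succ', hhalf]
  let θ : MulAut (PSL2.PSL2 F) := QuotientGroup.congr _ _ (tw σ μ) (map_center_tw _)
  have hθπ : ∀ A, θ (π A) = π (tw σ μ A) := fun A => rfl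
  have hθpow : ∀ (i : ℕ) (A : SL(2, F)), (θ ^ i) (π A) = π ((tw σ μ ^ i) A) := by
    intro i
    induction i with
    | zero => intro A; rfl
    | succ i ih =>
      intro A
      rw [pow_succ', MulAut.mul_apply, ih, hθπ, pow_succ', MulAut.mul_apply]
  refine ⟨PSL2.PSL2 F, inferInstance, inferInstance,
    ⟨{ C := π (dg μ), B := π wM, θ := θ, rel := ⟨?_, ?_, ?_, ?_⟩, θC := ?_, θB := ?_,
       θpow := ?_, card := ⟨u, hu, ?_⟩, witness := ?_ }⟩⟩
  · refine orderOf_eq_prime_pow ?_ ?_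
    · rw [← map_pow, ← map_pow, hker, ← pow_add, ← two_mul, ← pow_succ',
        ← orderOf_dvd_iff_pow_eq_one, hμ, Nat.pow_dvd_pow_iff_le_right (by norm_num)]
      omega
    · rw [← map_pow, ← map_pow, hker, ← pow_add, ← two_mul, ← pow_succ',
        ← orderOf_dvd_iff_pow_eq_one, hμ]
  · rw [← map_inv π wM, ← map_mul, ← map_mul, wM_conj_dg, map_inv]
  · intro hm
    obtain ⟨i, hi⟩ := mem_zpowers_iff.1 hm
    rw [← map_zpow, ← map_zpow] at hi
    have hc := QuotientGroup.eq.1 hi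
    rw [PSL2.mem_center_iff', inv_mul_eq_iff_eq_mul, mul_one, inv_mul_eq_iff_eq_mul, hone,
      ← map_mul] at hc
    rcases hc with h | h <;> exact wM_ne_dg _ h
  · rw [zpow_zero, ← map_mul, wM_mul_self, hker, neg_one_mul, neg_neg]
  · rw [hθπ, tw_dg, hσμ, map_zpow, map_zpow]
  · rw [hθπ, tw_wM, map_mul]
  · refine MulEquiv.ext fun q => ?_
    obtain ⟨A, rfl⟩ := QuotientGroup.mk'_surjective (center SL(2, F)) q
    show (θ ^ 2 ^ r) (π A) = _
    rw [hθpow, tw_pow hσμ, hσ, ← map_zpow, ← map_zpow, MulAut.conj_apply, ← map_inv, ← map_mul,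
      ← map_mul, ← MulAut.conj_apply, conj_dg, ← zpow_add,
      zpow_eq_zpow_iff_modEq.2 (by
        rw [hμ]; push_cast; rw [show 2 * l + 2 * l = 4 * l by ring]; exact hgeom :
        geom ρ (2 ^ r) ≡ 2 * l + 2 * l [ZMOD (orderOf μ : ℤ)])]
  · have h := GLOrder.card_PSL_mul (ι := Fin 2) (F := F)
    rw [Fintype.card_fin, hgcd, hcard, pow_succ', mul_assoc] at h
    exact Nat.eq_of_mul_eq_mul_left two_pos h
  · obtain ⟨P, hP⟩ := exists_conj_wM hi h2
    refine ⟨π P, ((2 ^ j : ℕ) : ℤ), ?_⟩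
    rw [zpow_natCast, ← map_pow, ← map_pow, ← map_inv, ← map_mul, ← map_mul, hP]

end Cfsg.Agent.BicyclicFusion.Realize
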